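import Cfsg.Agent.Lib.J4Sylow.Large
import Cfsg.Agent.Lib.J4Five.Main

/-!
# Janko four type: the five large primes, from the order of the group
-/

set_option autoImplicit false

namespace Cfsg.Agent.J4Sylow

open Subgroup Cfsg.Agent.J4Local

variable {G : Type*} [Group G] [Finite G] [IsSimpleGroup G] (hG : ¬ IsMulCommutative G) (hord : Nat.card G = order)
  {z : G} {P : Subgroup G} (X : J4Eleven.Chart z P)

include hG X in
theorem five_free (f : G) (hf : orderOf f = 5) (q : ℕ) (hq : q ∈ bigs) :
    ¬ q ∣ Nat.card ↥(centralizer ({f} : Set G)) := by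
  obtain ⟨-, -, -, hN⟩ := J4Five.order_five hG X (zpowers f) (by rw [Nat.card_zpowers, hf])
  intro hd
  have hle : centralizer ({f} : Set G) ≤ normalizer (zpowers f : Set G) := by
    refine le_trans (le_of_eq ?_) (centralizer_le_normalizer _)
    rw [zpowers_eq_closure, centralizer_closure]
  have h1 := hd.trans (card_dvd_of_le hle)
  rw [hN] at h1
  simp only [bigs, List.mem_cons, List.not_mem_nil, or_false] at hq
  rcases hq with rfl | rfl | rfl | rfl | rfl <;> norm_num at h1

include hG hord X in
/-- The five large primes. -/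
theorem large_primes :
    (∀ U : Sylow 23 G, centralizer ((U : Subgroup G) : Set G) = (U : Subgroup G) ∧
      Nat.card ↥(normalizer ((U : Subgroup G) : Set G)) = 23 * 22) ∧
    (∀ U : Sylow 29 G, centralizer ((U : Subgroup G) : Set G) = (U : Subgroup G) ∧
      Nat.card ↥(normalizer ((U : Subgroup G) : Set G)) = 29 * 28) ∧
    (∀ U : Sylow 31 G, centralizer ((U : Subgroup G) : Set G) = (U : Subgroup G) ∧
      Nat.card ↥(normalizer ((U : Subgroup G) : Set G)) = 31 * 10) ∧
    (∀ U : Sylow 37 G, centralizer ((U : Subgroup G) : Set G) = (U : Subgroup G) ∧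
      Nat.card ↥(normalizer ((U : Subgroup G) : Set G)) = 37 * 12) ∧
    (∀ U : Sylow 43 G, centralizer ((U : Subgroup G) : Set G) = (U : Subgroup G) ∧
      Nat.card ↥(normalizer ((U : Subgroup G) : Set G)) = 43 * 14) := by
  refine ⟨?_, ?_, ?_, ?_, ?_⟩ <;> intro U <;>
    exact sylow_big hG hord X (five_free hG X) (by simp [bigs]) U

end Cfsg.Agent.J4Sylow
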