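import Cfsg.Agent.Lib.J4Sylow.Sylow
import Cfsg.Agent.Lib.J4V.Unique

/-!
# Janko four type: the Sylow 11-subgroups are not abelian

If one is abelian, an element `v` of it in the normaliser `M` of the subgroup `V` of order `2 ^ 11` and a suitable
`x` commuting with `v` give a conjugate of `M` meeting `M` in a group with normal 2-complement above `⟨v⟩` whose
2-part is a hyperplane of both elementary subgroups, so `x` normalises `V`.
-/

set_option autoImplicit false
set_option linter.style.haveILetI false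
set_option linter.unusedSectionVars false

namespace Cfsg.Agent.J4Sylow

open Subgroup Cfsg.Agent.J4Local
open scoped Pointwise

/-- Counting with two subgroups. -/
theorem card_mul_card_le {G : Type*} [Group G] [Finite G] (A B : Subgroup G) :
    Nat.card A * Nat.card B ≤ Nat.card G * Nat.card ↥(A ⊓ B) := by
  classical
  haveI : Fintype G := Fintype.ofFinite G
  haveI : Fintype ↥A := Fintype.ofFinite _
  haveI : Fintype ↥B := Fintype.ofFinite _
  haveI : Fintype ↥(A ⊓ B) := Fintype.ofFinite _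
  simp only [Nat.card_eq_fintype_card]
  rw [← Fintype.card_prod, mul_comm]
  refine Finset.card_le_mul_card_image_of_maps_to (f := fun p : ↥A × ↥B => (p.1 : G) * p.2)
    (s := Finset.univ) (t := Finset.univ) (fun _ _ => Finset.mem_univ _) (Fintype.card ↥(A ⊓ B)) ?_
  intro g _
  rcases Finset.eq_empty_or_nonempty (Finset.univ.filter fun p : ↥A × ↥B => (p.1 : G) * p.2 = g) with e | ⟨p0, hp0⟩
  · rw [e, Finset.card_empty]; exact Nat.zero_le _
  rw [← Fintype.card_coe]
  rw [Finset.mem_filter] at hp0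
  have hmem : ∀ p : ↥A × ↥B, (p.1 : G) * p.2 = g → (p0.1 : G)⁻¹ * p.1 ∈ A ⊓ B := fun p hp => by
    refine Subgroup.mem_inf.2 ⟨mul_mem (inv_mem p0.1.2) p.1.2, ?_⟩
    have e : (p0.1 : G)⁻¹ * p.1 = (p0.2 : G) * (p.2 : G)⁻¹ := by
      rw [inv_mul_eq_iff_eq_mul, ← mul_assoc, hp0.2, ← hp, mul_inv_cancel_right]
    rw [e]
    exact mul_mem p0.2.2 (inv_mem p.2.2)
  refine Fintype.card_le_of_injective (fun p => ⟨_, hmem p.1 (Finset.mem_filter.1 p.2).2⟩) fun p q e => ?_
  have e1 : (p.1.1 : G) = q.1.1 := mul_left_cancel (congrArg Subtype.val e)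
  have e2 : (p.1.2 : G) = q.1.2 := by
    have := (Finset.mem_filter.1 p.2).2.trans (Finset.mem_filter.1 q.2).2.symm
    rw [e1] at this
    exact mul_left_cancel this
  exact Subtype.ext (Prod.ext (Subtype.ext e1) (Subtype.ext e2))

/-- The arithmetic of the conjugates of `u` in the core. -/
theorem count_ten {s : ℕ} (h11 : s % 11 = 10) (h3 : s % 3 = 1) (h5 : 5 ∣ s) (hle : s ≤ 1331)
    (hd : s ∣ 2716490453483520) : s = 10 := by
  have key : ∀ t ∈ Finset.range 25, (55 * t + 10) % 3 = 1 → 55 * t + 10 ∣ 2716490453483520 → t = 0 := by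
    decide +kernel
  obtain ⟨t, rfl⟩ : ∃ t, s = 55 * t + 10 := ⟨(s - 10) / 55, by omega⟩
  have := key t (Finset.mem_range.2 (by omega)) h3 hd
  omega

variable {G : Type*} [Group G] [Finite G] [IsSimpleGroup G] (hG : ¬ IsMulCommutative G) (hord : Nat.card G = order)
  {z : G} {P : Subgroup G} (X : J4Eleven.Chart z P)
  {z' : G} {P' : Subgroup G} (Y : J4Eleven.Chart z' P') {u : G} (hu : u ∈ CC z' P') (h11 : orderOf u = 11)
  {U : Subgroup G} (D : CoreData u z' U) (hab : ∀ a ∈ U, ∀ b ∈ U, a * b = b * a)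

include hG hord Y hu h11 D hab in
/-- The normaliser of an abelian core fixes `⟨u⟩`. -/
theorem abelian_norm {n : G} (hn : n ∈ normalizer (U : Set G)) : n * u * n⁻¹ ∈ zpowers u := by
  classical
  set N := normalizer (U : Set G)
  have hUC : centralizer ({u} : Set G) ≤ N := fun c hc => M22Order.mem_normalizer_of_conj fun a ha => D.normal c hc a ha
  set S := {w : G | ∃ g ∈ N, g * u * g⁻¹ = w}
  have horb := M22Order.ncard_conj_orbit N (hUC (mem_centralizer_singleton_iff.2 rfl) : u ∈ N)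
  rw [show (centralizer ({u} : Set G) ⊓ N : Subgroup G) = centralizer ({u} : Set G) from inf_eq_left.2 hUC] at horb
  have hcC : Nat.card ↥(centralizer ({u} : Set G)) = 31944 := by
    rw [card_cent Y hu h11 D, card_core hG hord Y hu h11 D]; norm_num
  rw [hcC] at horb
  set s := S.ncard
  have hSU : ∀ w ∈ S, w ∈ U := by
    rintro _ ⟨g, hg, rfl⟩
    exact M22Order.conj_mem_of_mem_normalizer hg D.x_mem
  -- divisibility and congruence
  haveI : Fact (Nat.Prime 11) := ⟨by norm_num⟩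
  let Us : Sylow 11 G := Sylow.ofCard U (core_card_sylow hG hord Y hu h11 D)
  have hUs : (Us : Subgroup G) = U := Sylow.coe_ofCard ..
  have hcong := card_sylow_modEq_one 11 G
  rw [Sylow.card_eq_index_normalizer Us] at hcong
  have hNe : normalizer ((Us : Subgroup G) : Set G) = N := by rw [hUs]
  rw [show (normalizer (Us : Set G)).index = N.index by rw [← hNe]; rfl] at hcong
  have hNi := N.card_mul_index
  rw [← horb, hord] at hNi
  have hq : s * N.index = 2716490453483520 := by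
    have : 31944 * (s * N.index) = 31944 * 2716490453483520 := by
      rw [show 31944 * 2716490453483520 = order by norm_num [order], ← hNi]; ring
    exact Nat.eq_of_mul_eq_mul_left (by norm_num) this
  have hs11 : s % 11 = 10 := by
    have h4 : (s * (N.index % 11)) % 11 = 2716490453483520 % 11 := by rw [Nat.mul_mod_mod, hq]
    rw [show N.index % 11 = 1 from hcong, mul_one] at h4
    rw [h4]
  -- the whole line
  have hline : ∀ w ∈ zpowers u, w ≠ 1 → w ∈ S := by
    intro w hw hw1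
    rw [mem_zpowers_iff_mem_range_orderOf, Finset.mem_image] at hw
    obtain ⟨k, hk, rfl⟩ := hw
    rw [Finset.mem_range, h11] at hk
    have hk0 : ¬ 11 ∣ k := fun hd => hw1 (by
      obtain ⟨c, rfl⟩ := hd
      rw [pow_mul, pow_eleven h11, one_pow])
    obtain ⟨m, -, hm⟩ := exists_aut Y hu h11 hk0
    exact ⟨m, norm_core hG hord Y hu h11 D (by rw [hm]; exact pow_mem (mem_zpowers u) k), hm⟩
  -- the rest of the orbit in triples
  obtain ⟨p, hp, hp1, -, hp3⟩ := Y.L.J.exists_gen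
  haveI : Fact (Nat.Prime 3) := ⟨Nat.prime_three⟩
  have hpu : p * u = u * p := (commute_CC_P hu hp).symm
  have hpN : p ∈ N := hUC (mem_centralizer_singleton_iff.2 hpu)
  set R := S \ (zpowers u : Set G)
  have hRmem : ∀ w ∈ R, p * w * p⁻¹ ∈ R := by
    rintro w ⟨⟨g, hg, rfl⟩, hw⟩
    refine ⟨⟨p * g, mul_mem hpN hg, by group⟩, fun h => hw ?_⟩
    obtain ⟨k, hk⟩ := mem_zpowers_iff.1 h
    have e : g * u * g⁻¹ = p⁻¹ * u ^ k * p := by rw [hk]; group
    rw [SetLike.mem_coe, e, mul_assoc, ← ((show Commute p u from hpu).zpow_right k).eq, inv_mul_cancel_left]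
    exact zpow_mem (mem_zpowers u) k
  let f : ↥R → ↥R := fun w => ⟨p * w * p⁻¹, hRmem w w.2⟩
  have hit : ∀ (n : ℕ) (w : ↥R), ((f^[n] w : ↥R) : G) = p ^ n * w * (p ^ n)⁻¹ := by
    intro n w
    induction n with
    | zero => simp
    | succ n ih =>
      rw [Function.iterate_succ_apply', pow_succ']
      show p * ((f^[n] w : ↥R) : G) * p⁻¹ = _
      rw [ih]; group
  have h3 := J4Seven.card_fixed_modEq f (p := 3) fun w => Subtype.ext (by rw [hit, hp3]; simp)
  have hnone : Nat.card {w : ↥R // f w = w} = 0 := by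
    rw [Nat.card_eq_zero]
    left
    refine ⟨fun w => ?_⟩
    have e : p * (w.1 : G) * p⁻¹ = w.1 := congrArg Subtype.val w.2
    have hpC : p ∈ CH z' u := ⟨Y.L.J.P_le_HH hp, mem_centralizer_singleton_iff.2 hpu⟩
    have hmem := semiregular hG hord Y hu h11 D hpC (hSU _ w.1.2.1) w.1.2.2 (mul_inv_eq_iff_eq_mul.1 e)
    have h4 := (zpowers u).orderOf_dvd_natCard hmem
    rw [Nat.card_zpowers, h11, orderOf_eq_prime hp3 hp1] at h4
    norm_num at h4
  rw [hnone, Nat.card_coe_set_eq] at h3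
  have hinter : S ∩ (zpowers u : Set G) = (zpowers u : Set G) \ {1} := by
    ext w
    constructor
    · rintro ⟨⟨g, hg, rfl⟩, hw⟩
      refine ⟨hw, fun e => ?_⟩
      rw [Set.mem_singleton_iff, conj_eq_one_iff] at e
      rw [e, orderOf_one] at h11
      norm_num at h11
    · rintro ⟨hw, hw1⟩
      exact ⟨hline w hw hw1, hw⟩
  have hsplit := Set.ncard_inter_add_ncard_sdiff_eq_ncard S (zpowers u : Set G) (Set.toFinite _)
  rw [hinter, Set.ncard_sdiff_singleton_of_mem (one_mem _), ← Nat.card_coe_set_eq,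
    show Nat.card ↥(zpowers u : Set G) = 11 from (Nat.card_zpowers u).trans h11] at hsplit
  have hs3 : s % 3 = 1 := by
    have hR : R.ncard = (S \ (zpowers u : Set G)).ncard := rfl
    rw [show R.ncard ≡ 0 [MOD 3] ↔ R.ncard % 3 = 0 from Iff.rfl] at h3
    show S.ncard % 3 = 1
    omega
  -- ten divides, as `n` permutes the lines
  have hs10 : 5 ∣ s := by
    obtain ⟨m, -, hm⟩ := exists_aut Y hu h11 (k := 3) (by norm_num)
    let g : ↥S → ↥S := fun w => ⟨(w : G) ^ 3, by
      obtain ⟨a, ha, e⟩ := w.2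
      refine ⟨a * m, mul_mem ha (norm_core hG hord Y hu h11 D (by rw [hm]; exact pow_mem (mem_zpowers u) 3)), ?_⟩
      rw [← e, conj_pow, ← hm]; group⟩
    haveI : Fact (Nat.Prime 5) := ⟨by norm_num⟩
    have hg : ∀ (n : ℕ) (w : ↥S), ((g^[n] w : ↥S) : G) = (w : G) ^ 3 ^ n := by
      intro n w
      induction n with
      | zero => simp
      | succ n ih =>
        rw [Function.iterate_succ_apply', pow_succ, pow_mul]
        show ((g^[n] w : ↥S) : G) ^ 3 = _
        rw [ih]
    have hSo : ∀ w ∈ S, orderOf w = 11 := by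
      rintro _ ⟨a, -, rfl⟩
      exact (MulEquiv.orderOf_eq (MulAut.conj a) u).trans h11
    have h5 := J4Seven.card_fixed_modEq g (p := 5) fun w => Subtype.ext (by
      rw [hg, show (3 : ℕ) ^ 5 = 11 * 22 + 1 by norm_num, pow_succ, pow_mul,
        show (w : G) ^ 11 = 1 from hSo _ w.2 ▸ pow_orderOf_eq_one (w : G), one_pow, one_mul])
    have hz5 : Nat.card {w : ↥S // g w = w} = 0 := by
      rw [Nat.card_eq_zero]
      left
      refine ⟨fun w => ?_⟩
      have e : (w.1 : G) ^ 3 = w.1 := congrArg Subtype.val w.2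
      have h6 : (w.1 : G) ^ 2 = 1 := by
        rw [pow_succ] at e
        simpa using e
      have h7 := orderOf_dvd_of_pow_eq_one h6
      rw [hSo _ w.1.2] at h7
      norm_num at h7
    rw [hz5, Nat.card_coe_set_eq] at h5
    exact Nat.modEq_zero_iff_dvd.1 h5
  have hle : s ≤ 1331 := by
    have h1 := Set.ncard_le_ncard (t := (U : Set G)) (fun w hw => hSU w hw) (Set.toFinite _)
    rw [← Nat.card_coe_set_eq (U : Set G), show Nat.card ↥(U : Set G) = 11 ^ 3 from card_core hG hord Y hu h11 D] at h1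
    exact h1
  have hs : S.ncard = 10 := count_ten hs11 hs3 hs10 hle ⟨N.index, hq.symm⟩
  have hRempty : R.ncard = 0 := by
    have hR : R.ncard = (S \ (zpowers u : Set G)).ncard := rfl
    omega
  by_contra hcon
  rw [Set.ncard_eq_zero (Set.toFinite _)] at hRempty
  exact (Set.eq_empty_iff_forall_notMem.1 hRempty (n * u * n⁻¹)) ⟨⟨n, hn, rfl⟩, hcon⟩

set_option maxHeartbeats 1000000 in
include hG hord X Y hu h11 D hab in
/-- There is no abelian core. -/
theorem abelian_false (hzz : IsConj z z') {v t : G} (V : VData X v t) (hv : v ∈ U) : False := by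
  classical
  haveI : Fact (Nat.Prime 11) := ⟨by norm_num⟩
  haveI : Fact (Nat.Prime 2) := ⟨Nat.prime_two⟩
  have hv11 := V.v_pow
  have hcU := card_core hG hord Y hu h11 D
  have hnz : ∀ j : G, IsConj z' j → j * v ≠ v * j := fun j hj => V.no_z hG hord X (hzz.trans hj)
  have hvu : v ∉ zpowers u := fun h => by
    obtain ⟨k, rfl⟩ := mem_zpowers_iff.1 h
    exact hnz z' (IsConj.refl z') ((show Commute z' u from (mem_HH.1 hu.1).symm).zpow_right k).eq
  -- `U` is normal in `C(v)`
  obtain ⟨O, DO⟩ := V.coreV hG hord X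
  set Cv := centralizer ({v} : Set G)
  have hUC : U ≤ Cv := fun a ha => mem_centralizer_singleton_iff.2 (hab a ha v hv)
  have hUO : U ≤ O := by
    intro a ha
    let N : Subgroup ↥Cv := O.subgroupOf Cv
    haveI : N.Normal := ⟨fun x hx g => DO.normal g g.2 x hx⟩
    have hidx : N.index = 2 := by
      have h1 := N.card_mul_index
      rw [Nat.card_congr (subgroupOfEquivOfLe DO.le).toEquiv, V.card_cent hG hord X DO] at h1
      have : 0 < Nat.card O := Nat.card_pos
      nlinarith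
    have h2 : orderOf (QuotientGroup.mk' N ⟨a, hUC ha⟩) ∣ 11 := orderOf_dvd_of_pow_eq_one (by
      rw [← map_pow, show (⟨a, hUC ha⟩ : ↥Cv) ^ 11 = 1 from Subtype.ext (pow_core hG hord Y hu h11 D ha), map_one])
    have h3 : orderOf (QuotientGroup.mk' N ⟨a, hUC ha⟩) ∣ 2 := hidx ▸ orderOf_dvd_natCard _
    exact mem_subgroupOf.1 ((QuotientGroup.eq_one_iff (N := N) (⟨a, hUC ha⟩ : ↥Cv)).1
      (orderOf_eq_one_iff.1 (Nat.eq_one_of_dvd_coprimes (by norm_num : Nat.Coprime 11 2) h2 h3)))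
  have ht_inv : ∀ a ∈ U, t * a * t⁻¹ ∈ U := fun a ha => by
    have h1 := DO.inv a (hUO ha)
    have e : t * a * t⁻¹ = (t * a * t⁻¹ * a) * a⁻¹ := by group
    rw [e]
    exact mul_mem ((Subgroup.zpowers_le.2 hv) h1) (inv_mem ha)
  have hO11 : ∀ a ∈ O, a ^ 11 = 1 → a ∈ U := by
    intro a ha ha11
    let N : Subgroup ↥O := U.subgroupOf O
    haveI : N.Normal := ⟨fun x hx g => DO.conj_mem hUO hv g.2 hx⟩
    have hidx : ¬ 11 ∣ N.index := fun hd => by
      have h1 : 11 ^ 4 ∣ Nat.card O := by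
        rw [← N.card_mul_index, Nat.card_congr (subgroupOfEquivOfLe hUO).toEquiv, hcU, pow_succ]
        exact Nat.mul_dvd_mul_left _ hd
      have h2 := h1.trans (hord ▸ card_subgroup_dvd_card O)
      norm_num [order] at h2
    have h2 : orderOf (QuotientGroup.mk' N ⟨a, ha⟩) ∣ 11 := orderOf_dvd_of_pow_eq_one (by
      rw [← map_pow, show (⟨a, ha⟩ : ↥O) ^ 11 = 1 from Subtype.ext ha11, map_one])
    have h3 : orderOf (QuotientGroup.mk' N ⟨a, ha⟩) ∣ N.index := orderOf_dvd_natCard _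
    exact mem_subgroupOf.1 ((QuotientGroup.eq_one_iff (N := N) (⟨a, ha⟩ : ↥O)).1 (orderOf_eq_one_iff.1
      (Nat.eq_one_of_dvd_coprimes ((Nat.Prime.coprime_iff_not_dvd (by norm_num)).2 hidx) h2 h3)))
  have hnormU : ∀ g : G, g * v * g⁻¹ ∈ zpowers v → g ∈ normalizer (U : Set G) := by
    intro g hg
    refine M22Order.mem_normalizer_of_conj fun a ha => ?_
    have hcomm : g * a * g⁻¹ ∈ Cv := by
      have hgen : zpowers (g * v * g⁻¹) = zpowers v := by
        refine eq_of_le_of_card_ge (Subgroup.zpowers_le.2 hg) ?_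
        rw [Nat.card_zpowers, Nat.card_zpowers,
          show orderOf (g * v * g⁻¹) = orderOf v from MulEquiv.orderOf_eq (MulAut.conj g) v]
      obtain ⟨i, hi⟩ := mem_zpowers_iff.1 (hgen.symm ▸ mem_zpowers v)
      refine mem_centralizer_singleton_iff.2 ?_
      rw [← hi]
      have h1 : Commute (g * a * g⁻¹) (g * v * g⁻¹) := by
        show g * a * g⁻¹ * (g * v * g⁻¹) = g * v * g⁻¹ * (g * a * g⁻¹)
        calc g * a * g⁻¹ * (g * v * g⁻¹) = g * (a * v) * g⁻¹ := by group
          _ = _ := by rw [hab a ha v hv]; group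
      exact (h1.zpow_right i).eq
    have ha11 : (g * a * g⁻¹) ^ 11 = 1 := by
      rw [conj_pow, pow_core hG hord Y hu h11 D ha, mul_one, mul_inv_cancel]
    refine hO11 _ ?_ ha11
    let N : Subgroup ↥Cv := O.subgroupOf Cv
    haveI : N.Normal := ⟨fun x hx g => DO.normal g g.2 x hx⟩
    have hidx : N.index = 2 := by
      have h1 := N.card_mul_index
      rw [Nat.card_congr (subgroupOfEquivOfLe DO.le).toEquiv, V.card_cent hG hord X DO] at h1
      have : 0 < Nat.card O := Nat.card_pos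
      nlinarith
    have h2 : orderOf (QuotientGroup.mk' N ⟨_, hcomm⟩) ∣ 11 := orderOf_dvd_of_pow_eq_one (by
      rw [← map_pow, show (⟨_, hcomm⟩ : ↥Cv) ^ 11 = 1 from Subtype.ext ha11, map_one])
    have h3 : orderOf (QuotientGroup.mk' N ⟨_, hcomm⟩) ∣ 2 := hidx ▸ orderOf_dvd_natCard _
    exact mem_subgroupOf.1 ((QuotientGroup.eq_one_iff (N := N) (⟨_, hcomm⟩ : ↥Cv)).1
      (orderOf_eq_one_iff.1 (Nat.eq_one_of_dvd_coprimes (by norm_num : Nat.Coprime 11 2) h2 h3)))
  -- the part inverted by `z'`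
  have hzn : ∀ a ∈ U, z' * a * z'⁻¹ ∈ U := fun a ha =>
    D.normal z' (mem_centralizer_singleton_iff.2 (mem_HH.1 hu.1).symm) a ha
  set A : Subgroup G :=
    { carrier := {a | a ∈ U ∧ z' * a * z'⁻¹ = a⁻¹}
      one_mem' := ⟨one_mem _, by simp⟩
      mul_mem' := fun {a b} ha hb => ⟨mul_mem ha.1 hb.1, by
        calc z' * (a * b) * z'⁻¹ = (z' * a * z'⁻¹) * (z' * b * z'⁻¹) := by group
          _ = a⁻¹ * b⁻¹ := by rw [ha.2, hb.2]
          _ = _ := by rw [← mul_inv_rev, hab b hb.1 a ha.1]⟩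
      inv_mem' := fun {a} ha => ⟨inv_mem ha.1, by rw [← conj_inv, ha.2]⟩ } with hAdef
  have hAu : ∀ w ∈ zpowers u, w ∈ A → w = 1 := by
    intro w hw hwA
    obtain ⟨k, rfl⟩ := mem_zpowers_iff.1 hw
    have e := hwA.2
    rw [((show Commute z' u from (mem_HH.1 hu.1).symm).zpow_right k).eq, mul_inv_cancel_right] at e
    have h2 : (u ^ k) ^ 2 = 1 := by rw [pow_two]; nth_rewrite 1 [e]; exact inv_mul_cancel _
    have h3 := orderOf_dvd_of_pow_eq_one h2
    have h4 : orderOf (u ^ k) ∣ 11 := by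
      rw [← h11, ← Nat.card_zpowers u]; exact (zpowers u).orderOf_dvd_natCard (zpow_mem (mem_zpowers u) k)
    exact orderOf_eq_one_iff.1 (Nat.eq_one_of_dvd_coprimes (by norm_num : Nat.Coprime 2 11) h3 h4)
  have hdec : ∀ a ∈ U, ∃ w ∈ zpowers u, ∃ c ∈ A, a = w * c := by
    intro a ha
    set w := (z' * a * z'⁻¹ * a) ^ 6
    have hw0 := D.inv a ha
    refine ⟨w, pow_mem hw0 6, w⁻¹ * a, ⟨mul_mem (inv_mem (D.zpowers_le (pow_mem hw0 6))) ha, ?_⟩, by group⟩
    have hwfix : z' * w * z'⁻¹ = w := by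
      have hwm : w ∈ zpowers u := pow_mem hw0 6
      obtain ⟨k, hk⟩ := mem_zpowers_iff.1 hwm
      rw [← hk, ((show Commute z' u from (mem_HH.1 hu.1).symm).zpow_right k).eq, mul_inv_cancel_right]
    have hw2 : w * w = z' * a * z'⁻¹ * a := by
      have h12 : (z' * a * z'⁻¹ * a) ^ 11 = 1 := pow_core hG hord Y hu h11 D (D.zpowers_le hw0)
      show (z' * a * z'⁻¹ * a) ^ 6 * (z' * a * z'⁻¹ * a) ^ 6 = _
      rw [← pow_add, show 6 + 6 = 11 + 1 from rfl, pow_succ, h12, one_mul]
    calc z' * (w⁻¹ * a) * z'⁻¹ = (z' * w * z'⁻¹)⁻¹ * ((z' * a * z'⁻¹ * a) * a⁻¹) := by group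
      _ = w⁻¹ * (w * w * a⁻¹) := by rw [hwfix, hw2]
      _ = w * a⁻¹ := by group
      _ = a⁻¹ * w := hab _ (D.zpowers_le (pow_mem hw0 6)) _ (inv_mem ha)
      _ = _ := by group
  have hnA : ∀ g ∈ normalizer (U : Set G), ∀ a ∈ A, g * a * g⁻¹ ∈ A := by
    intro g hg a ha
    refine ⟨M22Order.conj_mem_of_mem_normalizer hg ha.1, ?_⟩
    have hgu := abelian_norm hG hord Y hu h11 D hab hg
    have hjC : g * z' * g⁻¹ ∈ centralizer ({u} : Set G) := by
      have hgen : zpowers (g * u * g⁻¹) = zpowers u := by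
        refine eq_of_le_of_card_ge (Subgroup.zpowers_le.2 hgu) ?_
        rw [Nat.card_zpowers, Nat.card_zpowers,
          show orderOf (g * u * g⁻¹) = orderOf u from MulEquiv.orderOf_eq (MulAut.conj g) u]
      obtain ⟨i, hi⟩ := mem_zpowers_iff.1 (hgen.symm ▸ mem_zpowers u)
      refine mem_centralizer_singleton_iff.2 ?_
      rw [← hi]
      have h1 : Commute (g * z' * g⁻¹) (g * u * g⁻¹) := by
        show g * z' * g⁻¹ * (g * u * g⁻¹) = g * u * g⁻¹ * (g * z' * g⁻¹)
        calc g * z' * g⁻¹ * (g * u * g⁻¹) = g * (z' * u) * g⁻¹ := by group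
          _ = _ := by rw [(mem_HH.1 hu.1).symm]; group
      exact (h1.zpow_right i).eq
    -- it acts on `U` as `z'` does
    obtain ⟨o, ho, k, hk, e⟩ := D.dec _ hjC
    have hkC : k ∈ CH z' u := mem_inf.2 ⟨(mem_inf.1 hk).2, (mem_inf.1 hk).1⟩
    have hk2 : k * k ∈ zpowers u := by
      have hjj : g * z' * g⁻¹ * (g * z' * g⁻¹) = 1 := by
        calc g * z' * g⁻¹ * (g * z' * g⁻¹) = g * (z' * z') * g⁻¹ := by group
          _ = 1 := by rw [Y.L.J.ctr.zz]; group
      rw [e] at hjj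
      have hmem : k * k ∈ U := by
        have h1 : o * (k * o * k⁻¹) * (k * k) = 1 := by rw [← hjj]; group
        rw [eq_inv_of_mul_eq_one_right h1]
        exact inv_mem (mul_mem ho (D.normal k hk.1 o ho))
      exact D.inter _ hmem (mem_centralizer_singleton_iff.1 (mul_mem hk.2 hk.2))
    set m := k ^ 11
    have hm2 : m * m = 1 := by
      show k ^ 11 * k ^ 11 = 1
      rw [← (Commute.refl k).mul_pow]
      obtain ⟨i, hi⟩ := mem_zpowers_iff.1 hk2
      rw [← hi, ← zpow_natCast, ← zpow_mul, mul_comm, zpow_mul, zpow_natCast, pow_eleven h11, one_zpow]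
    have hm1 : m ≠ 1 := fun e1 => by
      have hkU : g * z' * g⁻¹ ∈ U := e ▸ mul_mem ho (D.zpowers_le (CH_eleven Y hu h11 hkC e1))
      have h1 := U.orderOf_dvd_natCard hkU
      rw [show orderOf (g * z' * g⁻¹) = orderOf z' from MulEquiv.orderOf_eq (MulAut.conj g) z', Y.L.J.two, hcU] at h1
      norm_num at h1
    have hmz : m = z' := CH_invol Y hu h11 (pow_mem hkC 11) hm2 hm1
    have hkz : k⁻¹ * z' ∈ zpowers u := by
      rw [← hmz]
      show k⁻¹ * k ^ 11 ∈ zpowers u
      rw [pow_succ' k 10, inv_mul_cancel_left, show (10 : ℕ) = 2 * 5 from rfl, pow_mul, pow_two]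
      exact pow_mem hk2 5
    set b := g * a * g⁻¹
    have hbU : b ∈ U := M22Order.conj_mem_of_mem_normalizer hg ha.1
    have e2 : g * z' * g⁻¹ * b * (g * z' * g⁻¹)⁻¹ = b⁻¹ := by
      calc g * z' * g⁻¹ * (g * a * g⁻¹) * (g * z' * g⁻¹)⁻¹ = g * (z' * a * z'⁻¹) * g⁻¹ := by group
        _ = _ := by rw [ha.2]; show g * a⁻¹ * g⁻¹ = (g * a * g⁻¹)⁻¹; group
    rw [e] at e2
    have hkb : k * b * k⁻¹ ∈ U := D.normal k hk.1 b hbU
    have e3 : o * k * b * (o * k)⁻¹ = k * b * k⁻¹ := by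
      calc o * k * b * (o * k)⁻¹ = o * (k * b * k⁻¹) * o⁻¹ := by group
        _ = _ := by rw [hab o ho _ hkb, mul_inv_cancel_right]
    rw [e3] at e2
    calc z' * b * z'⁻¹ = k * ((k⁻¹ * z') * b * (k⁻¹ * z')⁻¹) * k⁻¹ := by group
      _ = k * b * k⁻¹ := by
        rw [hab _ (D.zpowers_le hkz) b hbU, mul_inv_cancel_right]
      _ = _ := e2
  -- `t` inverts `u`, and `v` is in `A`
  have htU : t ∈ normalizer (U : Set G) := M22Order.mem_normalizer_of_conj fun a ha => ht_inv a ha
  have htu : t * u * t⁻¹ = u⁻¹ := by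
    have h1 := abelian_norm hG hord Y hu h11 D hab htU
    have h2 := DO.inv u (hUO D.x_mem)
    have h3 : t * u * t⁻¹ * u = 1 := by
      obtain ⟨i, hi⟩ := mem_zpowers_iff.1 (mul_mem h1 (mem_zpowers u))
      by_contra hne
      refine hvu ?_
      have hgen : zpowers (t * u * t⁻¹ * u) = zpowers v := by
        refine eq_of_le_of_card_ge (Subgroup.zpowers_le.2 h2) ?_
        have h4 := (zpowers v).orderOf_dvd_natCard h2
        rw [Nat.card_zpowers, V.order_v] at h4
        rw [Nat.card_zpowers, Nat.card_zpowers, V.order_v]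
        rcases (Nat.dvd_prime (by norm_num : Nat.Prime 11)).1 h4 with r | r
        · exact absurd (orderOf_eq_one_iff.1 r) hne
        · omega
      exact (Subgroup.zpowers_le.2 (mul_mem h1 (mem_zpowers u))) (hgen.symm ▸ mem_zpowers v)
    exact eq_inv_of_mul_eq_one_left h3
  have hvA : v ∈ A := by
    obtain ⟨w, hw, c, hc, e⟩ := hdec v hv
    have htw : t * w * t⁻¹ = w⁻¹ := by
      obtain ⟨k, rfl⟩ := mem_zpowers_iff.1 hw
      rw [← conj_zpow, htu, inv_zpow]
    have htv : t * v * t⁻¹ = v := by rw [V.t_comm, mul_inv_cancel_right]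
    have hw1 : w * w = 1 := by
      have h1 : w⁻¹ * (t * c * t⁻¹) = w * c := by
        rw [← htw, ← e]
        rw [show t * w * t⁻¹ * (t * c * t⁻¹) = t * (w * c) * t⁻¹ by group, ← e, htv]
      have h2 : w * w = (t * c * t⁻¹) * c⁻¹ := by
        calc w * w = w * (w * c) * c⁻¹ := by group
          _ = _ := by rw [← h1]; group
      exact hAu _ (mul_mem hw hw) (h2 ▸ mul_mem (hnA t htU c hc) (inv_mem hc))
    have hw2 : w = 1 := by
      have h3 := orderOf_dvd_of_pow_eq_one (show w ^ 2 = 1 by rw [pow_two]; exact hw1)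
      have h4 : orderOf w ∣ 11 := by
        rw [← h11, ← Nat.card_zpowers u]; exact (zpowers u).orderOf_dvd_natCard hw
      exact orderOf_eq_one_iff.1 (Nat.eq_one_of_dvd_coprimes (by norm_num : Nat.Coprime 2 11) h3 h4)
    rw [e, hw2, one_mul]; exact hc
  -- choose `x`
  obtain ⟨c, hcA, hcv⟩ : ∃ c ∈ A, c ∉ zpowers v := by
    by_contra hcon
    push Not at hcon
    have hsub : (U : Set G) ⊆ (zpowers u : Set G) * (zpowers v : Set G) := by
      intro a ha
      obtain ⟨w, hw, b, hb, rfl⟩ := hdec a ha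
      exact ⟨w, hw, b, hcon b hb, rfl⟩
    have h1 : Nat.card (U : Set G) ≤ Nat.card (zpowers u : Set G) * Nat.card (zpowers v : Set G) :=
      (Nat.card_mono (Set.toFinite _) hsub).trans Set.natCard_mul_le
    rw [show Nat.card (U : Set G) = 11 ^ 3 from hcU,
      show Nat.card (zpowers u : Set G) = 11 from (Nat.card_zpowers u).trans h11,
      show Nat.card (zpowers v : Set G) = 11 from (Nat.card_zpowers v).trans V.order_v] at h1
    norm_num at h1
  set x := u * c
  have hxU : x ∈ U := mul_mem D.x_mem hcA.1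
  have hxv : Commute x v := hab x hxU v hv
  have hu1 : u ≠ 1 := fun e => by rw [e, orderOf_one] at h11; norm_num at h11
  have hinter : U ⊓ MM X = zpowers v := by
    refine (eq_of_le_of_card_ge (Subgroup.zpowers_le.2 (mem_inf.2 ⟨hv, V.mem⟩)) ?_).symm
    rw [Nat.card_zpowers, V.order_v]
    obtain ⟨j, -, hj⟩ := (Nat.dvd_prime_pow (by norm_num : Nat.Prime 11)).1
      (hcU ▸ card_dvd_of_le (inf_le_left : U ⊓ MM X ≤ U))
    have h1 : 11 ^ j ∣ 2 ^ 11 * 138240 * 1771 := hj ▸ card_MM hG X ▸ card_dvd_of_le inf_le_right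
    have hj1 : j ≤ 1 := by
      by_contra hcon
      have := (pow_dvd_pow 11 (show 2 ≤ j by omega)).trans h1
      norm_num at this
    rw [hj]
    calc 11 ^ j ≤ 11 ^ 1 := Nat.pow_le_pow_right (by norm_num) hj1
      _ = 11 := by norm_num
  have hxM : x ∉ MM X := by
    intro hx
    have h1 : x ∈ A := by
      have h2 : x ∈ zpowers v := hinter ▸ ⟨hxU, hx⟩
      exact (Subgroup.zpowers_le.2 hvA) h2
    exact hu1 (hAu u (mem_zpowers u) (by simpa [x] using mul_mem h1 (inv_mem hcA)))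
  set M' := cjS x⁻¹ (MM X)
  have hM' : ∀ g : G, g ∈ M' ↔ x * g * x⁻¹ ∈ MM X := fun g => by rw [mem_cjS, inv_inv]
  set S := MM X ⊓ M'
  have hxvx : x * v * x⁻¹ = v := by rw [hxv.eq, mul_inv_cancel_right]
  have hvS : v ∈ S := ⟨V.mem, (hM' v).2 (by rw [hxvx]; exact V.mem)⟩
  -- `⟨v⟩` is self-normalising in `S`
  have hselfnorm : ∀ g ∈ S, g * v * g⁻¹ ∈ zpowers v → g ∈ zpowers v := by
    intro g hg hgv
    have hgU := hnormU g hgv
    have hgu := abelian_norm hG hord Y hu h11 D hab hgU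
    set c0 := x * g * x⁻¹ * g⁻¹
    have hc0U : c0 ∈ U := by
      have : g * x⁻¹ * g⁻¹ ∈ U := M22Order.conj_mem_of_mem_normalizer hgU (inv_mem hxU)
      simpa [c0, mul_assoc] using mul_mem hxU this
    have hc0 : c0 ∈ zpowers v := by
      rw [← hinter]
      exact mem_inf.2 ⟨hc0U, (MM X).mul_mem ((hM' g).1 hg.2) ((MM X).inv_mem hg.1)⟩
    -- compare components
    have e0 : g * x * g⁻¹ = c0⁻¹ * x := by simp only [c0]; group
    have e1 : (g * u * g⁻¹) * u⁻¹ = (g * c * g⁻¹)⁻¹ * (c0⁻¹ * c) := by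
      have h1 : (g * u * g⁻¹) * (g * c * g⁻¹) = c0⁻¹ * (u * c) := by rw [← e0]; simp only [x]; group
      have hgc : g * c * g⁻¹ ∈ U := (hnA g hgU c hcA).1
      have hguU : g * u * g⁻¹ ∈ U := D.zpowers_le hgu
      have hu' := D.x_mem
      calc (g * u * g⁻¹) * u⁻¹ = (g * u * g⁻¹) * (g * c * g⁻¹) * ((g * c * g⁻¹)⁻¹ * u⁻¹) := by group
        _ = c0⁻¹ * (u * c) * (u⁻¹ * (g * c * g⁻¹)⁻¹) := by
          rw [h1, hab _ (inv_mem hgc) _ (inv_mem hu')]
        _ = c0⁻¹ * (c * u) * (u⁻¹ * (g * c * g⁻¹)⁻¹) := by rw [hab u hu' c hcA.1]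
        _ = (c0⁻¹ * c) * (g * c * g⁻¹)⁻¹ := by group
        _ = _ := hab _ (mul_mem (inv_mem hc0U) hcA.1) _ (inv_mem hgc)
    have e2 : (g * u * g⁻¹) * u⁻¹ = 1 := hAu _ (mul_mem hgu (inv_mem (mem_zpowers u))) (e1 ▸
      mul_mem (inv_mem (hnA g hgU c hcA)) (mul_mem (inv_mem ((Subgroup.zpowers_le.2 hvA) hc0)) hcA))
    have hgC : g ∈ centralizer ({u} : Set G) := mem_centralizer_singleton_iff.2
      (mul_inv_eq_iff_eq_mul.1 (mul_inv_eq_one.1 e2))
    have e3 : g * c * g⁻¹ = c0⁻¹ * c := by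
      have h1 := e1.symm.trans e2
      rwa [inv_mul_eq_one] at h1
    obtain ⟨o, ho, k, hk, e⟩ := D.dec g hgC
    have hkC : k ∈ CH z' u := mem_inf.2 ⟨(mem_inf.1 hk).2, (mem_inf.1 hk).1⟩
    have hgk : ∀ a ∈ U, g * a * g⁻¹ = k * a * k⁻¹ := by
      intro a ha
      calc g * a * g⁻¹ = o * (k * a * k⁻¹) * o⁻¹ := by rw [e]; group
        _ = _ := by rw [hab o ho _ (D.normal k hk.1 a ha), mul_inv_cancel_right]
    have hku : k ∈ zpowers u := by
      by_contra hku
      set m := k ^ 11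
      have hm1 : m ≠ 1 := fun r => hku (CH_eleven Y hu h11 hkC r)
      have hm24 : m ^ 24 = 1 := by
        rw [← pow_mul, show 11 * 24 = 264 from rfl, ← card_CH Y hu h11]
        exact orderOf_dvd_iff_pow_eq_one.1 ((CH z' u).orderOf_dvd_natCard hkC)
      obtain ⟨q, hq, hqd⟩ := Nat.exists_prime_and_dvd (n := orderOf m) (fun r => hm1 (orderOf_eq_one_iff.1 r))
      haveI := Fact.mk hq
      set y := m ^ (orderOf m / q) with hydef
      have hyo : orderOf y = q := orderOf_pow_orderOf_div (orderOf_pos m).ne' hqd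
      have hyC : y ∈ CH z' u := pow_mem (pow_mem hkC 11) _
      have hky : ∃ l : ℕ, y = k ^ l := ⟨11 * (orderOf m / q), by rw [hydef, pow_mul]⟩
      obtain ⟨l, hl⟩ := hky
      let K : Set G := {b | ∃ w ∈ zpowers v, b = w * c}
      have hkK : ∀ b ∈ K, k * b * k⁻¹ ∈ K := by
        rintro _ ⟨w, hw, rfl⟩
        refine ⟨(g * w * g⁻¹) * c0⁻¹, mul_mem ?_ (inv_mem hc0), ?_⟩
        · obtain ⟨i, rfl⟩ := mem_zpowers_iff.1 hw
          rw [← conj_zpow]; exact zpow_mem hgv i
        · rw [← hgk _ (mul_mem ((Subgroup.zpowers_le.2 hv) hw) hcA.1)]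
          calc g * (w * c) * g⁻¹ = (g * w * g⁻¹) * (g * c * g⁻¹) := by group
            _ = _ := by rw [e3]; group
      have hyK : ∀ b ∈ K, y * b * y⁻¹ ∈ K := by
        intro b hb
        rw [hl]
        clear hl
        induction l with
        | zero => simpa using hb
        | succ l ih =>
          rw [show k ^ (l + 1) * b * (k ^ (l + 1))⁻¹ = k * (k ^ l * b * (k ^ l)⁻¹) * k⁻¹ by rw [pow_succ']; group]
          exact hkK _ ih
      let f : ↥K → ↥K := fun b => ⟨y * b * y⁻¹, hyK b b.2⟩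
      have hit : ∀ (n : ℕ) (b : ↥K), ((f^[n] b : ↥K) : G) = y ^ n * b * (y ^ n)⁻¹ := by
        intro n b
        induction n with
        | zero => simp
        | succ n ih =>
          rw [Function.iterate_succ_apply', pow_succ']
          show y * ((f^[n] b : ↥K) : G) * y⁻¹ = _
          rw [ih]; group
      have hmod := J4Seven.card_fixed_modEq f (p := q) fun b => Subtype.ext (by
        rw [hit, show y ^ q = 1 from hyo ▸ pow_orderOf_eq_one y]; simp)
      have hK11 : Nat.card ↥K = 11 := by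
        rw [← V.order_v, ← Nat.card_zpowers v]
        exact Nat.card_congr (Equiv.ofBijective (fun w : ↥(zpowers v) => (⟨(w : G) * c, w, w.2, rfl⟩ : ↥K))
          ⟨fun a b r => Subtype.ext (mul_right_cancel (congrArg Subtype.val r)),
            fun ⟨_, w, hw, r⟩ => ⟨⟨w, hw⟩, Subtype.ext r.symm⟩⟩).symm
      have hq' : q = 2 ∨ q = 3 := by
        have h1 : q ∣ 2 ^ 3 * 3 := hqd.trans (orderOf_dvd_of_pow_eq_one hm24)
        rcases hq.dvd_mul.1 h1 with h | h
        · exact Or.inl ((Nat.prime_dvd_prime_iff_eq hq Nat.prime_two).1 (hq.dvd_of_dvd_pow h))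
        · exact Or.inr ((Nat.prime_dvd_prime_iff_eq hq Nat.prime_three).1 h)
      obtain ⟨⟨b, hb⟩⟩ : Nonempty {b : ↥K // f b = b} := by
        refine Finite.card_pos_iff.1 (Nat.pos_of_ne_zero fun r => ?_)
        rw [r, hK11] at hmod
        rcases hq' with rfl | rfl <;> norm_num [Nat.ModEq] at hmod
      obtain ⟨w, hw, hbw⟩ := b.2
      have hbA : (b : G) ∈ A := hbw ▸ mul_mem ((Subgroup.zpowers_le.2 hvA) hw) hcA
      have hb1 : (b : G) ∉ zpowers u := fun r => by
        have h1 := hAu _ r hbA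
        rw [hbw] at h1
        exact hcv (by rw [eq_inv_of_mul_eq_one_right h1]; exact inv_mem hw)
      have hyb : y * (b : G) = b * y := mul_inv_eq_iff_eq_mul.1 (congrArg Subtype.val hb)
      have h2 := semiregular hG hord Y hu h11 D hyC hbA.1 hb1 hyb
      have h3 := (zpowers u).orderOf_dvd_natCard h2
      rw [Nat.card_zpowers, h11, hyo] at h3
      rcases hq' with rfl | rfl <;> norm_num at h3
    rw [← hinter]
    exact ⟨e ▸ mul_mem ho (D.zpowers_le hku), hg.1⟩
  -- transfer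
  have hcS11 : (Nat.card ↥S).factorization 11 = 1 := by
    have h1 : (Nat.card ↥S).factorization 11 ≤ 1 := by
      have hd : Nat.card ↥S ∣ 2 ^ 11 * 138240 * 1771 := card_MM hG X ▸ card_dvd_of_le inf_le_left
      have h := (Nat.factorization_le_iff_dvd Nat.card_pos.ne' (by norm_num)).2 hd 11
      have hfac : ((2 : ℕ) ^ 11 * 138240 * 1771).factorization 11 = 1 := by
        rw [show (2 : ℕ) ^ 11 * 138240 * 1771 = 45581598720 * 11 by norm_num,
          Nat.factorization_mul (by norm_num) (by norm_num),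
          Finsupp.add_apply, Nat.Prime.factorization_self (by norm_num),
          Nat.factorization_eq_zero_of_not_dvd (by norm_num)]
      rwa [hfac] at h
    refine le_antisymm h1 ((Nat.Prime.factorization_pos_of_dvd (by norm_num) Nat.card_pos.ne' ?_))
    exact V.order_v ▸ S.orderOf_dvd_natCard hvS
  let Pv : Sylow 11 ↥S := Sylow.ofCard (zpowers (⟨v, hvS⟩ : ↥S)) (by
    rw [Nat.card_zpowers, Subgroup.orderOf_mk, V.order_v, hcS11, pow_one])
  have hPv : (Pv : Subgroup ↥S) = zpowers ⟨v, hvS⟩ := Sylow.coe_ofCard ..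
  have hPN : normalizer ((Pv : Subgroup ↥S) : Set ↥S) ≤ centralizer ((Pv : Subgroup ↥S) : Set ↥S) := by
    rw [hPv]
    intro g hg
    have h1 := M22Order.conj_mem_of_mem_normalizer hg (mem_zpowers (⟨v, hvS⟩ : ↥S))
    obtain ⟨i, hi⟩ := mem_zpowers_iff.1 h1
    have h2 : (g : G) * v * (g : G)⁻¹ ∈ zpowers v := mem_zpowers_iff.2 ⟨i, by simpa using congrArg Subtype.val hi⟩
    obtain ⟨l, hl⟩ := mem_zpowers_iff.1 (hselfnorm g g.2 h2)
    refine mem_centralizer_iff.2 ?_
    rintro _ ⟨j, rfl⟩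
    refine Subtype.ext ?_
    simp only [Subgroup.coe_mul, SubgroupClass.coe_zpow]
    rw [← hl, ← zpow_add, ← zpow_add, add_comm]
  have hcompl := MonoidHom.ker_transferSylow_isComplement' Pv hPN
  set Kn := (MonoidHom.transferSylow Pv hPN).ker
  have hKc := hcompl.card_mul
  rw [hPv, Nat.card_zpowers, Subgroup.orderOf_mk, V.order_v] at hKc
  -- order of `S`
  have hSbig : 2897 < Nat.card ↥S := by
    have h1 := card_mul_card_le (MM X) M'
    rw [show Nat.card ↥M' = Nat.card ↥(MM X) from card_cjS _ _, card_MM hG X, hord] at h1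
    by_contra hcon
    push Not at hcon
    have h2 := h1.trans (Nat.mul_le_mul_left order hcon)
    norm_num [order] at h2
  set K := Kn.map S.subtype
  have hKle : K ≤ S := map_subtype_le _
  have hKcard : Nat.card K = Nat.card ↥Kn := card_map_of_injective S.subtype_injective
  have hK11 : ¬ 11 ∣ Nat.card K := fun hd => by
    have h1 : 11 ^ 2 ∣ Nat.card ↥S := by
      rw [← hKc, ← hKcard, pow_two]
      exact Nat.mul_dvd_mul hd dvd_rfl
    have h2 := (Nat.Prime.pow_dvd_iff_le_factorization (by norm_num) Nat.card_pos.ne').1 h1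
    omega
  have hKv : ∀ a ∈ K, v * a * v⁻¹ ∈ K := by
    rintro _ ⟨a, ha, rfl⟩
    exact ⟨_, (inferInstance : Kn.Normal).conj_mem a ha ⟨v, hvS⟩, rfl⟩
  have hKfree : ∀ a ∈ K, a * v = v * a → a = 1 := by
    intro a ha hav
    have h1 : a ∈ zpowers v := hselfnorm a (hKle ha) (by rw [hav, mul_inv_cancel_right]; exact mem_zpowers v)
    have h2 := (zpowers v).orderOf_dvd_natCard h1
    rw [Nat.card_zpowers, V.order_v] at h2
    have h3 := K.orderOf_dvd_natCard ha
    exact orderOf_eq_one_iff.1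
      (Nat.eq_one_of_dvd_coprimes ((Nat.Prime.coprime_iff_not_dvd (by norm_num)).2 hK11) h2 h3)
  -- an invariant Sylow subgroup for every prime
  have hinv : ∀ q : ℕ, ∀ _ : Fact q.Prime, ∃ Q : Subgroup G, Q ≤ K ∧ IsPGroup q Q ∧
      (∀ a ∈ Q, v * a * v⁻¹ ∈ Q) ∧ Nat.card Q = q ^ (Nat.card K).factorization q ∧ Nat.card Q % 11 = 1 := by
    intro q hq
    let φ : ↥K ≃* ↥K :=
      { toFun := fun a => ⟨v * a * v⁻¹, hKv a a.2⟩
        invFun := fun a => ⟨v⁻¹ * a * v, by
          have hiter : ∀ n : ℕ, v ^ n * (a : G) * (v ^ n)⁻¹ ∈ K := by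
            intro n
            induction n with
            | zero => simp
            | succ n ih =>
              rw [show v ^ (n + 1) * (a : G) * (v ^ (n + 1))⁻¹ = v * (v ^ n * a * (v ^ n)⁻¹) * v⁻¹ by rw [pow_succ']; group]
              exact hKv _ ih
          have h10 := hiter 10
          have e : v ^ 10 = v⁻¹ := eq_inv_of_mul_eq_one_left (by rw [← pow_succ, hv11])
          rwa [e, inv_inv] at h10⟩
        left_inv := fun a => Subtype.ext (by group)
        right_inv := fun a => Subtype.ext (by group)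
        map_mul' := fun a b => Subtype.ext (by push_cast; group) }
    let F : Sylow q ↥K → Sylow q ↥K := fun Q => (φ : MulAut ↥K) • Q
    have hF : ∀ (n : ℕ) (Q : Sylow q ↥K) (a : ↥K),
        a ∈ ((F^[n] Q : Sylow q ↥K) : Subgroup ↥K) ↔ ∃ b ∈ (Q : Subgroup ↥K), φ^[n] b = a := by
      intro n
      induction n with
      | zero => intro Q a; simp
      | succ n ih =>
        intro Q a
        rw [Function.iterate_succ_apply']
        show a ∈ ((F^[n] Q : Sylow q ↥K) : Subgroup ↥K).map φ.toMonoidHom ↔ _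
        rw [Subgroup.mem_map]
        constructor
        · rintro ⟨b, hb, rfl⟩
          obtain ⟨d, hd, rfl⟩ := (ih Q b).1 hb
          exact ⟨d, hd, Function.iterate_succ_apply' φ n d⟩
        · rintro ⟨d, hd, rfl⟩
          exact ⟨φ^[n] d, (ih Q _).2 ⟨d, hd, rfl⟩, (Function.iterate_succ_apply' φ n d).symm⟩
    have hφit : ∀ (n : ℕ) (a : ↥K), ((φ^[n] a : ↥K) : G) = v ^ n * a * (v ^ n)⁻¹ := by
      intro n a
      induction n with
      | zero => simp
      | succ n ih =>
        rw [Function.iterate_succ_apply', pow_succ']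
        show v * ((φ^[n] a : ↥K) : G) * v⁻¹ = _
        rw [ih]; group
    have hid : ∀ a : ↥K, φ^[11] a = a := fun a => Subtype.ext (by rw [hφit, hv11]; simp)
    have hmod := J4Seven.card_fixed_modEq F (p := 11) fun Q => Sylow.ext (by
      ext a
      rw [hF]
      exact ⟨fun ⟨b, hb, e⟩ => by rwa [← e, hid], fun ha => ⟨a, ha, hid a⟩⟩)
    obtain ⟨⟨Q, hQ⟩⟩ : Nonempty {Q : Sylow q ↥K // F Q = Q} := by
      refine Finite.card_pos_iff.1 (Nat.pos_of_ne_zero fun e => ?_)
      rw [e] at hmod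
      obtain ⟨Q0⟩ : Nonempty (Sylow q ↥K) := inferInstance
      exact hK11 ((Nat.modEq_zero_iff_dvd.1 hmod).trans (Q0.card_dvd_index.trans (index_dvd_card _)))
    have hQv : ∀ a ∈ (Q : Subgroup ↥K).map K.subtype, v * a * v⁻¹ ∈ (Q : Subgroup ↥K).map K.subtype := by
      rintro _ ⟨a, ha, rfl⟩
      refine ⟨φ a, ?_, rfl⟩
      rw [← hQ]
      exact ⟨a, ha, rfl⟩
    refine ⟨_, map_subtype_le _, Q.isPGroup'.map _, hQv,
      by rw [card_map_of_injective K.subtype_injective]; exact Q.card_eq_multiplicity, ?_⟩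
    have h := J4Seven.card_conj_fixed hv11 _ hQv
    have e : (Q : Subgroup ↥K).map K.subtype ⊓ centralizer ({v} : Set G) = ⊥ := by
      rw [eq_bot_iff]
      rintro a ⟨ha, hac⟩
      exact hKfree a (map_subtype_le _ ha) (mem_centralizer_singleton_iff.1 hac)
    rw [e, Subgroup.card_bot] at h
    exact h
  -- the 2-part is not trivial
  have hKdvd : Nat.card K ∣ 2 ^ 11 * 138240 * 1771 :=
    card_MM hG X ▸ card_dvd_of_le (hKle.trans inf_le_left)
  have hfle := (Nat.factorization_le_iff_dvd Nat.card_pos.ne' (by norm_num)).2 hKdvd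
  have hMfac : ((2 : ℕ) ^ 11 * 138240 * 1771) = 2 ^ 21 * 3 ^ 3 * 5 * 7 * 11 * 23 := by norm_num
  obtain ⟨Q, hQK, hQ2, hQv, hQc, -⟩ := hinv 2 inferInstance
  have hQne : Q ≠ ⊥ := by
    intro e
    rw [e, Subgroup.card_bot] at hQc
    have h2 : ¬ 2 ∣ Nat.card K := fun hd => by
      have := Nat.Prime.factorization_pos_of_dvd Nat.prime_two Nat.card_pos.ne' hd
      have h3 : 2 ^ 1 ≤ 2 ^ (Nat.card K).factorization 2 := Nat.pow_le_pow_right (by norm_num) this
      omega
    have hno : ∀ q : ℕ, q.Prime → q = 3 ∨ q = 5 ∨ q = 7 → ¬ q ∣ Nat.card K := by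
      intro q hq hq' hd
      haveI := Fact.mk hq
      obtain ⟨Q', -, -, -, hQc', hQm⟩ := hinv q ⟨hq⟩
      have hpos := Nat.Prime.factorization_pos_of_dvd hq Nat.card_pos.ne' hd
      have hle' : q ^ (Nat.card K).factorization q ∣ 2 ^ 21 * 3 ^ 3 * 5 * 7 * 11 * 23 :=
        hMfac ▸ (Nat.ordProj_dvd _ q).trans hKdvd
      rw [hQc'] at hQm
      set a := (Nat.card K).factorization q
      have ha3 : a ≤ 3 := by
        by_contra hcon
        have := (pow_dvd_pow q (show 4 ≤ a by omega)).trans hle'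
        rcases hq' with rfl | rfl | rfl <;> norm_num at this
      rcases hq' with rfl | rfl | rfl <;> interval_cases a <;> norm_num at hQm
    have h23 : Nat.card K ∣ 23 := by
      have hc : (Nat.card K).Coprime (2 ^ 21 * 3 ^ 3 * 5 * 7 * 11) := by
        have hp : ∀ q : ℕ, q.Prime → ¬ q ∣ Nat.card K → (Nat.card K).Coprime q := fun q hq h =>
          (hq.coprime_iff_not_dvd.2 h).symm
        exact ((((((hp 2 Nat.prime_two h2).pow_right 21).mul_right
          ((hp 3 Nat.prime_three (hno 3 Nat.prime_three (Or.inl rfl))).pow_right 3)).mul_right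
          (hp 5 (by norm_num) (hno 5 (by norm_num) (Or.inr (Or.inl rfl))))).mul_right
          (hp 7 (by norm_num) (hno 7 (by norm_num) (Or.inr (Or.inr rfl))))).mul_right
          (hp 11 (by norm_num) hK11))
      exact hc.dvd_of_dvd_mul_left (hMfac ▸ hKdvd)
    have h5 := Nat.le_of_dvd (by norm_num) h23
    have h6 : Nat.card ↥S ≤ 23 * 11 := hKc ▸ Nat.mul_le_mul_right 11 (hKcard ▸ h5)
    omega
  have hQfree : Q ⊓ centralizer ({v} : Set G) = ⊥ := by
    rw [eq_bot_iff]
    rintro a ⟨ha, hac⟩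
    exact hKfree a (hQK ha) (mem_centralizer_singleton_iff.1 hac)
  obtain ⟨hQV, hQ10⟩ := V.two_le_std hG hord X (hQK.trans (hKle.trans inf_le_left)) hQ2 hQv hQfree hQne
  -- the same for the conjugate
  set Q' := cjS x Q
  have hQ'M : Q' ≤ MM X := fun a ha => by
    rw [mem_cjS] at ha
    have h1 := (hM' _).1 (hKle (hQK ha)).2
    rwa [show x * (x⁻¹ * a * x) * x⁻¹ = a by group] at h1
  have hxv' : ∀ w : G, x⁻¹ * (v * w * v⁻¹) * x = v * (x⁻¹ * w * x) * v⁻¹ := fun w => by
    calc x⁻¹ * (v * w * v⁻¹) * x = (x⁻¹ * v) * w * (v⁻¹ * x) := by group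
      _ = (v * x⁻¹) * w * (x * v⁻¹) := by rw [hxv.inv_left.eq, hxv.inv_right.eq]
      _ = _ := by group
  obtain ⟨hQV', -⟩ := V.two_le_std hG hord X hQ'M (hQ2.map _)
    (fun a ha => by
      rw [mem_cjS] at ha ⊢
      rw [hxv']; exact hQv _ ha)
    (by
      rw [eq_bot_iff]
      rintro a ⟨ha, hac⟩
      change a ∈ cjS x Q at ha
      rw [mem_cjS] at ha
      have h1 := hKfree _ (hQK ha) (by
        have hav := mem_centralizer_singleton_iff.1 hac
        calc x⁻¹ * a * x * v = x⁻¹ * a * (x * v) := by group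
          _ = x⁻¹ * a * (v * x) := by rw [hxv.eq]
          _ = x⁻¹ * (a * v) * x := by group
          _ = x⁻¹ * (v * a) * x := by rw [hav]
          _ = (x⁻¹ * v) * a * x := by group
          _ = (v * x⁻¹) * a * x := by rw [hxv.inv_left.eq]
          _ = _ := by group)
      rw [mem_bot]
      calc a = x * (x⁻¹ * a * x) * x⁻¹ := by group
        _ = 1 := by rw [h1]; group)
    (fun e => hQne (Subgroup.eq_bot_of_card_eq _ (by rw [← card_cjS x Q, show cjS x Q = ⊥ from e, Subgroup.card_bot])))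
  obtain ⟨⟨d, hdQ, hd⟩, y, hyQ, hyz⟩ := hyperplane_both hG X hQV hQ10
  have hW : cjS x⁻¹ X.std = X.std := by
    have hmem : ∀ a ∈ Q, a ∈ cjS x⁻¹ X.std := fun a ha => by
      rw [mem_cjS, inv_inv]
      exact hQV' ⟨a, ha, rfl⟩
    exact X.eq_std_of_pair hG ((X.std_big).conj x⁻¹) (hmem y hyQ) (hQV hyQ) hyz (hmem d hdQ) hd.1 hd.2.1 hd.2.2
  refine hxM ?_
  have h1 : x⁻¹ ∈ MM X := M22Order.mem_normalizer_of_conj fun a ha => by
    rw [← hW]; exact ⟨a, ha, rfl⟩
  simpa using inv_mem h1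

end Cfsg.Agent.J4Sylow
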