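import Mathlib

/-!
# The order of a group of Janko four type: prime divisors
-/

set_option autoImplicit false

namespace Cfsg.Agent.J4Sylow

/-- The order. -/
abbrev order : ℕ := 86775571046077562880

theorem order_eq : order = 2 ^ 21 * 3 ^ 3 * 5 * 7 * 11 ^ 3 * 23 * 29 * 31 * 37 * 43 := by norm_num [order]

theorem eq_of_sq_dvd {q : ℕ} (hq : q.Prime) (h : q ^ 2 ∣ order) : q = 2 ∨ q = 3 ∨ q = 11 := by
  by_contra hcon
  push Not at hcon
  obtain ⟨h2, h3, h11⟩ := hcon
  have hc : ∀ r : ℕ, r.Prime → q ≠ r → (q ^ 2).Coprime r := fun r hr hne =>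
    ((Nat.coprime_primes hq hr).2 hne).pow_left 2
  set K := (5 : ℕ) * 7 * 23 * 29 * 31 * 37 * 43 with hK
  have hA : (q ^ 2).Coprime (2 ^ 21 * 3 ^ 3 * 11 ^ 3) :=
    (((hc 2 Nat.prime_two h2).pow_right 21).mul_right ((hc 3 Nat.prime_three h3).pow_right 3)).mul_right
      ((hc 11 (by norm_num) h11).pow_right 3)
  have h1 : q ^ 2 ∣ K := hA.dvd_of_dvd_mul_left (by
    rw [show 2 ^ 21 * 3 ^ 3 * 11 ^ 3 * K = order by rw [hK, order_eq]; ring]; exact h)
  have hsq : Squarefree K := by
    have hp : ∀ r : ℕ, r.Prime → Squarefree r := fun r hr => hr.squarefree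
    rw [hK]
    repeat' rw [Nat.squarefree_mul (by norm_num)]
    exact ⟨⟨⟨⟨⟨⟨hp _ (by norm_num), hp _ (by norm_num)⟩, hp _ (by norm_num)⟩, hp _ (by norm_num)⟩,
      hp _ (by norm_num)⟩, hp _ (by norm_num)⟩, hp _ (by norm_num)⟩
  have := hsq q (by rwa [← pow_two])
  rw [Nat.isUnit_iff] at this
  exact hq.ne_one this

theorem factorization_eleven : order.factorization 11 = 3 := by
  haveI : Fact (Nat.Prime 11) := ⟨by norm_num⟩
  rw [Nat.factorization_def _ (by norm_num), show order = 11 ^ 3 * (order / 11 ^ 3) by norm_num [order],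
    padicValNat.mul (by norm_num) (by norm_num [order]), padicValNat.prime_pow,
    padicValNat.eq_zero_of_not_dvd (by norm_num [order]), add_zero]

theorem factorization_three : order.factorization 3 = 3 := by
  haveI : Fact (Nat.Prime 3) := ⟨Nat.prime_three⟩
  rw [Nat.factorization_def _ Nat.prime_three, show order = 3 ^ 3 * (order / 3 ^ 3) by norm_num [order],
    padicValNat.mul (by norm_num) (by norm_num [order]), padicValNat.prime_pow,
    padicValNat.eq_zero_of_not_dvd (by norm_num [order]), add_zero]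

theorem factorization_two : order.factorization 2 = 21 := by
  haveI : Fact (Nat.Prime 2) := ⟨Nat.prime_two⟩
  rw [Nat.factorization_def _ Nat.prime_two, show order = 2 ^ 21 * (order / 2 ^ 21) by norm_num [order],
    padicValNat.mul (by norm_num) (by norm_num [order]), padicValNat.prime_pow,
    padicValNat.eq_zero_of_not_dvd (by norm_num [order]), add_zero]

end Cfsg.Agent.J4Sylow
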