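import Cfsg.Agent.Lib.J4Sylow.Arith

/-!
# Arithmetic for the five large primes, and groups whose order is a product of them
-/

set_option autoImplicit false
set_option linter.style.haveILetI false

namespace Cfsg.Agent.J4Sylow

open Subgroup

/-- The product of the five large primes. -/
abbrev bigN : ℕ := 32897107

/-- The five large primes. -/
abbrev bigs : List ℕ := [23, 29, 31, 37, 43]

theorem bigN_eq : bigN = 23 * 29 * 31 * 37 * 43 := by norm_num [bigN]

theorem prime_of_bigs {q : ℕ} (h : q ∈ bigs) : q.Prime := by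
  simp only [bigs, List.mem_cons, List.not_mem_nil, or_false] at h
  rcases h with rfl | rfl | rfl | rfl | rfl <;> norm_num

theorem dvd_bigN {q : ℕ} (h : q ∈ bigs) : q ∣ bigN := by
  simp only [bigs, List.mem_cons, List.not_mem_nil, or_false] at h
  rcases h with rfl | rfl | rfl | rfl | rfl <;> norm_num

theorem order_eq_big : order = 2637787299840 * bigN := by norm_num [order, bigN]

theorem squarefree_bigN : Squarefree bigN := by
  rw [bigN_eq]
  refine (Nat.squarefree_mul (by norm_num)).2 ⟨(Nat.squarefree_mul (by norm_num)).2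
    ⟨(Nat.squarefree_mul (by norm_num)).2 ⟨(Nat.squarefree_mul (by norm_num)).2 ⟨?_, ?_⟩, ?_⟩, ?_⟩, ?_⟩ <;>
  exact (Nat.prime_iff.1 (by norm_num)).squarefree

theorem totient_bigN : Nat.totient bigN = 22 * 28 * 30 * 36 * 42 := by
  rw [bigN_eq, Nat.totient_mul (by norm_num), Nat.totient_mul (by norm_num), Nat.totient_mul (by norm_num),
    Nat.totient_mul (by norm_num), Nat.totient_prime (by norm_num), Nat.totient_prime (by norm_num),
    Nat.totient_prime (by norm_num), Nat.totient_prime (by norm_num), Nat.totient_prime (by norm_num)]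

/-- A group whose order divides `bigN` is abelian. -/
theorem comm_of_card_dvd {C : Type*} [Group C] [Finite C] (h : Nat.card C ∣ bigN) (a b : C) : a * b = b * a := by
  haveI := IsZGroup.of_squarefree (squarefree_bigN.squarefree_of_dvd h)
  haveI := IsZGroup.isCyclic_commutator C
  have hcen : commutator C ≤ center C := by
    let f : C →* MulAut ↥(commutator C) := MulAut.conjNormal
    have hd : Nat.card ↥(commutator C) ∣ bigN := (card_subgroup_dvd_card _).trans h
    have hcard : Nat.card f.range ∣ Nat.totient bigN := by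
      refine (card_subgroup_dvd_card f.range).trans ?_
      rw [IsCyclic.card_mulAut]
      exact Nat.totient_dvd_of_dvd hd
    have hcard' : Nat.card f.range ∣ bigN := by
      refine dvd_trans ?_ h
      rw [← f.ker.card_mul_index, index_ker]
      exact dvd_mul_left _ _
    have h1 : Nat.card f.range = 1 :=
      Nat.eq_one_of_dvd_coprimes (by rw [totient_bigN]; norm_num [bigN]) hcard hcard'
    intro c hc
    rw [mem_center_iff]
    intro g
    have hg : f g = 1 := mem_bot.1 ((eq_bot_of_card_eq _ h1) ▸ MonoidHom.mem_range.2 ⟨g, rfl⟩)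
    have := congrArg Subtype.val (DFunLike.congr_fun hg ⟨c, hc⟩)
    simp only [f, MulAut.one_apply] at this
    rw [MulAut.conjNormal_apply] at this
    exact mul_inv_eq_iff_eq_mul.1 this
  exact commutative_of_cyclic_center_quotient (Abelianization.of (G := C))
    (by rw [Abelianization.ker_of]; exact hcen) a b

/-- The conditions on the centraliser order `m` and the automiser order `e` at the prime `q`. -/
def BigCond (q m e : ℕ) : Prop :=
  e ∣ q - 1 ∧ m * e ∣ order ∧ order / (m * e) % q = 1

instance (q m e : ℕ) : Decidable (BigCond q m e) := by unfold BigCond; infer_instance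

/-- The expected automiser orders. -/
def autOrd (q : ℕ) : ℕ :=
  if q = 23 then 22 else if q = 29 then 28 else if q = 31 then 10 else if q = 37 then 12 else 14

/-- The divisors of `bigN`. -/
def bigDivs : List ℕ :=
  [1, 23].flatMap fun a => [1, 29].flatMap fun b => [1, 31].flatMap fun c => [1, 37].flatMap fun d =>
    [1, 43].map fun f => a * b * c * d * f

theorem mem_bigDivs {m : ℕ} (h : m ∣ bigN) : m ∈ bigDivs := by
  have hg : ∀ q : ℕ, q.Prime → Nat.gcd m q ∈ [1, q] := fun q hq => by
    rcases (Nat.dvd_prime hq).1 (Nat.gcd_dvd_right m q) with e | e <;> simp [e]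
  have hm : m = Nat.gcd m 23 * Nat.gcd m 29 * Nat.gcd m 31 * Nat.gcd m 37 * Nat.gcd m 43 := by
    conv_lhs => rw [← Nat.gcd_eq_left h, bigN_eq]
    rw [Nat.Coprime.gcd_mul m (by norm_num), Nat.Coprime.gcd_mul m (by norm_num),
      Nat.Coprime.gcd_mul m (by norm_num), Nat.Coprime.gcd_mul m (by norm_num)]
  rw [hm]
  simp only [bigDivs, List.mem_flatMap, List.mem_map]
  exact ⟨_, hg _ (by norm_num), _, hg _ (by norm_num), _, hg _ (by norm_num), _, hg _ (by norm_num),
    _, hg _ (by norm_num), rfl⟩

theorem enum_check : ∀ m ∈ bigDivs, ∀ p ∈ bigs, p ∣ m → ∀ e ∈ List.range 43,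
    (∀ q ∈ bigs, q ∣ m → BigCond q m e) → (m = p ∧ e = autOrd p) ∨ (m = 1333 ∧ e = 6) := by
  decide +kernel

theorem enum_big {p m e : ℕ} (hp : p ∈ bigs) (hpm : p ∣ m) (hm : m ∣ bigN)
    (h : ∀ q ∈ bigs, q ∣ m → BigCond q m e) : (m = p ∧ e = autOrd p) ∨ (m = 1333 ∧ e = 6) := by
  refine enum_check m (mem_bigDivs hm) p hp hpm e (List.mem_range.2 ?_) h
  have h1 := (h p hp hpm).1
  have h2 := Nat.le_of_dvd (Nat.sub_pos_of_lt (prime_of_bigs hp).one_lt) h1
  simp only [bigs, List.mem_cons, List.not_mem_nil, or_false] at hp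
  omega

end Cfsg.Agent.J4Sylow
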