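import Cfsg.Agent.Lib.J4Sylow.Eleven
import Cfsg.Agent.Lib.J4Sylow.BigArith
import Cfsg.Agent.Lib.J4V.Inst
import Cfsg.Agent.Lib.J4V.Invol.Centralizer
import Cfsg.Agent.Lib.J4V.Invol.Classes
import Cfsg.Agent.Lib.J4Seven.Main

/-!
# Janko four type: centralisers of elements of small prime order avoid the five large primes
-/

set_option autoImplicit false
set_option linter.style.haveILetI false
set_option linter.unusedSectionVars false

namespace Cfsg.Agent.J4Sylow

open Subgroup Cfsg.Agent.J4Local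

variable {G : Type*} [Group G] [Finite G] {z : G} {P : Subgroup G}

theorem card_cent_isConj {a b : G} (h : IsConj a b) :
    Nat.card ↥(centralizer ({a} : Set G)) = Nat.card ↥(centralizer ({b} : Set G)) := by
  obtain ⟨g, rfl⟩ := isConj_iff.1 h
  rw [← card_cjS g (centralizer ({a} : Set G)), cjS_HH]

theorem card_sup_disjoint {K V : Subgroup G} (hn : K ≤ normalizer (V : Set G)) (hd : K ⊓ V = ⊥) :
    Nat.card ↥(K ⊔ V) = Nat.card K * Nat.card V := by
  rw [← Nat.card_prod]
  refine (Nat.card_congr (Equiv.ofBijective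
    (fun a : ↥K × ↥V => (⟨a.1 * a.2, mul_mem (mem_sup_left a.1.2) (mem_sup_right a.2.2)⟩ : ↥(K ⊔ V)))
    ⟨fun a b h => ?_, fun w => ?_⟩)).symm
  · have h' : (a.1 : G) * a.2 = b.1 * b.2 := congrArg Subtype.val h
    have e : (b.1 : G)⁻¹ * a.1 = b.2 * (a.2 : G)⁻¹ := by
      calc (b.1 : G)⁻¹ * a.1 = (b.1 : G)⁻¹ * (a.1 * a.2) * (a.2 : G)⁻¹ := by group
        _ = _ := by rw [h']; group
    have hm : (b.1 : G)⁻¹ * a.1 ∈ K ⊓ V :=
      mem_inf.2 ⟨K.mul_mem (K.inv_mem b.1.2) a.1.2, e ▸ V.mul_mem b.2.2 (V.inv_mem a.2.2)⟩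
    rw [hd, mem_bot] at hm
    have e1 : a.1 = b.1 := Subtype.ext (inv_mul_eq_one.1 hm).symm
    refine Prod.ext e1 (Subtype.ext ?_)
    rw [e1] at h'
    exact mul_left_cancel h'
  · have h1 : (w : G) ∈ ((K ⊔ V : Subgroup G) : Set G) := w.2
    rw [coe_mul_of_left_le_normalizer_right K V hn] at h1
    obtain ⟨k, hk, v, hv, e⟩ := h1
    exact ⟨(⟨k, hk⟩, ⟨v, hv⟩), Subtype.ext e⟩

variable [IsSimpleGroup G] (hG : ¬ IsMulCommutative G) (hord : Nat.card G = order) (X : J4Eleven.Chart z P)

include hG X in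
/-- The centraliser of an involution of the second class. -/
theorem card_cent_other {t : G} (ht : orderOf t = 2) (hn : ¬ IsConj z t) :
    Nat.card ↥(centralizer ({t} : Set G)) = 2 ^ 11 * 887040 := by
  obtain ⟨φ, ε, e1, e2, e3, e4, e5⟩ := X.exists_phi_eps hG
  obtain ⟨V, K, -, hK, hCN, -, hV, hKV, hsup, ⟨e⟩⟩ := J4V.Invol.centralizer_split hG X
    ⟨φ, ε, e1, e2, e3, e4, e5⟩ (fun v hv hv1 hvn => X.centralizer_le_of_not_zt hG hv hv1 hvn) t ht hn
  rw [← hsup, card_sup_disjoint (hK.trans hCN) hKV, hV, Nat.card_congr e.toEquiv, card_mulAut_m22]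
  ring

include hG X in
/-- The two classes of involutions, with the orders of their centralisers. -/
theorem exists_two_invol : ∃ t : G, Nat.card ↥(centralizer ({t} : Set G)) = 2 ^ 11 * 887040 ∧
    ∀ y : G, orderOf y = 2 → IsConj y z ∨ IsConj y t := by
  obtain ⟨t, ht, hn, hall⟩ := J4V.Invol.classes hG z ⟨P, X.L.J⟩
  exact ⟨t, card_cent_other hG X ht hn, hall⟩

include hG hord X in
/-- The centraliser of an element of small prime order other than five avoids the large primes. -/
theorem big_free {q : ℕ} {f : G} (hf : orderOf f = q) (hq : q ∈ [2, 3, 7, 11]) {p : ℕ} (hp : p ∈ bigs) :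
    ¬ p ∣ Nat.card ↥(centralizer ({f} : Set G)) := by
  have hJ := X.L.J
  intro hd
  simp only [List.mem_cons, List.not_mem_nil, or_false] at hq
  simp only [bigs, List.mem_cons, List.not_mem_nil, or_false] at hp
  rcases hq with rfl | rfl | rfl | rfl
  · obtain ⟨t, ht, hall⟩ := exists_two_invol hG X
    rcases hall f hf with h | h
    · rw [card_cent_isConj h, X.L.cardH] at hd
      rcases hp with rfl | rfl | rfl | rfl | rfl <;> norm_num at hd
    · rw [card_cent_isConj h, ht] at hd
      rcases hp with rfl | rfl | rfl | rfl | rfl <;> norm_num at hd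
  · obtain ⟨g, hg, hg1, hP, hg3⟩ := hJ.exists_gen
    haveI : Fact (Nat.Prime 3) := ⟨Nat.prime_three⟩
    obtain ⟨w, hw, hwz, hzw⟩ := exists_win hG hJ
    rw [card_cent_isConj (isConj_three_class hJ (normalizer_P_le hG hJ) hw hwz hzw hf
      (orderOf_eq_prime hg3 hg1))] at hd
    have hle : centralizer ({g} : Set G) ≤ HH z := by
      refine le_trans ?_ (normalizer_P_le hG hJ)
      refine le_trans ?_ (centralizer_le_normalizer (P : Set G))
      rw [hP, zpowers_eq_closure, centralizer_closure]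
    have h1 := hd.trans (card_dvd_of_le hle)
    rw [X.L.cardH] at h1
    rcases hp with rfl | rfl | rfl | rfl | rfl <;> norm_num at h1
  · obtain ⟨-, -, hN, hN'⟩ := J4Seven.order_seven hG ⟨P, hJ⟩ (zpowers f) (by rw [Nat.card_zpowers, hf])
    have hC : Nat.card ↥(centralizer (zpowers f : Set G)) = 840 := by omega
    rw [zpowers_eq_closure, centralizer_closure] at hC
    rw [hC] at hd
    rcases hp with rfl | rfl | rfl | rfl | rfl <;> norm_num at hd
  · obtain ⟨z', P', Y, u, O, v, t, hzz, hu, h11, D, V, hv⟩ := exists_setting hG hord X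
    rcases class_eleven hG hord X Y hu h11 D hzz V hv hf with h | h
    · rw [card_cent_isConj h, card_cent Y hu h11 D, card_core hG hord Y hu h11 D] at hd
      rcases hp with rfl | rfl | rfl | rfl | rfl <;> norm_num at hd
    · rw [card_cent_isConj h] at hd
      have hpp : p.Prime := by rcases hp with rfl | rfl | rfl | rfl | rfl <;> norm_num
      rcases cent_v_primes hG hord X Y hu h11 D hzz V hv hpp hd with e | e <;> omega

end Cfsg.Agent.J4Sylow
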