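import Cfsg.Agent.Lib.J4Eleven.Main
import Cfsg.Agent.Lib.J4Seven.Fixed
import Cfsg.Agent.Lib.J4V.M22Sub

/-!
# Janko four type: an element of order eleven of the centraliser of `z`

It fixes a quaternion group in `E`, its centraliser in `H` has order 264 and its normaliser in `H`
induces all automorphisms on it, the inner part never inverting it.
-/

set_option autoImplicit false
set_option linter.style.haveILetI false
set_option linter.unusedSectionVars false

namespace Cfsg.Agent.J4Sylow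

open Subgroup Cfsg.Agent.J4Local
open scoped Pointwise

variable {G : Type*} [Group G] [Finite G] {z : G} {P : Subgroup G}

theorem exists_eleven (X : J4Eleven.Chart z P) : ∃ u ∈ CC z P, orderOf u = 11 := by
  haveI : Fact (Nat.Prime 11) := ⟨by norm_num⟩
  obtain ⟨u, hu⟩ := exists_prime_orderOf_dvd_card' (G := ↥(CC z P)) 11
    (show 11 ∣ Nat.card ↥(CP z P) by rw [card_CP X.L.J]; norm_num)
  exact ⟨u, u.2, by rw [Subgroup.orderOf_coe]; exact hu⟩

/-- An element of odd order fixing an element of `E` modulo `⟨z⟩` commutes with it. -/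
theorem commute_of_fix (hJ : JType z P) {g x : G} (hg : g ∈ HH z) {n : ℕ} (hn : g ^ n = 1) (hodd : Odd n)
    (hx : x ∈ EE z) (hfix : act z g (vk z x) = vk z x) : g * x = x * g := by
  rw [act_vk hg hx] at hfix
  rcases (vk_eq_vk_iff hJ (conj_mem_EE hg hx) hx).1 hfix with e | e
  · exact mul_inv_eq_iff_eq_mul.1 e
  · exfalso
    have hgz : g * z * g⁻¹ = z := by rw [mem_HH.1 hg, mul_inv_cancel_right]
    have key : ∀ k : ℕ, g ^ k * x * (g ^ k)⁻¹ = x * z ^ k := by
      intro k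
      induction k with
      | zero => simp
      | succ k ih =>
        calc g ^ (k + 1) * x * (g ^ (k + 1))⁻¹ = g * (g ^ k * x * (g ^ k)⁻¹) * g⁻¹ := by
              rw [pow_succ']; group
          _ = g * x * g⁻¹ * (g * z * g⁻¹) ^ k := by rw [ih, conj_pow]; group
          _ = _ := by rw [e, hgz, mul_assoc, ← pow_succ']
    have h1 := key n
    rw [hn, one_mul, inv_one, mul_one, eq_comm, mul_eq_left] at h1
    have h2 := orderOf_dvd_of_pow_eq_one h1
    rw [hJ.two] at h2
    exact Nat.not_even_iff_odd.2 hodd (even_iff_two_dvd.2 h2)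

variable (X : J4Eleven.Chart z P) {u : G} (hu : u ∈ CC z P) (h11 : orderOf u = 11)

/-- The subspace fixed by `g`. -/
def fixA (z g : G) : AddSubgroup (VV z) where
  carrier := {v | act z g v = v}
  zero_mem' := map_zero _
  add_mem' := fun {a b} ha hb => by
    show act z g (a + b) = a + b
    rw [map_add, show act z g a = a from ha, show act z g b = b from hb]
  neg_mem' := fun {a} ha => by
    show act z g (-a) = -a
    rw [map_neg, show act z g a = a from ha]

theorem mem_fixA {g : G} {v : VV z} : v ∈ fixA z g ↔ act z g v = v := Iff.rfl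

include h11 in
theorem pow_eleven : u ^ 11 = 1 := h11 ▸ pow_orderOf_eq_one u

include hu h11 in
theorem act_iterate (n : ℕ) (v : VV z) : (act z u)^[n] v = act z (u ^ n) v := by
  induction n with
  | zero => rw [pow_zero, act_one]; rfl
  | succ n ih => rw [Function.iterate_succ_apply', ih, pow_succ', act_mul hu.1 (pow_mem hu.1 n)]

include X hu h11 in
/-- Fixed space: four vectors, one singular. -/
theorem fixA_facts : Nat.card ↥(fixA z u) = 4 ∧
    Nat.card {a : ↥(fixA z u) // QQ z (a : VV z) = 0} = 1 := by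
  classical
  have hJ := X.L.J
  haveI : Fact (Nat.Prime 11) := ⟨by norm_num⟩
  set A := fixA z u
  have hxH : u ∈ HH z := hu.1
  have hn : ∀ a ∈ A, (∀ b ∈ A, BB z a b = 0) → a = 0 := by
    intro a ha hb
    refine BB_nondeg hJ fun v => ?_
    let vs : VV z := ∑ i ∈ Finset.range 11, (act z u)^[i] v
    have hvs : vs ∈ A := by
      rw [mem_fixA, map_sum]
      simp only [← Function.iterate_succ_apply' (act z u)]
      have h1 := Finset.sum_range_succ' (fun i => (act z u)^[i] v) 11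
      rw [Finset.sum_range_succ, Function.iterate_zero_apply, act_iterate hu h11 11, pow_eleven h11, act_one] at h1
      exact add_right_cancel h1.symm
    have hfix : ∀ i : ℕ, BB z a ((act z u)^[i] v) = BB z a v := by
      intro i
      induction i with
      | zero => rfl
      | succ i ih =>
        rw [Function.iterate_succ_apply']
        nth_rewrite 1 [← mem_fixA.1 ha]
        rw [BB_act hJ hxH, ih]
    have h2 := hb vs hvs
    let φ : VV z →+ ZMod 2 := AddMonoidHom.mk' (BB z a) (BB_add_right hJ a)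
    have h3 : φ vs = ∑ i ∈ Finset.range 11, φ ((act z u)^[i] v) := map_sum φ _ _
    simp only [φ, AddMonoidHom.mk'_apply, hfix, Finset.sum_const, Finset.card_range] at h3
    rw [h2] at h3
    have key : ∀ t : ZMod 2, 0 = 11 • t → t = 0 := by decide +kernel
    exact key _ h3
  have hP : ∀ p ∈ P, ∀ a ∈ A, act z p a ∈ A := fun p hp a ha => by
    rw [mem_fixA, ← act_mul hxH (hJ.P_le_HH hp), commute_CC_P hu hp, act_mul (hJ.P_le_HH hp) hxH,
      mem_fixA.1 ha]
  obtain ⟨m3, msq⟩ := J4Seven.zero_count hJ A hn hP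
  set nA := Nat.card {a : ↥A // QQ z (a : VV z) = 0}
  have hcA : 2 ^ 12 ≡ Nat.card ↥A [MOD 11] := by
    rw [← card_VV hJ]
    exact J4Seven.card_fixed_modEq (act z u) (p := 11) fun v => by
      rw [act_iterate hu h11, pow_eleven h11, act_one]
  obtain ⟨j, hj, hjA⟩ := (Nat.dvd_prime_pow Nat.prime_two).1
    (show Nat.card ↥A ∣ 2 ^ 12 by rw [← card_VV hJ]; exact A.card_addSubgroup_dvd_card)
  have hAb : nA ≤ Nat.card ↥A := Nat.card_le_card_of_injective _ Subtype.val_injective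
  rw [hjA] at hcA msq hAb ⊢
  have hj' : j = 2 ∨ j = 12 := by
    clear * - hcA hj
    rw [Nat.ModEq] at hcA
    interval_cases j <;> simp_all
  rcases hj' with rfl | rfl
  · refine ⟨rfl, ?_⟩
    clear_value nA
    clear * - msq m3 hAb
    interval_cases nA <;> simp_all
  · exfalso
    have htop : A = ⊤ := AddSubgroup.eq_top_of_card_eq _ (by rw [hjA, card_VV hJ])
    have huE := act_eq_id_mem hJ hxH fun v => mem_fixA.1 (by
      show v ∈ A
      rw [htop]; exact AddSubgroup.mem_top v)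
    have h1 := (EE z).orderOf_dvd_natCard huE
    rw [h11, hJ.cardE] at h1
    norm_num at h1

/-- The quaternion group fixed in `E`. -/
abbrev QF (z g : G) : Subgroup G := EE z ⊓ centralizer ({g} : Set G)

include X hu h11 in
theorem z_mem : z ∈ QF z u :=
  ⟨X.L.J.ctr.z_mem, mem_centralizer_singleton_iff.2 (mem_HH.1 hu.1).symm⟩

include X hu h11 in
theorem imgV_QF : imgV z (QF z u) = fixA z u := by
  have hJ := X.L.J
  ext v
  constructor
  · rintro ⟨x, hx, hxE, rfl⟩
    rw [mem_fixA, act_vk hu.1 hxE, ← mem_centralizer_singleton_iff.1 hx.2, mul_inv_cancel_right]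
  · intro hv
    refine ⟨rep z v, ⟨rep_mem v, mem_centralizer_singleton_iff.2 ?_⟩, rep_mem v, vk_rep v⟩
    exact (commute_of_fix hJ hu.1 (pow_eleven h11) (by decide) (rep_mem v) (by rw [vk_rep]; exact hv)).symm

include X hu h11 in
theorem card_QF : Nat.card ↥(QF z u) = 8 := by
  rw [card_two_mul X.L.J inf_le_left (z_mem X hu h11), imgV_QF X hu h11, (fixA_facts X hu h11).1]

include X hu h11 in
/-- Its only involution is `z`. -/
theorem QF_invol {q : G} (hq : q ∈ QF z u) (h2 : q * q = 1) : q ∈ zpowers z := by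
  have hJ := X.L.J
  rw [← vk_eq_zero_iff hJ hq.1]
  have hmem : vk z q ∈ fixA z u := imgV_QF X hu h11 ▸ vk_mem_imgV hq hq.1
  obtain ⟨hsub, -⟩ := Nat.card_eq_one_iff_unique.1 (fixA_facts X hu h11).2
  have h0 : QQ z (((0 : ↥(fixA z u)) : VV z)) = 0 := by
    rw [AddSubgroup.coe_zero, ← vk_one, QQ_vk_eq_zero hJ (one_mem _), one_mul]
  exact congrArg (fun a => ((Subtype.val a : ↥(fixA z u)) : VV z))
    (hsub.elim (⟨⟨_, hmem⟩, (QQ_vk_eq_zero hJ hq.1).2 h2⟩ : {a : ↥(fixA z u) // QQ z (a : VV z) = 0}) ⟨0, h0⟩)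

include X hu h11 in
/-- It is not abelian. -/
theorem QF_not_comm : ∃ a ∈ QF z u, ∃ b ∈ QF z u, a * b ≠ b * a := by
  have hJ := X.L.J
  by_contra hno
  push Not at hno
  obtain ⟨p, hp, hp1, -, -⟩ := hJ.exists_gen
  have hne : ∃ v ∈ fixA z u, v ≠ 0 := by
    by_contra hcon
    push Not at hcon
    have h1 : Nat.card ↥(fixA z u) ≤ 1 := by
      haveI : Subsingleton ↥(fixA z u) := ⟨fun a b => Subtype.ext ((hcon a a.2).trans (hcon b b.2).symm)⟩
      exact Finite.card_le_one_iff_subsingleton.2 inferInstance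
    rw [(fixA_facts X hu h11).1] at h1
    omega
  obtain ⟨v, hv, hv0⟩ := hne
  have hv' := hv
  rw [← imgV_QF X hu h11] at hv'
  obtain ⟨a, ha, haE, rfl⟩ := hv'
  have hpa : act z p (vk z a) ∈ fixA z u := by
    rw [mem_fixA, ← act_mul hu.1 (hJ.P_le_HH hp), commute_CC_P hu hp, act_mul (hJ.P_le_HH hp) hu.1,
      mem_fixA.1 hv]
  rw [← imgV_QF X hu h11] at hpa
  obtain ⟨b, hb, hbE, e⟩ := hpa
  have h0 := BB_act_self hJ hp hp1 (vk z a)
  rw [← e, BB_vk hJ haE hbE, cm_eq_zero.2 (hno a ha b hb), eq_comm, QQ_vk_eq_zero hJ haE] at h0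
  exact hv0 ((vk_eq_zero_iff hJ haE).2 (QF_invol X hu h11 ha h0))

/-- The preimage part `P E`. -/
theorem dec_PE (hJ : JType z P) {g : G} (hg : g ∈ P ⊔ EE z) : ∃ p ∈ P, ∃ e ∈ EE z, g = p * e := by
  have hn : P ≤ normalizer (EE z : Set G) := fun p hp => M22Order.mem_normalizer_of_conj fun e he =>
    conj_mem_EE (hJ.P_le_HH hp) he
  have hg' : g ∈ ((P ⊔ EE z : Subgroup G) : Set G) := hg
  rw [coe_mul_of_left_le_normalizer_right P _ hn] at hg'
  obtain ⟨p, hp, e, he, rfl⟩ := hg'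
  exact ⟨p, hp, e, he, rfl⟩

include X in
/-- The kernel of the map onto M22. -/
theorem mem_PE_of_psi {g : G} (hg : g ∈ H0 z P) (h : X.psi ⟨g, hg⟩ = 1) : g ∈ P ⊔ EE z := by
  obtain ⟨c, hc, e, he, rfl⟩ := exists_dec hg
  rw [X.psi_eq hc he, X.mem_ker_iff] at h
  exact mul_mem ((sup_le_sup_left (zpowers_le.2 X.L.J.ctr.z_mem) P) h) (mem_sup_right he)

include X in
theorem mem_H0_of_odd_order {g : G} (hg : g ∈ HH z) {n : ℕ} (hn : g ^ n = 1) (hodd : Odd n) : g ∈ H0 z P := by
  by_contra h0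
  obtain ⟨k, rfl⟩ := hodd
  have h2 : g ^ 2 ∈ H0 z P := pow_two g ▸ outer_mul X.L hg hg h0 h0
  have : g * (g ^ 2) ^ k = 1 := by rw [← pow_mul, ← pow_succ', hn]
  refine h0 ?_
  rw [eq_inv_of_mul_eq_one_left this]
  exact inv_mem (pow_mem h2 k)

include X hu h11 in
/-- The image of `u` has order eleven and is self centralising in M22. -/
theorem psi_cent : orderOf (X.π ⟨u, hu⟩) = 11 ∧
    Nat.card ↥(centralizer ({X.π ⟨u, hu⟩} : Set ↥Cfsg.Spor.M22)) = 11 ∧
    Odd (Nat.card ↥(normalizer (zpowers (X.π ⟨u, hu⟩) : Set ↥Cfsg.Spor.M22))) := by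
  haveI : Fact (Nat.Prime 11) := ⟨by norm_num⟩
  haveI := X.simple
  set m := X.π ⟨u, hu⟩
  have hm : orderOf m = 11 := by
    refine orderOf_eq_prime ?_ fun e => ?_
    · rw [← map_pow, show (⟨u, hu⟩ : ↥(CC z P)) ^ 11 = 1 from Subtype.ext (pow_eleven h11), map_one]
    · have h1 := (P ⊔ zpowers z).orderOf_dvd_natCard ((X.mem_ker_iff _).1 e)
      rw [h11, card_six X.L.J] at h1
      norm_num at h1
  let Q : Sylow 11 ↥Cfsg.Spor.M22 := Sylow.ofCard (zpowers m) (by
    rw [Nat.card_zpowers, hm, X.hcard, show (443520 : ℕ).factorization 11 = 1 from ?_, pow_one]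
    rw [show (443520 : ℕ) = 40320 * 11 by norm_num, Nat.factorization_mul (by norm_num) (by norm_num),
      Finsupp.add_apply, Nat.Prime.factorization_self (by norm_num),
      Nat.factorization_eq_zero_of_not_dvd (by norm_num)])
  have hQ : (Q : Subgroup ↥Cfsg.Spor.M22) = zpowers m := Sylow.coe_ofCard ..
  have hC := M22Order.card_centralizer_eleven X.hcard Q
  have hN := J4V.card_normalizer_eleven X.hcard Q
  rw [hQ] at hC hN
  refine ⟨hm, ?_, by rw [hN]; decide⟩
  rw [← hC]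
  congr 2
  rw [zpowers_eq_closure, ← centralizer_closure]

include X hu h11 in
/-- The centraliser in `H` is inner. -/
theorem cent_inner {g : G} (hg : g ∈ HH z) (hgu : g * u = u * g) : g ∈ H0 z P := by
  classical
  haveI : Fact (Nat.Prime 11) := ⟨by norm_num⟩
  haveI : Fact (Nat.Prime 2) := ⟨Nat.prime_two⟩
  have hJ := X.L.J
  by_contra h0
  obtain ⟨y, hy, hyu, hy0, a, hya⟩ : ∃ y ∈ HH z, y * u = u * y ∧ y ∉ H0 z P ∧ ∃ a : ℕ, y ^ 2 ^ a = 1 := by
    obtain ⟨a, m, hm, e⟩ := Nat.exists_eq_two_pow_mul_odd (orderOf_pos g).ne'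
    refine ⟨g ^ m, pow_mem hg m, ((show Commute g u from hgu).pow_left m).eq, fun hmem => h0 ?_, a, ?_⟩
    · obtain ⟨k, rfl⟩ := hm
      have h2 : g ^ 2 ∈ H0 z P := pow_two g ▸ outer_mul X.L hg hg h0 h0
      have e1 : g = g ^ (2 * k + 1) * ((g ^ 2) ^ k)⁻¹ := by rw [← pow_mul]; group
      rw [e1]
      exact mul_mem hmem (inv_mem (pow_mem h2 k))
    · rw [← pow_mul, mul_comm, ← e, pow_orderOf_eq_one]
  set W := (nil z u).range with hW
  have hker : (nil z u).ker = fixA z u := by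
    ext v; rw [mem_ker_nil hJ, mem_fixA]
  have hcW : Nat.card ↥W = 2 ^ 10 := by
    have h := card_ker_mul_range (nil z u)
    rw [hker, (fixA_facts X hu h11).1, card_VV hJ] at h
    show Nat.card ↥(nil z u).range = _
    omega
  have hfree : ∀ w ∈ W, act z u w = w → w = 0 := by
    rintro _ ⟨v, rfl⟩ hv
    rw [← mem_ker_nil hJ, AddMonoidHom.mem_ker, nil_nil hJ hu.1, ← AddMonoidHom.mem_ker, mem_ker_nil hJ] at hv
    have hsix : act z u v = v := by
      have h12 : u = (u * u) ^ 6 := by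
        rw [← pow_two, ← pow_mul, show 2 * 6 = 11 + 1 by norm_num, pow_succ, pow_eleven h11, one_mul]
      have hk : ∀ n : ℕ, act z ((u * u) ^ n) v = v := by
        intro n
        induction n with
        | zero => rw [pow_zero, act_one]
        | succ n ih => rw [pow_succ', act_mul (mul_mem hu.1 hu.1) (pow_mem (mul_mem hu.1 hu.1) n), ih, hv]
      rw [h12]; exact hk 6
    rw [nil_apply, hsix, VV.two hJ]
  have hWu : ∀ w ∈ W, act z u w ∈ W := by
    rintro _ ⟨v, rfl⟩
    exact ⟨act z u v, by rw [nil_apply, nil_apply, map_add]⟩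
  have hWc : ∀ {c : G}, c ∈ HH z → c * u = u * c → ∀ w ∈ W, act z c w ∈ W := by
    rintro c hc hcu _ ⟨v, rfl⟩
    refine ⟨act z c v, ?_⟩
    rw [nil_apply, nil_apply, map_add, ← act_mul hu.1 hc, ← hcu, act_mul hc hu.1]
  -- `y` is trivial on `W`
  have hyW : ∀ w ∈ W, act z y w = w := by
    let S := W ⊓ fixA z y
    have hit : ∀ (n : ℕ) (w : VV z), (act z y)^[n] w = act z (y ^ n) w := by
      intro n w
      induction n with
      | zero => rw [pow_zero, act_one]; rfl
      | succ n ih => rw [Function.iterate_succ_apply', ih, pow_succ', act_mul hy (pow_mem hy n)]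
    haveI : Fintype ↥W := Fintype.ofFinite _
    let f : Function.End ↥W := fun w => ⟨act z y w, hWc hy hyu w w.2⟩
    have hfit : ∀ (n : ℕ) (w : ↥W), ((f^[n] w : ↥W) : VV z) = act z (y ^ n) w := by
      intro n w
      induction n with
      | zero => rw [pow_zero, act_one]; rfl
      | succ n ih =>
        rw [Function.iterate_succ_apply', pow_succ', act_mul hy (pow_mem hy n), ← ih]
    have hf : f ^ 2 ^ a = 1 := by
      funext w
      refine Subtype.ext ?_
      have hpw : ∀ (n : ℕ) (w : ↥W), (f ^ n) w = f^[n] w := by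
        intro n
        induction n with
        | zero => intro w; rfl
        | succ n ih => intro w; rw [Function.iterate_succ_apply', pow_succ', ← ih]; rfl
      rw [hpw, hfit, hya, act_one]
      rfl
    have hmod := Equiv.Perm.card_fixedPoints_modEq hf
    have hS : Nat.card ↥S = Fintype.card ↑(Function.fixedPoints f) := by
      rw [← Nat.card_eq_fintype_card]
      exact Nat.card_congr
        { toFun := fun s => ⟨⟨s.1, s.2.1⟩, Subtype.ext s.2.2⟩
          invFun := fun s => ⟨s.1.1, s.1.2, congrArg Subtype.val s.2⟩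
          left_inv := fun s => rfl
          right_inv := fun s => rfl }
    rw [← Nat.card_eq_fintype_card, hcW, ← hS] at hmod
    have hSu : ∀ s ∈ S, act z u s ∈ S := fun s hs => ⟨hWu s hs.1, by
      show act z y (act z u s) = act z u s
      rw [← act_mul hy hu.1, hyu, act_mul hu.1 hy, mem_fixA.1 hs.2]⟩
    have h1 : 2 ∣ Nat.card ↥S := by
      rw [Nat.ModEq] at hmod
      omega
    let g' : ↥S → ↥S := fun s => ⟨act z u s, hSu s s.2⟩
    have hg' : ∀ (n : ℕ) (s : ↥S), ((g'^[n] s : ↥S) : VV z) = act z (u ^ n) s := by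
      intro n s
      induction n with
      | zero => rw [pow_zero, act_one]; rfl
      | succ n ih =>
        rw [Function.iterate_succ_apply', pow_succ', act_mul hu.1 (pow_mem hu.1 n), ← ih]
    have h11mod := J4Seven.card_fixed_modEq g' (p := 11) fun s => Subtype.ext (by
      rw [hg', pow_eleven h11, act_one])
    have hone : Nat.card {s : ↥S // g' s = s} = 1 := by
      rw [Nat.card_eq_one_iff_unique]
      refine ⟨⟨fun s t => ?_⟩, ⟨⟨0, Subtype.ext (map_zero (act z u))⟩⟩⟩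
      have key : ∀ s : {s : ↥S // g' s = s}, ((s.1 : ↥S) : VV z) = 0 := fun s =>
        hfree _ s.1.2.1 (congrArg Subtype.val s.2)
      exact Subtype.ext (Subtype.ext ((key s).trans (key t).symm))
    rw [hone] at h11mod
    have hSW : S ≤ W := inf_le_left
    obtain ⟨j, hj, hjS⟩ := (Nat.dvd_prime_pow Nat.prime_two).1
      (show Nat.card ↥S ∣ 2 ^ 10 by rw [← hcW]; exact AddSubgroup.card_dvd_of_le hSW)
    rw [hjS] at h1 h11mod
    have : j = 10 := by
      clear * - h1 h11mod hj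
      rw [Nat.ModEq] at h11mod
      interval_cases j <;> simp_all
    have hSe : S = W := AddSubgroup.eq_of_le_of_card_ge hSW (by rw [hjS, this, hcW])
    intro w hw
    rw [← hSe] at hw
    exact hw.2
  obtain ⟨p, hp, hp1, -, hp3⟩ := hJ.exists_gen
  have hpH := hJ.P_le_HH hp
  obtain ⟨w, hw, hw0⟩ : ∃ w ∈ W, w ≠ 0 := by
    by_contra hcon
    push Not at hcon
    haveI : Subsingleton ↥W := ⟨fun a b => Subtype.ext ((hcon a a.2).trans (hcon b b.2).symm)⟩
    have := Finite.card_le_one_iff_subsingleton.2 (inferInstance : Subsingleton ↥W)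
    omega
  have hpW := hWc hpH (commute_CC_P hu hp).symm w hw
  have hinv := X.L.outer_inv y hy hy0 p hp
  have e := act_EE hJ hinv (act z p⁻¹ (act z y w))
  have e2 : act z (y * p * y⁻¹ * p) (act z p⁻¹ (act z y w)) = act z y (act z p w) := by
    rw [← act_mul (inv_mem hpH) hy, ← act_mul (mul_mem (mul_mem (mul_mem hy hpH) (inv_mem hy)) hpH)
      (mul_mem (inv_mem hpH) hy), ← act_mul hy hpH]
    congr 2
    group
  rw [e2, hyW w hw, hyW _ hpW] at e
  have h2 : act z p (act z p w) = w := by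
    conv_lhs => rw [e]
    exact act_act_inv hpH w
  refine hw0 (act_fpf hJ (mul_mem hp hp) (fun e1 => hp1 ?_) (by rw [act_mul hpH hpH]; exact h2))
  calc p = p ^ 3 * (p * p)⁻¹ := by group
    _ = 1 := by rw [hp3, e1, inv_one, mul_one]

/-- The centraliser of `u` in `H`. -/
abbrev CH (z u : G) : Subgroup G := HH z ⊓ centralizer ({u} : Set G)

include X hu h11 in
theorem PE_cent {g : G} (hg : g ∈ P ⊔ EE z) (hgu : g * u = u * g) : ∃ p ∈ P, ∃ q ∈ QF z u, g = p * q := by
  obtain ⟨p, hp, e, he, rfl⟩ := dec_PE X.L.J hg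
  refine ⟨p, hp, e, ⟨he, mem_centralizer_singleton_iff.2 ?_⟩, rfl⟩
  have hpu : p * u = u * p := (commute_CC_P hu hp).symm
  exact mul_left_cancel (a := p) (by rw [← mul_assoc, hgu, ← mul_assoc, ← mul_assoc, hpu])

include X hu h11 in
theorem card_CH : Nat.card ↥(CH z u) = 264 := by
  classical
  have hJ := X.L.J
  haveI := X.simple
  set C := CH z u
  have hC0 : C ≤ H0 z P := fun g hg => cent_inner X hu h11 hg.1 (mem_centralizer_singleton_iff.1 hg.2)
  let f : ↥C →* ↥Cfsg.Spor.M22 := X.psi.comp (inclusion hC0)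
  obtain ⟨hm, hcm, -⟩ := psi_cent X hu h11
  have hrange : f.range ≤ centralizer ({X.π ⟨u, hu⟩} : Set ↥Cfsg.Spor.M22) := by
    rintro _ ⟨g, rfl⟩
    refine mem_centralizer_singleton_iff.2 ?_
    rw [← X.psi_CC hu (CC_le_H0 z P hu)]
    show X.psi _ * X.psi _ = X.psi _ * X.psi _
    rw [← map_mul, ← map_mul]
    exact congrArg X.psi (Subtype.ext (mem_centralizer_singleton_iff.1 g.2.2))
  have hkle : Nat.card ↥f.ker ≤ 24 := by
    rw [← card_map_of_injective (f := C.subtype) C.subtype_injective]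
    have hsub : ((f.ker.map C.subtype : Subgroup G) : Set G) ⊆ (P : Set G) * (QF z u : Set G) := by
      rintro _ ⟨g, hg, rfl⟩
      obtain ⟨p, hp, q, hq, e⟩ := PE_cent X hu h11 (mem_PE_of_psi X (hC0 g.2) hg)
        (mem_centralizer_singleton_iff.1 g.2.2)
      exact ⟨p, hp, q, hq, e.symm⟩
    calc Nat.card ↥(f.ker.map C.subtype) ≤ Nat.card ((P : Set G) * (QF z u : Set G) : Set G) :=
          Nat.card_mono (Set.toFinite _) hsub
      _ ≤ Nat.card (P : Set G) * Nat.card (QF z u : Set G) := Set.natCard_mul_le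
      _ = 24 := by
        show Nat.card ↥P * Nat.card ↥(QF z u) = 24
        rw [hJ.cardP, card_QF X hu h11]
  have h := f.ker.card_mul_index
  rw [index_ker] at h
  have hle : Nat.card ↥C ≤ 264 := by
    rw [← h]
    calc Nat.card ↥f.ker * Nat.card ↥f.range ≤ 24 * 11 :=
          Nat.mul_le_mul hkle (hcm ▸ Subgroup.card_le_of_le hrange)
      _ = 264 := rfl
  have hP : P ≤ C := fun p hp => ⟨hJ.P_le_HH hp, mem_centralizer_singleton_iff.2 (commute_CC_P hu hp).symm⟩
  have hQ : QF z u ≤ C := fun q hq => ⟨EE_le_HH z hq.1, hq.2⟩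
  have h3 : 3 ∣ Nat.card ↥C := hJ.cardP ▸ card_dvd_of_le hP
  have h8 : 8 ∣ Nat.card ↥C := card_QF X hu h11 ▸ card_dvd_of_le hQ
  have h11' : 11 ∣ Nat.card ↥C := h11 ▸ C.orderOf_dvd_natCard ⟨hu.1, mem_centralizer_singleton_iff.2 rfl⟩
  have : 264 ∣ Nat.card ↥C := Nat.Coprime.mul_dvd_of_dvd_of_dvd (m := 24) (n := 11) (by norm_num)
    (Nat.Coprime.mul_dvd_of_dvd_of_dvd (m := 3) (n := 8) (by norm_num) h3 h8) h11'
  exact le_antisymm hle (Nat.le_of_dvd Nat.card_pos this)

include X hu h11 in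
/-- An element of `C_H(u)` of order dividing 24 is in `P E`. -/
theorem mem_PE_of_pow {g : G} (hg : g ∈ CH z u) (h24 : g ^ 24 = 1) : g ∈ P ⊔ EE z := by
  have h0 := cent_inner X hu h11 hg.1 (mem_centralizer_singleton_iff.1 hg.2)
  refine mem_PE_of_psi X h0 ?_
  obtain ⟨hm, hcm, -⟩ := psi_cent X hu h11
  have hmem : X.psi ⟨g, h0⟩ ∈ centralizer ({X.π ⟨u, hu⟩} : Set ↥Cfsg.Spor.M22) := by
    refine mem_centralizer_singleton_iff.2 ?_
    rw [← X.psi_CC hu (CC_le_H0 z P hu), ← map_mul, ← map_mul]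
    exact congrArg X.psi (Subtype.ext (mem_centralizer_singleton_iff.1 hg.2))
  have h1 := (centralizer ({X.π ⟨u, hu⟩} : Set ↥Cfsg.Spor.M22)).orderOf_dvd_natCard hmem
  rw [hcm] at h1
  have h2 : orderOf (X.psi ⟨g, h0⟩) ∣ 24 := orderOf_dvd_of_pow_eq_one (by
    rw [← map_pow, show (⟨g, h0⟩ : ↥(H0 z P)) ^ 24 = 1 from Subtype.ext h24, map_one])
  exact orderOf_eq_one_iff.1 (Nat.eq_one_of_dvd_coprimes (by norm_num : Nat.Coprime 24 11) h2 h1)

include X hu h11 in
/-- An involution of `C_H(u)` is `z`. -/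
theorem CH_invol {g : G} (hg : g ∈ CH z u) (h2 : g * g = 1) (h1 : g ≠ 1) : g = z := by
  have hgE : g ∈ EE z := mem_EE_of_sq X.L.J (mem_PE_of_pow X hu h11 hg (by
    rw [show (24 : ℕ) = 2 * 12 from rfl, pow_mul, pow_two, h2, one_pow])) (by rw [h2]; exact one_mem _)
  exact (X.L.J.mem_zpowers (QF_invol X hu h11 ⟨hgE, hg.2⟩ h2)).resolve_left h1

include X hu h11 in
/-- An element of order eleven of `C_H(u)` is a power of `u`. -/
theorem CH_eleven {g : G} (hg : g ∈ CH z u) (h : g ^ 11 = 1) : g ∈ zpowers u := by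
  haveI : Fact (Nat.Prime 11) := ⟨by norm_num⟩
  set K := zpowers u ⊔ zpowers g
  have hK : K ≤ CH z u := sup_le (Subgroup.zpowers_le.2 ⟨hu.1, mem_centralizer_singleton_iff.2 rfl⟩)
    (Subgroup.zpowers_le.2 hg)
  have hpu : IsPGroup 11 (zpowers u) := IsPGroup.of_card (n := 1) (by rw [Nat.card_zpowers, h11, pow_one])
  have hpg : IsPGroup 11 (zpowers g) := by
    intro a
    refine ⟨1, Subtype.ext ?_⟩
    obtain ⟨i, hi⟩ := mem_zpowers_iff.1 a.2
    push_cast
    rw [← hi, ← zpow_natCast, ← zpow_mul, mul_comm, zpow_mul, zpow_natCast, h, one_zpow]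
  have hn : zpowers g ≤ normalizer ((zpowers u : Subgroup G) : Set G) :=
    Subgroup.zpowers_le.2 (M22Order.mem_normalizer_of_conj fun a ha => by
      obtain ⟨i, rfl⟩ := mem_zpowers_iff.1 ha
      rw [((show Commute g u from mem_centralizer_singleton_iff.1 hg.2).zpow_right i).eq, mul_inv_cancel_right]
      exact zpow_mem (mem_zpowers u) i)
  obtain ⟨k, hk⟩ := IsPGroup.iff_card.1 (hpg.to_sup_of_normal_right' hpu hn)
  have hd := card_dvd_of_le hK
  have h1 : Nat.card ↥(zpowers u) ∣ Nat.card ↥(zpowers g ⊔ zpowers u : Subgroup G) :=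
    card_dvd_of_le le_sup_right
  rw [card_CH X hu h11] at hd
  rw [show K = zpowers g ⊔ zpowers u from sup_comm _ _, hk] at hd
  have hk1 : k ≤ 1 := by
    by_contra hcon
    have : 11 ^ 2 ∣ 264 := (pow_dvd_pow 11 (show 2 ≤ k by omega)).trans hd
    norm_num at this
  have e : zpowers u = zpowers g ⊔ zpowers u := by
    refine eq_of_le_of_card_ge le_sup_right ?_
    rw [hk, Nat.card_zpowers, h11]
    calc 11 ^ k ≤ 11 ^ 1 := Nat.pow_le_pow_right (by norm_num) hk1
      _ = 11 := by norm_num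
  rw [e]
  exact mem_sup_left (mem_zpowers g)

include X hu h11 in
/-- Odd normal subgroups of `C_H(u)` lie in `⟨u⟩`. -/
theorem CH_odd_normal {K : Subgroup G} (hK : K ≤ CH z u) (hodd : Odd (Nat.card K))
    (hn : ∀ c ∈ CH z u, ∀ k ∈ K, c * k * c⁻¹ ∈ K) : K ≤ zpowers u := by
  classical
  have hJ := X.L.J
  have hno3 : ¬ 3 ∣ Nat.card K := by
    intro h3
    haveI : Fact (Nat.Prime 3) := ⟨Nat.prime_three⟩
    obtain ⟨⟨w, hw⟩, hw3⟩ := exists_prime_orderOf_dvd_card' (G := ↥K) 3 h3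
    rw [Subgroup.orderOf_mk] at hw3
    have hwC := hK hw
    obtain ⟨p, hp, q, hq, e⟩ := PE_cent X hu h11 (mem_PE_of_pow X hu h11 hwC (by
      rw [show (24 : ℕ) = 3 * 8 from rfl, pow_mul, show w ^ 3 = 1 from hw3 ▸ pow_orderOf_eq_one w, one_pow]))
      (mem_centralizer_singleton_iff.1 hwC.2)
    have hcentral : ∀ x ∈ QF z u, w * x = x * w := by
      intro x hx
      have hxC : x ∈ CH z u := ⟨EE_le_HH z hx.1, hx.2⟩
      have h1 : w * x * w⁻¹ * x⁻¹ ∈ K := by
        have := mul_mem hw (hn x hxC _ (inv_mem hw))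
        simpa [mul_assoc] using this
      have h2 : w * x * w⁻¹ * x⁻¹ ∈ EE z := mul_mem (conj_mem_EE hwC.1 hx.1) (inv_mem hx.1)
      have h3' : orderOf (w * x * w⁻¹ * x⁻¹) ∣ 2 ^ 13 := hJ.cardE ▸ (EE z).orderOf_dvd_natCard h2
      have h4 : orderOf (w * x * w⁻¹ * x⁻¹) ∣ Nat.card K := K.orderOf_dvd_natCard h1
      have h5 := orderOf_eq_one_iff.1
        (Nat.eq_one_of_dvd_coprimes ((Nat.coprime_two_left.2 hodd).pow_left 13) h3' h4)
      exact mul_inv_eq_iff_eq_mul.1 (mul_inv_eq_one.1 h5)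
    by_cases hp1 : p = 1
    · subst hp1
      rw [one_mul] at e
      have h1 : orderOf w ∣ 2 ^ 13 := hJ.cardE ▸ (EE z).orderOf_dvd_natCard (e ▸ hq.1)
      rw [hw3] at h1
      norm_num at h1
    · have hall : ∀ x ∈ QF z u, x ∈ zpowers z := fun x hx => by
        refine (vk_eq_zero_iff hJ hx.1).1 (act_fpf hJ hp hp1 ?_)
        have h1 : act z w (vk z x) = vk z x := by
          rw [act_vk hwC.1 hx.1, hcentral x hx, mul_inv_cancel_right]
        rwa [e, act_mul_EE hJ (hJ.P_le_HH hp) hq.1] at h1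
      have := Subgroup.card_le_of_le (hall : QF z u ≤ zpowers z)
      rw [card_QF X hu h11, Nat.card_zpowers, hJ.two] at this
      omega
  intro k hk
  refine CH_eleven X hu h11 (hK hk) (orderOf_dvd_iff_pow_eq_one.1 ((K.orderOf_dvd_natCard hk).trans ?_))
  have hd : Nat.card K ∣ 264 := card_CH X hu h11 ▸ card_dvd_of_le hK
  refine (Nat.Coprime.dvd_of_dvd_mul_left (k := Nat.card K) (m := 24) ?_ (show Nat.card K ∣ 24 * 11 from hd))
  rw [show (24 : ℕ) = 2 ^ 3 * 3 from rfl]
  exact Nat.Coprime.mul_right ((Nat.coprime_two_left.2 hodd).symm.pow_right 3)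
    ((Nat.prime_three.coprime_iff_not_dvd.2 hno3).symm)

include X hu h11 in
/-- The normaliser in `H` realises every automorphism of `⟨u⟩`. -/
theorem exists_aut {k : ℕ} (hk : ¬ 11 ∣ k) : ∃ n ∈ HH z, n * u * n⁻¹ = u ^ k := by
  classical
  haveI : Fact (Nat.Prime 11) := ⟨by norm_num⟩
  have hJ := X.L.J
  set K := HH z
  set u' : ↥K := ⟨u, hu.1⟩
  have hu' : orderOf u' = 11 := by rw [Subgroup.orderOf_mk, h11]
  have hcK : Nat.card ↥K = 2 ^ 13 * 2661120 := X.L.cardH
  have hfac : (Nat.card ↥K).factorization 11 = 1 := by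
    rw [hcK, show (2 : ℕ) ^ 13 * 2661120 = 1981808640 * 11 by norm_num,
      Nat.factorization_mul (by norm_num) (by norm_num),
      Finsupp.add_apply, Nat.Prime.factorization_self (by norm_num),
      Nat.factorization_eq_zero_of_not_dvd (by norm_num)]
  let Q : Sylow 11 ↥K := Sylow.ofCard (zpowers u') (by rw [Nat.card_zpowers, hu', hfac, pow_one])
  have hQ : (Q : Subgroup ↥K) = zpowers u' := Sylow.coe_ofCard ..
  set N := normalizer ((zpowers u' : Subgroup ↥K) : Set ↥K)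
  have hcong : N.index % 11 = 1 := by
    have h1 := card_sylow_modEq_one 11 ↥K
    rw [Sylow.card_eq_index_normalizer Q] at h1
    have e : normalizer ((Q : Subgroup ↥K) : Set ↥K) = N := by rw [hQ]
    rw [← e]
    exact h1
  have hex : ∀ n : ↥N, ∃ i : ℕ, i < 11 ∧ (n : ↥K) * u' * (n : ↥K)⁻¹ = u' ^ i := fun n => by
    have h1 := M22Order.conj_mem_of_mem_normalizer n.2 (mem_zpowers u')
    rw [mem_zpowers_iff_mem_range_orderOf, Finset.mem_image] at h1
    obtain ⟨i, hi, e⟩ := h1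
    rw [Finset.mem_range, hu'] at hi
    exact ⟨i, hi, e.symm⟩
  choose i hi hconj using hex
  have hzero : ∀ n : ↥N, i n ≠ 0 := fun n e => by
    have h1 := hconj n
    rw [e, pow_zero, conj_eq_one_iff] at h1
    rw [h1, orderOf_one] at hu'
    norm_num at hu'
  let f : ↥N → Fin 11 := fun n => ⟨i n, hi n⟩
  set C := (CH z u).subgroupOf K with hC
  have hcC : Nat.card ↥C = 264 := by
    rw [hC, Nat.card_congr (subgroupOfEquivOfLe inf_le_left).toEquiv, card_CH X hu h11]
  have hCmem : ∀ c : ↥K, c ∈ C ↔ c * u' = u' * c := fun c => by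
    rw [hC, mem_subgroupOf]
    exact ⟨fun h => Subtype.ext (mem_centralizer_singleton_iff.1 h.2),
      fun h => ⟨c.2, mem_centralizer_singleton_iff.2 (congrArg Subtype.val h)⟩⟩
  have hCN : C ≤ N := fun c hc => M22Order.mem_normalizer_of_conj fun a ha => by
    obtain ⟨j, rfl⟩ := mem_zpowers_iff.1 ha
    rw [((show Commute c u' from (hCmem c).1 hc).zpow_right j).eq, mul_inv_cancel_right]
    exact zpow_mem (mem_zpowers u') j
  set CN := C.subgroupOf N
  have hCN264 : Nat.card ↥CN = 264 := by rw [Nat.card_congr (subgroupOfEquivOfLe hCN).toEquiv, hcC]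
  have hfib : ∀ a b : ↥N, i a = i b → a⁻¹ * b ∈ CN := fun a b e => by
    rw [mem_subgroupOf, hCmem]
    push_cast
    have h1 : (a : ↥K) * u' * (a : ↥K)⁻¹ = (b : ↥K) * u' * (b : ↥K)⁻¹ := by rw [hconj, hconj, e]
    calc (a : ↥K)⁻¹ * (b : ↥K) * u' = (a : ↥K)⁻¹ * ((b : ↥K) * u' * (b : ↥K)⁻¹) * b := by group
      _ = u' * ((a : ↥K)⁻¹ * b) := by rw [← h1]; group
  let g : ↥N ⧸ CN → {j : Fin 11 // j ≠ 0} := fun q => ⟨f q.out, fun e => hzero _ (congrArg Fin.val e)⟩
  have hg : Function.Injective g := fun a b e => by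
    rw [← QuotientGroup.out_eq' a, ← QuotientGroup.out_eq' b, QuotientGroup.eq]
    exact hfib _ _ (congrArg (fun j : {j : Fin 11 // j ≠ 0} => (j.1 : ℕ)) e)
  have hle : Nat.card (↥N ⧸ CN) ≤ 10 := by
    refine (Nat.card_le_card_of_injective g hg).trans ?_
    rw [Nat.card_eq_fintype_card, Fintype.card_subtype_compl, Fintype.card_fin, Fintype.card_subtype_eq]
  have h1 := CN.card_mul_index
  have h2 := N.card_mul_index
  rw [hCN264, Subgroup.index] at h1
  rw [← h1, hcK] at h2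
  set d := Nat.card (↥N ⧸ CN)
  have hd : d = 10 := by
    have h3 : d * N.index = 82575360 := by
      have : 264 * (d * N.index) = 264 * 82575360 := by rw [← mul_assoc, h2]; norm_num
      exact Nat.eq_of_mul_eq_mul_left (by norm_num) this
    have h4 : (d * (N.index % 11)) % 11 = 10 := by rw [Nat.mul_mod_mod, h3]
    rw [hcong, mul_one] at h4
    omega
  have hbij : Function.Bijective g := hg.bijective_of_nat_card_le (by
    rw [Nat.card_eq_fintype_card, Fintype.card_subtype_compl, Fintype.card_fin, Fintype.card_subtype_eq]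
    omega)
  obtain ⟨q, hq⟩ := hbij.surjective ⟨⟨k % 11, Nat.mod_lt _ (by norm_num)⟩, fun e => hk
    (Nat.dvd_of_mod_eq_zero (congrArg Fin.val e))⟩
  have hik : i q.out = k % 11 := congrArg (fun j : {j : Fin 11 // j ≠ 0} => (j.1 : ℕ)) hq
  refine ⟨((q.out : ↥N) : ↥K), ((q.out : ↥N) : ↥K).2, ?_⟩
  have e := congrArg Subtype.val (hconj q.out)
  rw [hik] at e
  push_cast at e
  rw [e]
  conv_rhs => rw [pow_eq_pow_mod k (pow_eleven h11)]

include X hu h11 in
/-- Inner elements do not invert `u`. -/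
theorem outer_of_inverts {n : G} (hn : n ∈ HH z) (hinv : n * u * n⁻¹ = u⁻¹) : n ∉ H0 z P := by
  intro h0
  haveI := X.simple
  have hJ := X.L.J
  obtain ⟨hm, -, hodd⟩ := psi_cent X hu h11
  set m := X.π ⟨u, hu⟩
  have hψu : X.psi ⟨u, CC_le_H0 z P hu⟩ = m := X.psi_CC hu _
  have hψ : X.psi ⟨n, h0⟩ * m * (X.psi ⟨n, h0⟩)⁻¹ = m⁻¹ := by
    rw [← hψu, ← map_mul, ← map_inv, ← map_mul, ← map_inv]
    exact congrArg X.psi (Subtype.ext hinv)
  have hmem : X.psi ⟨n, h0⟩ ∈ normalizer (zpowers m : Set ↥Cfsg.Spor.M22) :=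
    M22Order.mem_normalizer_of_conj fun a ha => by
      obtain ⟨j, rfl⟩ := mem_zpowers_iff.1 ha
      rw [← conj_zpow, hψ]
      exact zpow_mem (inv_mem (mem_zpowers m)) j
  set r := Nat.card ↥(normalizer (zpowers m : Set ↥Cfsg.Spor.M22))
  have h1 : (X.psi ⟨n, h0⟩) ^ r = 1 :=
    orderOf_dvd_iff_pow_eq_one.1 ((normalizer (zpowers m : Set ↥Cfsg.Spor.M22)).orderOf_dvd_natCard hmem)
  obtain ⟨j, hj⟩ := hodd
  have hpow : ∀ i : ℕ, n ^ (2 * i) * u * (n ^ (2 * i))⁻¹ = u := by
    intro i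
    induction i with
    | zero => simp
    | succ i ih =>
      calc n ^ (2 * (i + 1)) * u * (n ^ (2 * (i + 1)))⁻¹
          = n * (n * (n ^ (2 * i) * u * (n ^ (2 * i))⁻¹) * n⁻¹) * n⁻¹ := by
            rw [show 2 * (i + 1) = 1 + 1 + 2 * i by ring, pow_add, pow_add, pow_one]; group
        _ = _ := by rw [ih, hinv, ← conj_inv, hinv, inv_inv]
  have hnr : n ^ r * u * (n ^ r)⁻¹ = u⁻¹ := by
    rw [hj]
    calc n ^ (2 * j + 1) * u * (n ^ (2 * j + 1))⁻¹ = n * (n ^ (2 * j) * u * (n ^ (2 * j))⁻¹) * n⁻¹ := by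
          rw [pow_succ']; group
      _ = _ := by rw [hpow, hinv]
  have hnPE : n ^ r ∈ P ⊔ EE z := mem_PE_of_psi X (pow_mem h0 r) (by
    rw [show (⟨n ^ r, pow_mem h0 r⟩ : ↥(H0 z P)) = ⟨n, h0⟩ ^ r from rfl, map_pow, h1])
  have hnorm : ∀ g ∈ P ⊔ EE z, u * g * u⁻¹ ∈ P ⊔ EE z := fun g hg => by
    obtain ⟨p, hp, e, he, rfl⟩ := dec_PE hJ hg
    rw [show u * (p * e) * u⁻¹ = (u * p * u⁻¹) * (u * e * u⁻¹) by group, commute_CC_P hu hp, mul_inv_cancel_right]
    exact mul_mem (mem_sup_left hp) (mem_sup_right (conj_mem_EE hu.1 he))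
  have h2 : u⁻¹ * u⁻¹ ∈ P ⊔ EE z := by
    have h3 := mul_mem hnPE (hnorm _ (inv_mem hnPE))
    have e : u⁻¹ * u⁻¹ = n ^ r * (u * (n ^ r)⁻¹ * u⁻¹) := by
      rw [show n ^ r * (u * (n ^ r)⁻¹ * u⁻¹) = (n ^ r * u * (n ^ r)⁻¹) * u⁻¹ by group, hnr]
    rwa [e]
  have h4 := (P ⊔ EE z).orderOf_dvd_natCard h2
  obtain ⟨Φ, -, -, hPE⟩ := exists_full_hom hJ
  rw [hPE, ← pow_two, inv_pow, orderOf_inv, (Nat.Coprime.orderOf_pow (by rw [h11]; norm_num)), h11] at h4
  norm_num at h4

end Cfsg.Agent.J4Sylow
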