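import Cfsg.Agent.Lib.J4Sylow.Core
import Cfsg.Agent.Lib.J4Sylow.HLocal
import Cfsg.Agent.Lib.J4Sylow.Arith
import Cfsg.Agent.Lib.J4Local.ThreeClass
import Cfsg.Agent.Lib.J4Local.Fusion
import Cfsg.Agent.Lib.J4Local.Final

/-!
# Janko four type: the centraliser of an element of order eleven of the centraliser of `z`, given the order

It is `U (SL₂(3))` with `U` of order `11 ^ 3` and exponent 11 inverted modulo `⟨u⟩` by `z`.
-/

set_option autoImplicit false
set_option linter.style.haveILetI false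
set_option linter.unusedSectionVars false

namespace Cfsg.Agent.J4Sylow

open Subgroup Cfsg.Agent.J4Local

variable {G : Type*} [Group G] [Finite G] {z : G} {P : Subgroup G}

theorem commute_comm_iff {z u : G} :
    centralizer ({u} : Set G) ⊓ centralizer ({z} : Set G) = CH z u := inf_comm _ _

variable [IsSimpleGroup G] (hG : ¬ IsMulCommutative G)

include hG in
/-- The centraliser of an element of order three has 11-part at most 11. -/
theorem cube_cent (hJ : JType z P) {g : G} (hg : orderOf g = 3) (K : Subgroup G)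
    (hK : K ≤ centralizer ({g} : Set G)) : ¬ 11 ^ 2 ∣ Nat.card K := by
  intro hd
  obtain ⟨p, hp, hp1, hP, hp3⟩ := hJ.exists_gen
  haveI : Fact (Nat.Prime 3) := ⟨Nat.prime_three⟩
  obtain ⟨w, hw, hwz, hzw⟩ := exists_win hG hJ
  obtain ⟨a, ha⟩ := isConj_iff.1 (isConj_three_class hJ (normalizer_P_le hG hJ) hw hwz hzw hg
    (orderOf_eq_prime hp3 hp1))
  have hle : cjS a K ≤ HH z := by
    refine le_trans ?_ (normalizer_P_le hG hJ)
    refine le_trans ?_ (centralizer_le_normalizer (P : Set G))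
    intro x hx
    rw [mem_cjS] at hx
    refine mem_centralizer_iff.2 fun q hq => ?_
    rw [SetLike.mem_coe, hP, mem_zpowers_iff] at hq
    obtain ⟨i, rfl⟩ := hq
    have h1 : Commute x p := by
      show x * p = p * x
      have h2 := mem_centralizer_singleton_iff.1 (hK hx)
      rw [← ha]
      calc x * (a * g * a⁻¹) = a * (a⁻¹ * x * a * g) * a⁻¹ := by group
        _ = _ := by rw [h2]; group
    exact (h1.zpow_right i).eq.symm
  have h1 := hd.trans ((card_cjS a K).symm ▸ card_dvd_of_le hle)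
  rw [(loc_of_jtype hJ).cardH] at h1
  norm_num at h1

variable (hord : Nat.card G = order) (X : J4Eleven.Chart z P) {u : G} (hu : u ∈ CC z P) (h11 : orderOf u = 11)

omit [IsSimpleGroup G] in
include X hu h11 in
theorem coreU : ∃ O, CoreData u z O := by
  refine exists_core (mem_HH.1 hu.1).symm X.L.J.two (by rw [h11]; decide)
    (fun j hju hjz h2 h1 => CH_invol X hu h11
      ⟨mem_HH.2 hjz, mem_centralizer_singleton_iff.2 hju⟩ h2 h1) fun K hK hodd hn => ?_
  rw [commute_comm_iff] at hK hn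
  exact CH_odd_normal X hu h11 hK hodd hn

omit [IsSimpleGroup G] in
include X hu h11 in
theorem card_cent {O : Subgroup G} (D : CoreData u z O) :
    Nat.card ↥(centralizer ({u} : Set G)) = Nat.card O * 24 := by
  have h := D.card
  rw [commute_comm_iff, card_CH X hu h11, h11] at h
  omega

omit [IsSimpleGroup G] in
include hord h11 in
theorem sq_dvd_cent : 11 ^ 2 ∣ Nat.card ↥(centralizer ({u} : Set G)) := by
  haveI : Fact (Nat.Prime 11) := ⟨by norm_num⟩
  have hpu : IsPGroup 11 (zpowers u) := IsPGroup.of_card (n := 1) (by rw [Nat.card_zpowers, h11, pow_one])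
  obtain ⟨S, hS⟩ := hpu.exists_le_sylow
  have hcS : Nat.card ↥(S : Subgroup G) = 11 ^ 3 := by
    rw [Sylow.card_eq_multiplicity, hord, factorization_eleven]
  obtain ⟨k, hk, hkC⟩ := (Nat.dvd_prime_pow (by norm_num : Nat.Prime 11)).1
    (show Nat.card ↥((S : Subgroup G) ⊓ centralizer ({u} : Set G)) ∣ 11 ^ 3 from hcS ▸ card_dvd_of_le inf_le_left)
  refine (?_ : 11 ^ 2 ∣ 11 ^ k).trans (hkC ▸ card_dvd_of_le inf_le_right)
  refine pow_dvd_pow 11 ?_
  by_contra hk2
  have hle : Nat.card ↥((S : Subgroup G) ⊓ centralizer ({u} : Set G)) ≤ 11 := by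
    rw [hkC]
    calc 11 ^ k ≤ 11 ^ 1 := Nat.pow_le_pow_right (by norm_num) (by omega)
      _ = 11 := by norm_num
  have heq : zpowers u = (S : Subgroup G) ⊓ centralizer ({u} : Set G) :=
    eq_of_le_of_card_ge (Subgroup.zpowers_le.2 ⟨hS (mem_zpowers u), mem_centralizer_singleton_iff.2 rfl⟩)
      (by rw [Nat.card_zpowers, h11]; exact hle)
  haveI : Nontrivial ↥(S : Subgroup G) := by
    rw [← Finite.one_lt_card_iff_nontrivial, hcS]; norm_num
  haveI := (S.isPGroup').center_nontrivial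
  obtain ⟨c, hc1⟩ := exists_ne (1 : ↥(center ↥(S : Subgroup G)))
  have hcu : ((c : ↥(S : Subgroup G)) : G) ∈ zpowers u := by
    rw [heq]
    exact ⟨(c : ↥(S : Subgroup G)).2, mem_centralizer_singleton_iff.2
      (congrArg Subtype.val (mem_center_iff.1 c.2 ⟨u, hS (mem_zpowers u)⟩)).symm⟩
  have hgen : zpowers ((c : ↥(S : Subgroup G)) : G) = zpowers u := by
    refine eq_of_le_of_card_ge (Subgroup.zpowers_le.2 hcu) ?_
    rw [Nat.card_zpowers, Nat.card_zpowers, h11]
    have h1 := (zpowers u).orderOf_dvd_natCard hcu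
    rw [Nat.card_zpowers, h11] at h1
    rcases (Nat.dvd_prime (by norm_num : Nat.Prime 11)).1 h1 with e | e
    · exact absurd (Subtype.ext (Subtype.ext (orderOf_eq_one_iff.1 e))) hc1
    · omega
  have huc : ∀ s ∈ (S : Subgroup G), s * u = u * s := by
    intro s hs
    obtain ⟨i, hi⟩ := mem_zpowers_iff.1 (hgen.symm ▸ mem_zpowers u)
    rw [← hi]
    exact ((show Commute s ((c : ↥(S : Subgroup G)) : G) from
      congrArg Subtype.val (mem_center_iff.1 c.2 ⟨s, hs⟩)).zpow_right i).eq
  have h2 : Nat.card ↥(S : Subgroup G) ≤ 11 := (Subgroup.card_le_of_le (le_inf le_rfl fun s hs =>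
    mem_centralizer_singleton_iff.2 (huc s hs))).trans hle
  rw [hcS] at h2
  norm_num at h2

omit [IsSimpleGroup G] in
include X hu h11 in
/-- No element outside `⟨u⟩` spans with it a group normalised by the quaternion group. -/
theorem not_cyclic {O : Subgroup G} (D : CoreData u z O) {a : G} (ha : a ∈ O)
    (hQ : ∀ c ∈ QF z u, c * a * c⁻¹ ∈ zpowers u ⊔ zpowers a) : a ∈ zpowers u := by
  obtain ⟨q, hq, r, hr, hne⟩ := QF_not_comm X hu h11
  have hsup : ∀ x ∈ zpowers u ⊔ zpowers a, ∃ w ∈ zpowers u, ∃ i : ℤ, x = w * a ^ i := by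
    intro x hx
    have hn : zpowers a ≤ normalizer ((zpowers u : Subgroup G) : Set G) :=
      Subgroup.zpowers_le.2 (M22Order.mem_normalizer_of_conj fun w hw => by
        rw [← D.commute_zpowers hw ha, mul_inv_cancel_right]; exact hw)
    obtain ⟨w, hw, y, hy, e⟩ := (Coprime.mem_sup_of_le_normalizer hn).1 hx
    obtain ⟨i, rfl⟩ := mem_zpowers_iff.1 hy
    exact ⟨w, hw, i, e.symm⟩
  obtain ⟨w1, hw1, i, ei⟩ := hsup _ (hQ q hq)
  obtain ⟨w2, hw2, j, ej⟩ := hsup _ (hQ r hr)
  have hwfix : ∀ c ∈ QF z u, ∀ w ∈ zpowers u, c * w * c⁻¹ = w := fun c hc w hw => by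
    obtain ⟨k, rfl⟩ := mem_zpowers_iff.1 hw
    rw [((show Commute c u from mem_centralizer_singleton_iff.1 hc.2).zpow_right k).eq, mul_inv_cancel_right]
  have eA : ∃ w ∈ zpowers u, (q * r) * a * (q * r)⁻¹ = w * a ^ (i * j) := by
    refine ⟨w2 * w1 ^ j, mul_mem hw2 (zpow_mem hw1 j), ?_⟩
    calc (q * r) * a * (q * r)⁻¹ = q * (r * a * r⁻¹) * q⁻¹ := by group
      _ = (q * w2 * q⁻¹) * (q * a * q⁻¹) ^ j := by rw [ej, conj_zpow]; group
      _ = w2 * (w1 * a ^ i) ^ j := by rw [ei, hwfix q hq w2 hw2]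
      _ = _ := by
        rw [(show Commute w1 (a ^ i) from D.commute_zpowers hw1 (zpow_mem ha i)).mul_zpow, ← zpow_mul, mul_assoc]
  have eB : ∃ w ∈ zpowers u, (r * q) * a * (r * q)⁻¹ = w * a ^ (i * j) := by
    refine ⟨w1 * w2 ^ i, mul_mem hw1 (zpow_mem hw2 i), ?_⟩
    calc (r * q) * a * (r * q)⁻¹ = r * (q * a * q⁻¹) * r⁻¹ := by group
      _ = (r * w1 * r⁻¹) * (r * a * r⁻¹) ^ i := by rw [ei, conj_zpow]; group
      _ = w1 * (w2 * a ^ j) ^ i := by rw [ej, hwfix r hr w1 hw1]
      _ = _ := by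
        rw [(show Commute w2 (a ^ j) from D.commute_zpowers hw2 (zpow_mem ha j)).mul_zpow, ← zpow_mul, mul_assoc,
          mul_comm j i]
  obtain ⟨wA, hwA, eA⟩ := eA
  obtain ⟨wB, hwB, eB⟩ := eB
  set b := (r * q) * a * (r * q)⁻¹ with hb
  have hqrz : q * r = z * (r * q) := by
    rcases X.L.J.ctr.comm_cases hq.1 hr.1 with e | e
    · exact absurd (commutatorElement_eq_one_iff_mul_comm.1 e) hne
    · rw [← e, commutatorElement_def]; group
  have hbO : b ∈ O := D.normal _ (mul_mem hr.2 hq.2) a ha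
  have e1 : z * b * z⁻¹ = (wA * wB⁻¹) * b := by
    calc z * b * z⁻¹ = (z * (r * q)) * a * (z * (r * q))⁻¹ := by rw [hb]; group
      _ = wA * a ^ (i * j) := by rw [← hqrz, eA]
      _ = _ := by rw [eB]; group
  have h1 := D.inv b hbO
  rw [e1, mul_assoc] at h1
  have hbb : b * b ∈ zpowers u := by
    have := mul_mem (inv_mem (mul_mem hwA (inv_mem hwB))) h1
    rwa [inv_mul_cancel_left] at this
  have hbu : b ∈ zpowers u := by
    obtain ⟨k, hk⟩ := D.odd
    have h2 : b ^ (2 * k + 1) = 1 := hk ▸ orderOf_dvd_iff_pow_eq_one.1 (O.orderOf_dvd_natCard hbO)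
    have e : b = (b * b) ^ (k + 1) := by
      rw [← pow_two, ← pow_mul, show 2 * (k + 1) = (2 * k + 1) + 1 by omega, pow_succ, h2, one_mul]
    rw [e]
    exact pow_mem hbb _
  have hrqu : r * q ∈ centralizer ({u} : Set G) := mul_mem hr.2 hq.2
  obtain ⟨l, hl⟩ := mem_zpowers_iff.1 hbu
  have e3 : a = (r * q)⁻¹ * b * (r * q) := by rw [hb]; group
  rw [e3, ← hl, mul_assoc, ← ((show Commute (r * q) u from mem_centralizer_singleton_iff.1 hrqu).zpow_right l).eq,
    inv_mul_cancel_left]
  exact zpow_mem (mem_zpowers u) l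

omit [IsSimpleGroup G] in
include X hu h11 in
/-- For a prime other than eleven dividing the order of the core, its square divides it. -/
theorem sq_dvd_core {O : Subgroup G} (D : CoreData u z O) {q : ℕ} (hq : q.Prime) (hq11 : q ≠ 11)
    (hd : q ∣ Nat.card O) : q ^ 2 ∣ Nat.card O := by
  classical
  haveI := Fact.mk hq
  by_contra hsq
  obtain ⟨⟨a, ha⟩, hord'⟩ := exists_prime_orderOf_dvd_card' (G := ↥O) q hd
  rw [Subgroup.orderOf_mk] at hord'
  have hcop : (orderOf a).Coprime (orderOf u) := by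
    rw [hord', h11]; exact (Nat.coprime_primes hq (by norm_num)).2 hq11
  have hnot : a ∉ zpowers u := by
    intro hau
    have h1 := (zpowers u).orderOf_dvd_natCard hau
    rw [Nat.card_zpowers] at h1
    have h2 := Nat.eq_one_of_dvd_coprimes hcop dvd_rfl h1
    exact hq.one_lt.ne' (hord'.symm.trans h2)
  refine hnot (not_cyclic X hu h11 D ha fun c hc => mem_sup_right ?_)
  set b := c * a * c⁻¹ with hbdef
  have hb : b ∈ O := D.normal c hc.2 a ha
  have hbo : orderOf b = q := hord' ▸ MulEquiv.orderOf_eq (MulAut.conj c) a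
  by_contra hnb
  apply hsq
  have hab : Commute a b := D.central ha hcop hb
  have hn : zpowers b ≤ normalizer ((zpowers a : Subgroup G) : Set G) :=
    Subgroup.zpowers_le.2 (M22Order.mem_normalizer_of_conj fun w hw => by
      obtain ⟨k, rfl⟩ := mem_zpowers_iff.1 hw
      rw [(hab.symm.zpow_right k).eq, mul_inv_cancel_right]; exact hw)
  have hpa : IsPGroup q (zpowers a) := IsPGroup.of_card (n := 1) (by rw [Nat.card_zpowers, hord', pow_one])
  have hpb : IsPGroup q (zpowers b) := IsPGroup.of_card (n := 1) (by rw [Nat.card_zpowers, hbo, pow_one])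
  obtain ⟨k, hk⟩ := IsPGroup.iff_card.1 (hpb.to_sup_of_normal_right' hpa hn)
  have hle : (zpowers b ⊔ zpowers a : Subgroup G) ≤ O :=
    sup_le (Subgroup.zpowers_le.2 hb) (Subgroup.zpowers_le.2 ha)
  refine dvd_trans ?_ (card_dvd_of_le hle)
  rw [hk]
  refine pow_dvd_pow q ?_
  by_contra hk2
  refine hnb ?_
  rw [eq_of_le_of_card_ge (le_sup_right : zpowers a ≤ zpowers b ⊔ zpowers a) (by
    rw [hk, Nat.card_zpowers, hord']
    calc q ^ k ≤ q ^ 1 := Nat.pow_le_pow_right hq.pos (by omega)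
      _ = q := pow_one q)]
  exact mem_sup_left (mem_zpowers b)

include hG hord X hu h11 in
theorem card_core {O : Subgroup G} (D : CoreData u z O) : Nat.card O = 11 ^ 3 := by
  classical
  haveI : Fact (Nat.Prime 11) := ⟨by norm_num⟩
  have hJ := X.L.J
  have hC := card_cent X hu h11 D
  have hCG : Nat.card O * 24 ∣ order := by
    rw [← hC, ← hord]; exact card_subgroup_dvd_card _
  have honly : ∀ {q : ℕ}, q.Prime → q ∣ Nat.card O → q = 11 := by
    intro q hq hd
    by_contra hq11
    have h2 := sq_dvd_core X hu h11 D hq hq11 hd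
    rcases eq_of_sq_dvd hq (h2.trans (dvd_trans (Dvd.intro 24 rfl) hCG)) with rfl | rfl | rfl
    · exact Nat.not_even_iff_odd.2 D.odd (even_iff_two_dvd.2 hd)
    · haveI : Fact (Nat.Prime 3) := ⟨Nat.prime_three⟩
      have h27 : 3 ^ 3 ∣ Nat.card ↥(centralizer ({u} : Set G)) := by
        rw [hC]
        calc 3 ^ 3 = 3 ^ 2 * 3 := by norm_num
          _ ∣ Nat.card O * 24 := Nat.mul_dvd_mul h2 (by norm_num)
      obtain ⟨R', hR'⟩ := Sylow.exists_subgroup_card_pow_prime (G := ↥(centralizer ({u} : Set G))) 3 h27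
      set R := R'.map (centralizer ({u} : Set G)).subtype
      have hRc : Nat.card R = 3 ^ 3 := by
        rw [card_map_of_injective (centralizer ({u} : Set G)).subtype_injective, hR']
      let S : Sylow 3 G := Sylow.ofCard R (by rw [hRc, hord, factorization_three])
      obtain ⟨T0, hT0⟩ := Sylow.exists_subgroup_card_pow_prime (G := ↥(HH z)) 3 (n := 3)
        (show 3 ^ 3 ∣ Nat.card ↥(HH z) by rw [X.L.cardH]; norm_num)
      let T : Sylow 3 G := Sylow.ofCard (T0.map (HH z).subtype) (by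
        rw [card_map_of_injective (HH z).subtype_injective, hT0, hord, factorization_three])
      have hTH : (T : Subgroup G) ≤ HH z := by
        rw [Sylow.coe_ofCard]; exact map_subtype_le _
      obtain ⟨g, hg⟩ := MulAction.exists_smul_eq G S T
      obtain ⟨-, -, -, -, h864⟩ := three_of hJ (normalizer_P_le hG hJ) T hTH
      have hmem : g * u * g⁻¹ ∈ normalizer ((T : Subgroup G) : Set G) := by
        refine centralizer_le_normalizer _ (mem_centralizer_iff.2 fun t ht => ?_)
        rw [← hg] at ht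
        obtain ⟨s, hs, rfl⟩ := ht
        have hs' : s ∈ R := by
          have : s ∈ (S : Subgroup G) := hs
          rwa [Sylow.coe_ofCard] at this
        have hsu := mem_centralizer_singleton_iff.1 ((map_subtype_le R') hs')
        show g * s * g⁻¹ * (g * u * g⁻¹) = g * u * g⁻¹ * (g * s * g⁻¹)
        calc g * s * g⁻¹ * (g * u * g⁻¹) = g * (s * u) * g⁻¹ := by group
          _ = _ := by rw [hsu]; group
      have h := (normalizer ((T : Subgroup G) : Set G)).orderOf_dvd_natCard hmem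
      rw [show orderOf (g * u * g⁻¹) = orderOf u from MulEquiv.orderOf_eq (MulAut.conj g) u, h11, h864] at h
      norm_num at h
    · exact hq11 rfl
  have hpow := Nat.eq_prime_pow_of_unique_prime_dvd (n := Nat.card O) Nat.card_pos.ne' honly
  set k := (Nat.card O).primeFactorsList.length
  have hk3 : k ≤ 3 := by
    by_contra hcon
    have h1 : 11 ^ 4 ∣ order := ((pow_dvd_pow 11 (show 4 ≤ k by omega)).trans
      (hpow ▸ dvd_rfl)).trans ((Dvd.intro 24 rfl).trans hCG)
    norm_num [order] at h1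
  have hk2 : 2 ≤ k := by
    by_contra hcon
    have h1 := sq_dvd_cent (u := u) hord h11
    rw [hC, hpow] at h1
    have h2 : k = 0 ∨ k = 1 := by omega
    rcases h2 with e | e <;> rw [e] at h1 <;> norm_num at h1
  rcases (show k = 2 ∨ k = 3 by omega) with e | e
  · exfalso
    rw [e] at hpow
    obtain ⟨a, ha, hau⟩ : ∃ a ∈ O, a ∉ zpowers u := by
      by_contra hcon
      push Not at hcon
      have := Subgroup.card_le_of_le (hcon : O ≤ zpowers u)
      rw [hpow, Nat.card_zpowers, h11] at this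
      norm_num at this
    refine hau (not_cyclic X hu h11 D ha fun c hc => ?_)
    have hle : zpowers u ⊔ zpowers a ≤ O := sup_le D.zpowers_le (Subgroup.zpowers_le.2 ha)
    obtain ⟨j, hj, hjK⟩ := (Nat.dvd_prime_pow (by norm_num : Nat.Prime 11)).1 (hpow ▸ card_dvd_of_le hle)
    have hj2 : j = 2 := by
      by_contra hne
      refine hau ?_
      rw [eq_of_le_of_card_ge (le_sup_left : zpowers u ≤ zpowers u ⊔ zpowers a) (by
        rw [hjK, Nat.card_zpowers, h11]
        calc 11 ^ j ≤ 11 ^ 1 := Nat.pow_le_pow_right (by norm_num) (by omega)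
          _ = 11 := by norm_num)]
      exact mem_sup_right (mem_zpowers a)
    rw [eq_of_le_of_card_ge hle (by rw [hjK, hpow, hj2])]
    exact D.normal c hc.2 a ha
  · rw [hpow, e]

include hG hord X hu h11 in
/-- Exponent eleven. -/
theorem pow_core {O : Subgroup G} (D : CoreData u z O) {a : G} (ha : a ∈ O) : a ^ 11 = 1 := by
  have hcard := card_core hG hord X hu h11 D
  have hdiv : orderOf a ∣ 11 ^ 3 := hcard ▸ O.orderOf_dvd_natCard ha
  have h11u : a ^ 11 ∈ zpowers u := by
    by_contra hnot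
    have hau : a ∉ zpowers u := fun h => hnot (pow_mem h 11)
    refine hau (not_cyclic X hu h11 D ha fun c hc => ?_)
    set K1 := zpowers u ⊔ zpowers (a ^ 11)
    set K2 := zpowers u ⊔ zpowers a
    have h12 : K1 ≤ K2 := sup_le le_sup_left (Subgroup.zpowers_le.2 (mem_sup_right (pow_mem (mem_zpowers a) 11)))
    have hle : K2 ≤ O := sup_le D.zpowers_le (Subgroup.zpowers_le.2 ha)
    obtain ⟨j1, -, hj1⟩ := (Nat.dvd_prime_pow (by norm_num : Nat.Prime 11)).1
      (hcard ▸ card_dvd_of_le (h12.trans hle))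
    obtain ⟨j2, hj2', hj2⟩ := (Nat.dvd_prime_pow (by norm_num : Nat.Prime 11)).1 (hcard ▸ card_dvd_of_le hle)
    have s1 : 2 ≤ j1 := by
      by_contra hcon
      refine hnot ?_
      rw [eq_of_le_of_card_ge (le_sup_left : zpowers u ≤ K1) (by
        rw [hj1, Nat.card_zpowers, h11]
        calc 11 ^ j1 ≤ 11 ^ 1 := Nat.pow_le_pow_right (by norm_num) (by omega)
          _ = 11 := by norm_num)]
      exact mem_sup_right (mem_zpowers _)
    have s2 : j1 < j2 := by
      by_contra hcon
      push Not at hcon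
      have heq : K1 = K2 := eq_of_le_of_card_ge h12 (by
        rw [hj1, hj2]; exact Nat.pow_le_pow_right (by norm_num) hcon)
      have hmem : a ∈ K1 := heq ▸ mem_sup_right (mem_zpowers a)
      have hn : zpowers (a ^ 11) ≤ normalizer ((zpowers u : Subgroup G) : Set G) :=
        Subgroup.zpowers_le.2 (M22Order.mem_normalizer_of_conj fun w hw => by
          rw [← D.commute_zpowers hw (pow_mem ha 11), mul_inv_cancel_right]; exact hw)
      obtain ⟨w, hw, y, hy, e⟩ := (Coprime.mem_sup_of_le_normalizer hn).1 hmem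
      obtain ⟨m, hm⟩ := mem_zpowers_iff.1 hy
      have h1 : a ^ (1 - 11 * m) ∈ zpowers u := by
        rw [zpow_sub, zpow_one, zpow_mul, zpow_ofNat, hm]
        have : a * y⁻¹ = w := by rw [← e]; group
        rw [this]; exact hw
      have hgcd : Int.gcd (1 - 11 * m) (orderOf a) = 1 := by
        obtain ⟨s, -, hs⟩ := (Nat.dvd_prime_pow (by norm_num : Nat.Prime 11)).1 hdiv
        rw [hs, Int.gcd_eq_natAbs, Int.natAbs_natCast]
        refine Nat.Coprime.pow_right s ((Nat.Prime.coprime_iff_not_dvd (by norm_num)).2 ?_).symm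
        intro hd
        have : (11 : ℤ) ∣ 1 - 11 * m := Int.natCast_dvd.2 hd
        omega
      refine hau ?_
      have hb := Int.gcd_eq_gcd_ab (1 - 11 * m) (orderOf a)
      rw [hgcd] at hb
      have : a = (a ^ (1 - 11 * m)) ^ Int.gcdA (1 - 11 * m) (orderOf a) := by
        conv_lhs => rw [← zpow_one a, show (1 : ℤ) = ((1 : ℕ) : ℤ) from rfl, hb, zpow_add, zpow_mul, zpow_mul,
          zpow_natCast, pow_orderOf_eq_one, one_zpow, mul_one]
      rw [this]; exact zpow_mem h1 _
    rw [eq_of_le_of_card_ge hle (by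
      rw [hcard, hj2]; exact Nat.pow_le_pow_right (by norm_num) (by omega))]
    exact D.normal c hc.2 a ha
  obtain ⟨w, hw, e⟩ : ∃ w ∈ zpowers u, z * a * z⁻¹ = w * a⁻¹ :=
    ⟨_, D.inv a ha, by group⟩
  have h2 : (z * a * z⁻¹) ^ 11 = a ^ 11 := by
    rw [conj_pow]
    obtain ⟨k, hk⟩ := mem_zpowers_iff.1 h11u
    rw [← hk, ((show Commute z u from (mem_HH.1 hu.1).symm).zpow_right k).eq, mul_inv_cancel_right]
  have hw11 : w ^ 11 = 1 := by
    obtain ⟨k, rfl⟩ := mem_zpowers_iff.1 hw
    rw [← zpow_natCast, ← zpow_mul, mul_comm, zpow_mul, zpow_natCast, pow_eleven h11, one_zpow]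
  rw [e, (show Commute w a⁻¹ from D.commute_zpowers hw (inv_mem ha)).mul_pow, hw11, one_mul, inv_pow,
    inv_eq_iff_mul_eq_one, ← pow_add] at h2
  have h3 : orderOf a ∣ 11 * 2 := orderOf_dvd_of_pow_eq_one h2
  refine orderOf_dvd_iff_pow_eq_one.1 (Nat.Coprime.dvd_of_dvd_mul_right ?_ h3)
  exact (Nat.Coprime.coprime_dvd_left hdiv (by norm_num))

include hG hord X hu h11 in
/-- An involution of `C(u)` is conjugate to `z`. -/
theorem invol_cent {j : G} (hj : j * u = u * j) (h2 : j * j = 1) (h1 : j ≠ 1) : IsConj z j := by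
  classical
  haveI : Fact (Nat.Prime 2) := ⟨Nat.prime_two⟩
  obtain ⟨O, D⟩ := coreU X hu h11
  set C := centralizer ({u} : Set G)
  have hC : Nat.card ↥C = 2 ^ 3 * 3993 := by
    rw [card_cent X hu h11 D, card_core hG hord X hu h11 D]; norm_num
  have hQC : QF z u ≤ C := inf_le_right
  have hfac : (Nat.card ↥C).factorization 2 = 3 := by
    rw [hC, Nat.factorization_mul (by norm_num) (by norm_num), Finsupp.add_apply,
      Nat.Prime.factorization_pow Nat.prime_two, Finsupp.single_eq_same,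
      Nat.factorization_eq_zero_of_not_dvd (by norm_num)]
  let Q : Sylow 2 ↥C := Sylow.ofCard ((QF z u).subgroupOf C) (by
    rw [Nat.card_congr (subgroupOfEquivOfLe hQC).toEquiv, card_QF X hu h11, hfac]; rfl)
  have hQ : (Q : Subgroup ↥C) = (QF z u).subgroupOf C := Sylow.coe_ofCard ..
  set j' : ↥C := ⟨j, mem_centralizer_singleton_iff.2 hj⟩
  have hp : IsPGroup 2 (zpowers j') := IsPGroup.of_card (n := 1) (by
    rw [Nat.card_zpowers, pow_one]
    exact orderOf_eq_prime (Subtype.ext (by rw [pow_two]; exact h2)) fun e => h1 (congrArg Subtype.val e))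
  obtain ⟨S, hS⟩ := hp.exists_le_sylow
  obtain ⟨c, hc⟩ := MulAction.exists_smul_eq ↥C S Q
  have hmem : c * j' * c⁻¹ ∈ (Q : Subgroup ↥C) := hc ▸ ⟨j', hS (mem_zpowers j'), rfl⟩
  rw [hQ, mem_subgroupOf] at hmem
  push_cast at hmem
  have hsq : (c : G) * j * (c : G)⁻¹ * ((c : G) * j * (c : G)⁻¹) = 1 := by
    calc (c : G) * j * (c : G)⁻¹ * ((c : G) * j * (c : G)⁻¹) = c * (j * j) * (c : G)⁻¹ := by group
      _ = 1 := by rw [h2]; group
  rcases X.L.J.mem_zpowers (QF_invol X hu h11 hmem hsq) with e | e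
  · exact absurd (conj_eq_one_iff.1 e) h1
  · exact (isConj_iff.2 ⟨(c : G), e⟩).symm

include hG hord X hu h11 in
/-- `C_H(u)` acts without fixed points on `U ∖ ⟨u⟩`. -/
theorem semiregular {O : Subgroup G} (D : CoreData u z O) {k w : G} (hk : k ∈ CH z u) (hw : w ∈ O)
    (hwu : w ∉ zpowers u) (hkw : k * w = w * k) : k ∈ zpowers u := by
  classical
  by_contra hku
  have hne : k ^ 11 ≠ 1 := fun e => hku (CH_eleven X hu h11 hk e)
  have h24 : (k ^ 11) ^ 24 = 1 := by
    rw [← pow_mul, show 11 * 24 = 264 from rfl, ← card_CH X hu h11]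
    exact orderOf_dvd_iff_pow_eq_one.1 ((CH z u).orderOf_dvd_natCard hk)
  set m := k ^ 11
  have hm : m ∈ CH z u := pow_mem hk 11
  have hmw : Commute m w := (show Commute k w from hkw).pow_left 11
  obtain ⟨q, hq, hqd⟩ := Nat.exists_prime_and_dvd (n := orderOf m) (fun e => hne (orderOf_eq_one_iff.1 e))
  have hq' : q = 2 ∨ q = 3 := by
    have h1 : q ∣ 2 ^ 3 * 3 := hqd.trans (orderOf_dvd_of_pow_eq_one h24)
    rcases hq.dvd_mul.1 h1 with h | h
    · exact Or.inl ((Nat.prime_dvd_prime_iff_eq hq Nat.prime_two).1 (hq.dvd_of_dvd_pow h))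
    · exact Or.inr ((Nat.prime_dvd_prime_iff_eq hq Nat.prime_three).1 h)
  set y := m ^ (orderOf m / q) with hy
  have hyo : orderOf y = q := orderOf_pow_orderOf_div (orderOf_pos m).ne' hqd
  have hyC : y ∈ CH z u := pow_mem hm _
  have hyw : Commute y w := hmw.pow_left _
  rcases hq' with rfl | rfl
  · have h2 : y * y = 1 := by rw [← pow_two, ← hyo, pow_orderOf_eq_one]
    have hyz := CH_invol X hu h11 hyC h2 (fun e => by rw [e, orderOf_one] at hyo; norm_num at hyo)
    exact hwu (D.inter w hw (hyz ▸ hyw.eq.symm))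
  · refine cube_cent hG X.L.J hyo (zpowers u ⊔ zpowers w) (sup_le ?_ ?_) ?_
    · exact Subgroup.zpowers_le.2 (mem_centralizer_singleton_iff.2 (mem_centralizer_singleton_iff.1 hyC.2).symm)
    · exact Subgroup.zpowers_le.2 (mem_centralizer_singleton_iff.2 hyw.eq.symm)
    have hle : zpowers u ⊔ zpowers w ≤ O := sup_le D.zpowers_le (Subgroup.zpowers_le.2 hw)
    obtain ⟨j, -, hj⟩ := (Nat.dvd_prime_pow (by norm_num : Nat.Prime 11)).1
      (card_core hG hord X hu h11 D ▸ card_dvd_of_le hle)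
    rw [hj]
    refine pow_dvd_pow 11 ?_
    by_contra hcon
    refine hwu ?_
    rw [eq_of_le_of_card_ge (le_sup_left : zpowers u ≤ zpowers u ⊔ zpowers w) (by
      rw [hj, Nat.card_zpowers, h11]
      calc 11 ^ j ≤ 11 ^ 1 := Nat.pow_le_pow_right (by norm_num) (by omega)
        _ = 11 := by norm_num)]
    exact mem_sup_right (mem_zpowers w)

omit [IsSimpleGroup G] in
include X hu h11 in
/-- An element of order eleven of `C(z)` is conjugate there to a power of `u`. -/
theorem conj_eleven {g : G} (hg : g ∈ HH z) (hg11 : orderOf g = 11) :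
    ∃ d ∈ HH z, d * g * d⁻¹ ∈ zpowers u := by
  haveI : Fact (Nat.Prime 11) := ⟨by norm_num⟩
  set K := HH z
  set u' : ↥K := ⟨u, hu.1⟩
  set g' : ↥K := ⟨g, hg⟩
  have hfac : (Nat.card ↥K).factorization 11 = 1 := by
    rw [X.L.cardH, show (2 : ℕ) ^ 13 * 2661120 = 1981808640 * 11 by norm_num,
      Nat.factorization_mul (by norm_num) (by norm_num),
      Finsupp.add_apply, Nat.Prime.factorization_self (by norm_num),
      Nat.factorization_eq_zero_of_not_dvd (by norm_num)]
  let Qu : Sylow 11 ↥K := Sylow.ofCard (zpowers u') (by rw [Nat.card_zpowers, Subgroup.orderOf_mk, h11, hfac, pow_one])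
  let Qg : Sylow 11 ↥K := Sylow.ofCard (zpowers g') (by rw [Nat.card_zpowers, Subgroup.orderOf_mk, hg11, hfac, pow_one])
  obtain ⟨d, hd⟩ := MulAction.exists_smul_eq ↥K Qg Qu
  have hmem : d * g' * d⁻¹ ∈ (Qu : Subgroup ↥K) := by
    rw [← hd]
    refine ⟨g', ?_, rfl⟩
    show g' ∈ (Qg : Subgroup ↥K)
    rw [Sylow.coe_ofCard]; exact mem_zpowers g'
  rw [Sylow.coe_ofCard, mem_zpowers_iff] at hmem
  obtain ⟨i, hi⟩ := hmem
  exact ⟨d, d.2, mem_zpowers_iff.2 ⟨i, congrArg Subtype.val hi⟩⟩

end Cfsg.Agent.J4Sylow
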