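import Mathlib
import Cfsg.Prelude.Def_TwoFusion
import Cfsg.Agent.Lib.J4Local.Isolated

/-!
# The centraliser of an element centralised by an isolated involution

If the involution `i` is the only one of `C(x) ∩ C(i)` and the odd normal subgroups of this group lie in `⟨x⟩`,
then `C(x) = O (C(x) ∩ C(i))` with `O` odd and normal, `i` inverting `O / ⟨x⟩`.
-/

set_option autoImplicit false
set_option linter.style.haveILetI false
set_option linter.unusedSectionVars false

namespace Cfsg.Agent.J4Sylow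

open Subgroup

variable {G : Type*} [Group G] [Finite G]

/-- The odd core of the centraliser of `x` with respect to the isolated involution `i`. -/
structure CoreData (x i : G) (O : Subgroup G) : Prop where
  le : O ≤ centralizer ({x} : Set G)
  odd : Odd (Nat.card O)
  normal : ∀ c ∈ centralizer ({x} : Set G), ∀ o ∈ O, c * o * c⁻¹ ∈ O
  x_mem : x ∈ O
  i_mem : i ∈ centralizer ({x} : Set G)
  inter : ∀ o ∈ O, o * i = i * o → o ∈ zpowers x
  dec : ∀ c ∈ centralizer ({x} : Set G), ∃ o ∈ O,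
    ∃ k ∈ centralizer ({x} : Set G) ⊓ centralizer ({i} : Set G), c = o * k
  inv : ∀ o ∈ O, i * o * i⁻¹ * o ∈ zpowers x

variable {x i : G} {O : Subgroup G}

theorem CoreData.zpowers_le (D : CoreData x i O) : zpowers x ≤ O := Subgroup.zpowers_le.2 D.x_mem

theorem CoreData.commute_zpowers (D : CoreData x i O) {w a : G} (hw : w ∈ zpowers x) (ha : a ∈ O) :
    w * a = a * w := by
  obtain ⟨k, rfl⟩ := mem_zpowers_iff.1 hw
  exact ((show Commute a x from mem_centralizer_singleton_iff.1 (D.le ha)).zpow_right k).symm.eq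

/-- Commutators of `O` lie in `⟨x⟩`. -/
theorem CoreData.comm (D : CoreData x i O) {a b : G} (ha : a ∈ O) (hb : b ∈ O) :
    ∃ w ∈ zpowers x, a * b = w * (b * a) := by
  have h1 := D.inv _ ha
  have h2 := D.inv _ hb
  have h3 := D.inv _ (mul_mem ha hb)
  set p := i * a * i⁻¹ * a with hp
  set q := i * b * i⁻¹ * b with hq
  set r := i * (a * b) * i⁻¹ * (a * b) with hr
  have e : r = p * a⁻¹ * (q * b⁻¹) * (a * b) := by rw [hr, hp, hq]; group
  have hqa : a⁻¹ * q = q * a⁻¹ := (D.commute_zpowers h2 (inv_mem ha)).symm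
  have hw : (p * q)⁻¹ * r = a⁻¹ * b⁻¹ * a * b := by
    rw [e]
    calc (p * q)⁻¹ * (p * a⁻¹ * (q * b⁻¹) * (a * b)) = q⁻¹ * (a⁻¹ * q) * b⁻¹ * (a * b) := by group
      _ = _ := by rw [hqa]; group
  have hmem : a⁻¹ * b⁻¹ * a * b ∈ zpowers x := hw ▸ mul_mem (inv_mem (mul_mem h1 h2)) h3
  refine ⟨_, hmem, ?_⟩
  rw [D.commute_zpowers hmem (mul_mem hb ha)]
  group

/-- A subgroup of `O` through `x` is normal in `O`. -/
theorem CoreData.conj_mem (D : CoreData x i O) {K : Subgroup G} (hK : K ≤ O) (hx : x ∈ K) {o k : G}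
    (ho : o ∈ O) (hk : k ∈ K) : o * k * o⁻¹ ∈ K := by
  obtain ⟨w, hw, e⟩ := D.comm ho (hK hk)
  rw [e, ← mul_assoc, mul_inv_cancel_right]
  exact mul_mem (Subgroup.zpowers_le.2 hx hw) hk

/-- Elements of order prime to that of `x` are central in `O`. -/
theorem CoreData.central (D : CoreData x i O) {a : G} (ha : a ∈ O) (hcop : (orderOf a).Coprime (orderOf x))
    {b : G} (hb : b ∈ O) : a * b = b * a := by
  obtain ⟨w, hw, e⟩ := D.comm hb ha
  have hconj : b * a * b⁻¹ = w * a := by rw [e, ← mul_assoc, mul_inv_cancel_right]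
  have hpow : (w * a) ^ orderOf a = 1 := by
    rw [← hconj, conj_pow, pow_orderOf_eq_one, mul_one, mul_inv_cancel]
  rw [(show Commute w a from D.commute_zpowers hw ha).mul_pow, pow_orderOf_eq_one, mul_one] at hpow
  have hd1 : orderOf w ∣ orderOf a := orderOf_dvd_of_pow_eq_one hpow
  have hd2 : orderOf w ∣ orderOf x := by
    obtain ⟨k, rfl⟩ := mem_zpowers_iff.1 hw
    exact orderOf_dvd_of_mem_zpowers (zpow_mem (mem_zpowers x) k)
  have hw1 : w = 1 := orderOf_eq_one_iff.1 (Nat.eq_one_of_dvd_coprimes hcop hd1 hd2)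
  rw [e, hw1, one_mul]

/-- `C(x) = O (C(x) ∩ C(i))`, meeting in `⟨x⟩`. -/
theorem CoreData.card (D : CoreData x i O) :
    Nat.card (centralizer ({x} : Set G)) * orderOf x =
      Nat.card O * Nat.card ↥(centralizer ({x} : Set G) ⊓ centralizer ({i} : Set G)) := by
  classical
  set C := centralizer ({x} : Set G)
  set K := C ⊓ centralizer ({i} : Set G)
  let N : Subgroup ↥C := O.subgroupOf C
  let M : Subgroup ↥C := K.subgroupOf C
  have hN : ↥N ≃ ↥O := (subgroupOfEquivOfLe D.le).toEquiv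
  have hM : ↥M ≃ ↥K := (subgroupOfEquivOfLe inf_le_left).toEquiv
  haveI : N.Normal := ⟨fun a ha g => D.normal g g.2 a ha⟩
  have hsup : N ⊔ M = ⊤ := by
    refine eq_top_iff.2 fun c _ => ?_
    obtain ⟨o, ho, k, hk, e⟩ := D.dec c c.2
    have : c = (⟨o, D.le ho⟩ : ↥C) * ⟨k, hk.1⟩ := Subtype.ext e
    rw [this]
    exact mul_mem_sup (mem_subgroupOf.2 ho) (mem_subgroupOf.2 hk)
  have hinter : Nat.card ↥(N ⊓ M : Subgroup ↥C) = orderOf x := by
    rw [← Nat.card_zpowers, ← card_map_of_injective (f := C.subtype) C.subtype_injective]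
    congr 1
    rw [Subgroup.map_inf _ _ _ C.subtype_injective, map_subgroupOf_eq_of_le D.le,
      map_subgroupOf_eq_of_le inf_le_left]
    have hh : O ⊓ K = zpowers x := by
      refine le_antisymm (fun a ha => D.inter a ha.1 (mem_centralizer_singleton_iff.1 ha.2.2)) ?_
      refine Subgroup.zpowers_le.2 ⟨D.x_mem, mem_centralizer_singleton_iff.2 rfl, mem_centralizer_singleton_iff.2 ?_⟩
      exact (mem_centralizer_singleton_iff.1 D.i_mem).symm
    rw [hh]
  have h1 := relIndex_sup_right M N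
  rw [sup_comm, hsup, relIndex_top_right] at h1
  have h2 := N.card_mul_index
  rw [h1, Nat.card_congr hN] at h2
  have h3 := relIndex_mul_index (inf_le_right : N ⊓ M ≤ M)
  have h4 := (N.subgroupOf M).card_mul_index
  rw [← relIndex, ← inf_relIndex_right] at h4
  rw [Nat.card_congr hM] at h4
  have h5 : Nat.card ↥(N.subgroupOf M) = orderOf x := by
    rw [← hinter, ← inf_subgroupOf_right]
    exact Nat.card_congr (subgroupOfEquivOfLe inf_le_right).toEquiv
  rw [h5] at h4
  rw [← h4, ← h2, ← inf_relIndex_right]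
  ring

/-- An isolated involution gives the decomposition. -/
theorem exists_core (hxi : i * x = x * i) (hi : orderOf i = 2) (hodd : Odd (orderOf x))
    (huniq : ∀ j, j * x = x * j → j * i = i * j → j * j = 1 → j ≠ 1 → j = i)
    (hO : ∀ K : Subgroup G, K ≤ centralizer ({x} : Set G) ⊓ centralizer ({i} : Set G) → Odd (Nat.card K) →
      (∀ c ∈ centralizer ({x} : Set G) ⊓ centralizer ({i} : Set G), ∀ k ∈ K, c * k * c⁻¹ ∈ K) → K ≤ zpowers x) :
    ∃ O, CoreData x i O := by
  classical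
  set C := centralizer ({x} : Set G) with hCdef
  have hiC : i ∈ C := mem_centralizer_singleton_iff.2 hxi
  set i' : ↥C := ⟨i, hiC⟩
  have hii : i * i = 1 := by rw [← pow_two, ← hi, pow_orderOf_eq_one]
  have hi1 : i ≠ 1 := fun e => by rw [e, orderOf_one] at hi; norm_num at hi
  have hiso : Cfsg.IsIsolatedInvolution i' := by
    refine ⟨(Subgroup.orderOf_mk _ _).trans hi, fun g hg => Subtype.ext ?_⟩
    refine huniq _ (mem_centralizer_singleton_iff.1 (mul_mem (mul_mem g.2 hiC) (inv_mem g.2))) ?_ ?_ ?_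
    · exact (congrArg Subtype.val hg.eq).symm
    · show (g : G) * i * (g : G)⁻¹ * ((g : G) * i * (g : G)⁻¹) = 1
      calc (g : G) * i * (g : G)⁻¹ * ((g : G) * i * (g : G)⁻¹) = g * (i * i) * (g : G)⁻¹ := by group
        _ = 1 := by rw [hii]; group
    · exact fun e => hi1 (conj_eq_one_iff.1 e)
  haveI hnorm : (Cfsg.oddCore ↥C).Normal := ZStar.Main.oddCore_normal
  set O := (Cfsg.oddCore ↥C).map C.subtype with hOdef
  have hle : O ≤ C := map_subtype_le _
  have hnO : ∀ c ∈ C, ∀ o ∈ O, c * o * c⁻¹ ∈ O := by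
    rintro c hc _ ⟨o, ho, rfl⟩
    exact ⟨_, hnorm.conj_mem o ho ⟨c, hc⟩, rfl⟩
  have hOodd : Odd (Nat.card O) := by
    rw [hOdef, card_map_of_injective C.subtype_injective]
    exact InvChar.Core.odd_card_oddCore
  have hxC : x ∈ C := mem_centralizer_singleton_iff.2 rfl
  have hxO : x ∈ O := by
    haveI : ((zpowers x).subgroupOf C).Normal := ⟨fun a ha g => by
      rw [mem_subgroupOf] at ha ⊢
      obtain ⟨k, hk⟩ := mem_zpowers_iff.1 ha
      push_cast
      rw [← hk, ((show Commute (g : G) x from mem_centralizer_singleton_iff.1 g.2).zpow_right k).eq,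
        mul_inv_cancel_right]
      exact zpow_mem (mem_zpowers x) k⟩
    refine ⟨⟨x, hxC⟩, InvChar.Core.le_oddCore inferInstance ?_ (mem_subgroupOf.2 (mem_zpowers x)), rfl⟩
    rw [Nat.card_congr (subgroupOfEquivOfLe (Subgroup.zpowers_le.2 hxC)).toEquiv, Nat.card_zpowers]
    exact hodd
  have hinter : ∀ o ∈ O, o * i = i * o → o ∈ zpowers x := by
    intro o ho hoi
    refine hO (O ⊓ centralizer ({i} : Set G)) (inf_le_inf_right _ hle)
      (hOodd.of_dvd_nat (card_dvd_of_le inf_le_left)) (fun c hc k hk => ⟨hnO c hc.1 k hk.1, ?_⟩)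
      ⟨ho, mem_centralizer_singleton_iff.2 hoi⟩
    have h1 : c ∈ centralizer ({i} : Set G) := hc.2
    have h2 : k ∈ centralizer ({i} : Set G) := hk.2
    exact (centralizer ({i} : Set G)).mul_mem ((centralizer ({i} : Set G)).mul_mem h1 h2)
      ((centralizer ({i} : Set G)).inv_mem h1)
  refine ⟨O, hle, hOodd, hnO, hxO, hiC, hinter, ?_, ?_⟩
  · intro c hc
    have htop := ZStar.InvariantSylow.oddCore_sup_centralizer hiso
    have hmem : (⟨c, hc⟩ : ↥C) ∈ Cfsg.oddCore ↥C ⊔ centralizer ({i'} : Set ↥C) := htop ▸ mem_top _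
    obtain ⟨o, ho, k, hk, e⟩ := mem_sup_of_normal_left.1 hmem
    exact ⟨o, ⟨o, ho, rfl⟩, k, ⟨k.2, mem_centralizer_singleton_iff.2
      (congrArg Subtype.val (mem_centralizer_singleton_iff.1 hk))⟩, (congrArg Subtype.val e).symm⟩
  -- the involution inverts the core modulo `⟨x⟩`
  set N := zpowers x with hN
  have hOx : ∀ o ∈ O, ∀ w ∈ N, o * w = w * o := fun o ho w hw => by
    obtain ⟨k, rfl⟩ := mem_zpowers_iff.1 hw
    exact ((show Commute o x from mem_centralizer_singleton_iff.1 (hle ho)).zpow_right k).eq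
  have hfix : ∀ a ∈ O, i * a * i⁻¹ * a⁻¹ ∈ N → a ∈ N := by
    intro a ha e
    obtain ⟨c, hc, e'⟩ := Coprime.exists_fixed_mod (A := zpowers i) (K := O) (N := N)
      (by rw [Nat.card_zpowers, hi]; exact Nat.coprime_two_left.2 hOodd)
      (Or.inl (Coprime.isSolvable_of_isMulCommutative _)) (Subgroup.zpowers_le.2 hxO)
      (fun o ho => M22Order.mem_normalizer_of_conj fun w hw => by
        rw [hOx o ho w hw, mul_inv_cancel_right]; exact hw)
      (Subgroup.zpowers_le.2 (M22Order.mem_normalizer_of_conj fun w hw => by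
        obtain ⟨k, rfl⟩ := mem_zpowers_iff.1 hw
        rw [((show Commute i x from hxi).zpow_right k).eq, mul_inv_cancel_right]; exact hw))
      ha (fun b hb => by
        obtain ⟨k, rfl⟩ := mem_zpowers_iff.1 hb
        rw [← zpow_mod_orderOf, hi]
        rcases Int.emod_two_eq_zero_or_one k with r | r
        · rw [show k % ((2 : ℕ) : ℤ) = 0 from r, zpow_zero]; simp
        · rw [show k % ((2 : ℕ) : ℤ) = 1 from r, zpow_one]; exact e)
    have hcN := hinter c hc.1 (mem_centralizer_iff.1 hc.2 i (mem_zpowers i)).symm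
    simpa using mul_mem hcN (inv_mem e')
  haveI hn : (N.subgroupOf O).Normal := ⟨fun a ha y => by
    rw [mem_subgroupOf] at ha ⊢
    push_cast
    rw [hOx _ y.2 _ ha, mul_inv_cancel_right]
    exact ha⟩
  let W := ↥O ⧸ N.subgroupOf O
  let φ : W →* W := QuotientGroup.map _ _
    ({ toFun := fun a => ⟨i * a * i⁻¹, hnO i hiC a a.2⟩
       map_one' := Subtype.ext (by simp)
       map_mul' := fun a b => Subtype.ext (by push_cast; group) } : ↥O →* ↥O)
    (fun a ha => by
      rw [mem_comap, mem_subgroupOf] at *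
      show i * (a : G) * i⁻¹ ∈ N
      obtain ⟨k, hk⟩ := mem_zpowers_iff.1 ha
      rw [← hk, ((show Commute i x from hxi).zpow_right k).eq, mul_inv_cancel_right]
      exact zpow_mem (mem_zpowers x) k)
  have hφ : ∀ a : ↥O, φ (QuotientGroup.mk a) = QuotientGroup.mk ⟨i * a * i⁻¹, hnO i hiC a a.2⟩ := fun a => rfl
  have hFPF : MonoidHom.FixedPointFree φ := by
    intro w hw
    obtain ⟨a, rfl⟩ := QuotientGroup.mk_surjective w
    rw [hφ, QuotientGroup.eq, mem_subgroupOf] at hw
    refine (QuotientGroup.eq_one_iff a).2 (mem_subgroupOf.2 ?_)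
    refine hfix _ a.2 ?_
    push_cast at hw
    have e : i * (a : G) * i⁻¹ * (a : G)⁻¹ = ((i * (a : G) * i⁻¹)⁻¹ * (a : G))⁻¹ := by
      calc i * (a : G) * i⁻¹ * (a : G)⁻¹
          = (a : G) * ((i * (a : G) * i⁻¹)⁻¹ * (a : G))⁻¹ * (a : G)⁻¹ := by group
        _ = _ := by rw [hOx _ a.2 _ (inv_mem hw), mul_inv_cancel_right]
    rw [e]; exact inv_mem hw
  have hinv : Function.Involutive φ := fun w => by
    obtain ⟨a, rfl⟩ := QuotientGroup.mk_surjective w
    rw [hφ, hφ]
    refine congrArg _ (Subtype.ext ?_)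
    show i * (i * (a : G) * i⁻¹) * i⁻¹ = a
    calc i * (i * (a : G) * i⁻¹) * i⁻¹ = (i * i) * a * (i * i)⁻¹ := by group
      _ = a := by rw [hii]; group
  intro o ho
  have e := congrFun (hFPF.coe_eq_inv_of_involutive hinv) (QuotientGroup.mk ⟨o, ho⟩)
  rw [hφ, ← QuotientGroup.mk_inv, QuotientGroup.eq, mem_subgroupOf] at e
  push_cast at e
  have e2 : i * o * i⁻¹ * o = o⁻¹ * ((i * o * i⁻¹)⁻¹ * o⁻¹)⁻¹ * o := by group
  rw [e2, hOx _ (inv_mem ho) _ (inv_mem e), inv_mul_cancel_right]
  exact inv_mem e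

end Cfsg.Agent.J4Sylow
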