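import Cfsg.Agent.Lib.J4Sylow.GL

/-!
# Janko four type: the Sylow 11-subgroups and the two classes of elements of order eleven
-/

set_option autoImplicit false
set_option linter.style.haveILetI false
set_option linter.unusedSectionVars false

namespace Cfsg.Agent.J4Sylow

open Subgroup Cfsg.Agent.J4Local
open scoped Pointwise

variable {G : Type*} [Group G] [Finite G] [IsSimpleGroup G] (hG : ¬ IsMulCommutative G) (hord : Nat.card G = order)
  {z : G} {P : Subgroup G} (X : J4Eleven.Chart z P)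

include hG hord X in
/-- The structure of every Sylow 11-subgroup. -/
theorem sylow_eleven (U : Sylow 11 G) :
    Cfsg.IsExtraspecial 11 ↥(U : Subgroup G) ∧ Nat.card ↥(U : Subgroup G) = 11 ^ 3 ∧
      Monoid.exponent ↥(U : Subgroup G) = 11 ∧
      Nat.card ↥(normalizer ((U : Subgroup G) : Set G)) = 2 ^ 4 * 3 * 5 * 11 ^ 3 ∧
      ∃ K : Subgroup G, K ≤ normalizer ((U : Subgroup G) : Set G) ∧ Nonempty (↥K ≃* GL (Fin 2) (ZMod 3)) := by
  haveI : Fact (Nat.Prime 11) := ⟨by norm_num⟩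
  obtain ⟨z', P', Y, u, O, v, t, hzz, hu, h11, D, V, hv⟩ := exists_setting hG hord X
  obtain ⟨r, hr, hr2, hinv⟩ := exists_inverter hG hord X Y hu h11 D hzz V hv
  obtain ⟨K, hK, ⟨e⟩⟩ := exists_GL Y hu h11 hr hr2 hinv
  obtain ⟨-, hexp⟩ := core_structure hG hord Y hu h11 D
  let S : Sylow 11 G := Sylow.ofCard O (core_card_sylow hG hord Y hu h11 D)
  have hS : ((S : Sylow 11 G) : Subgroup G) = O := Sylow.coe_ofCard ..
  obtain ⟨g, hg⟩ := MulAction.exists_smul_eq G S U
  have hU : ((U : Sylow 11 G) : Subgroup G) = O.map (MulAut.conj g).toMonoidHom := by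
    rw [← hS, ← hg]; rfl
  let φ : ↥O ≃* ↥(U : Subgroup G) := ((MulAut.conj g).subgroupMap O).trans (MulEquiv.subgroupCongr hU.symm)
  have hN : normalizer ((U : Subgroup G) : Set G) = (normalizer (O : Set G)).map (MulAut.conj g).toMonoidHom := by
    rw [hU]
    exact (map_equiv_normalizer_eq O (MulAut.conj g)).symm
  obtain ⟨a, ha, b, hb, hne⟩ := not_comm hG hord Y hu h11 D
  refine ⟨extraspecial_cube (by rw [← Nat.card_congr φ.toEquiv]; exact card_core hG hord Y hu h11 D) fun h =>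
    hne (congrArg Subtype.val (φ.injective (a₁ := ⟨a, ha⟩ * ⟨b, hb⟩) (a₂ := ⟨b, hb⟩ * ⟨a, ha⟩)
      (by rw [map_mul, map_mul]; exact h _ _))), ?_, ?_, ?_, ?_⟩
  · rw [← Nat.card_congr φ.toEquiv]; exact card_core hG hord Y hu h11 D
  · rw [← Monoid.exponent_eq_of_mulEquiv φ]; exact hexp
  · rw [hN, card_map_of_injective (MulAut.conj g).injective, card_normalizer_core hG hord Y hu h11 D]
    norm_num
  · refine ⟨K.map (MulAut.conj g).toMonoidHom, ?_, ⟨((MulAut.conj g).subgroupMap K).symm.trans e⟩⟩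
    rw [hN]
    exact Subgroup.map_mono fun k hk => norm_core hG hord Y hu h11 D (hK k hk)

include hG hord X in
/-- Every element of order eleven is conjugate to `u` or to `v`. -/
theorem class_eleven {z' : G} {P' : Subgroup G} (Y : J4Eleven.Chart z' P') {u : G} (hu : u ∈ CC z' P')
    (h11 : orderOf u = 11) {O : Subgroup G} (D : CoreData u z' O) (hzz : IsConj z z') {v t : G} (V : VData X v t)
    (hv : v ∈ O) {w : G} (hw : orderOf w = 11) : IsConj w u ∨ IsConj w v := by
  classical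
  obtain ⟨g, hg⟩ := exists_conj_core hG hord Y hu h11 D
    (show w ^ 11 = 1 from hw ▸ pow_orderOf_eq_one w)
  have hwg : IsConj w (g * w * g⁻¹) := isConj_iff.2 ⟨g, rfl⟩
  by_cases hwu : g * w * g⁻¹ ∈ zpowers u
  · left
    rw [mem_zpowers_iff_mem_range_orderOf, Finset.mem_image] at hwu
    obtain ⟨k, hk, e⟩ := hwu
    have hk0 : ¬ 11 ∣ k := fun hd => by
      obtain ⟨c, rfl⟩ := hd
      rw [pow_mul, pow_eleven h11, one_pow, eq_comm, conj_eq_one_iff] at e
      rw [e, orderOf_one] at hw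
      norm_num at hw
    obtain ⟨n, -, hn⟩ := exists_aut Y hu h11 hk0
    exact hwg.trans (isConj_iff.2 ⟨n, hn.trans e⟩).symm
  · right
    obtain ⟨a, ha⟩ := orbit_all hG hord X Y hu h11 D hzz V hv hg hwu
    exact hwg.trans (isConj_iff.2 ⟨a, ha⟩).symm

include hG hord X in
/-- Two classes of elements of order eleven. -/
theorem two_classes_eleven :
    ∃ x y : G, orderOf x = 11 ∧ orderOf y = 11 ∧ ¬ IsConj x y ∧
      ∀ w : G, orderOf w = 11 → IsConj w x ∨ IsConj w y := by
  classical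
  obtain ⟨z', P', Y, u, O, v, t, hzz, hu, h11, D, V, hv⟩ := exists_setting hG hord X
  refine ⟨u, v, h11, V.order_v, fun h => ?_, fun w hw => class_eleven hG hord X Y hu h11 D hzz V hv hw⟩
  obtain ⟨g, hg⟩ := isConj_iff.1 h
  refine V.no_z hG hord X (hzz.trans (isConj_iff.2 ⟨g, rfl⟩)) ?_
  rw [← hg]
  calc g * z' * g⁻¹ * (g * u * g⁻¹) = g * (z' * u) * g⁻¹ := by group
    _ = _ := by rw [(mem_HH.1 hu.1).symm]; group

end Cfsg.Agent.J4Sylow
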