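import Cfsg.Agent.Lib.J4Sylow.Structure
import Cfsg.Agent.InvChar.GL23

/-!
# Janko four type: `GL(2,3)` in the normaliser of a Sylow 11-subgroup
-/

set_option autoImplicit false
set_option linter.style.haveILetI false
set_option linter.unusedSectionVars false

namespace Cfsg.Agent.J4Sylow

open Subgroup Cfsg.Agent.J4Local

variable {G : Type*} [Group G] [Finite G] {z : G} {P : Subgroup G} (X : J4Eleven.Chart z P) {u : G}
  (hu : u ∈ CC z P) (h11 : orderOf u = 11)

include X hu h11 in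
theorem QF_sq {q : G} (hq : q ∈ QF z u) (hqz : q ∉ zpowers z) : q * q = z := by
  rcases X.L.J.ctr.sq_cases hq.1 with e | e
  · exact absurd (QF_invol X hu h11 hq e) hqz
  · exact e

include X hu h11 in
theorem QF_quat {a b : G} (ha : a ∈ QF z u) (hb : b ∈ QF z u) (haz : a ∉ zpowers z) (hbz : b ∉ zpowers z)
    (habz : a * b ∉ zpowers z) : b * a = a * b * z := by
  have hzc : ∀ {q : G}, q ∈ QF z u → z * q = q * z := fun hq => (mem_HH.1 (EE_le_HH z hq.1)).symm
  have h1 := QF_sq X hu h11 ha haz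
  have h2 := QF_sq X hu h11 hb hbz
  have h3 := QF_sq X hu h11 (mul_mem ha hb) habz
  have hzz : z * z = 1 := X.L.J.ctr.zz
  have e : a * a * (b * a) * (b * b) = a * (a * b * (a * b)) * b := by group
  rw [h1, h2, h3, hzc (mul_mem hb ha), mul_assoc (b * a) z z, hzz, mul_one] at e
  rw [e, mul_assoc a z b, hzc hb, ← mul_assoc]

include X hu h11 in
/-- An inverting involution gives a copy of `GL(2,3)`. -/
theorem exists_GL {r : G} (hr : r ∈ HH z) (hr2 : r * r = 1) (hinv : r * u * r⁻¹ = u⁻¹) :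
    ∃ K : Subgroup G, (∀ k ∈ K, k * u * k⁻¹ ∈ zpowers u) ∧ Nonempty (↥K ≃* GL (Fin 2) (ZMod 3)) := by
  classical
  have hJ := X.L.J
  have hr' : r⁻¹ = r := inv_eq_of_mul_eq_one_right hr2
  have hzz : z * z = 1 := hJ.ctr.zz
  have hzHc : ∀ {g : G}, g ∈ HH z → g * z = z * g := fun hg => mem_HH.1 hg
  obtain ⟨p, hp, hp1, -, -⟩ := hJ.exists_gen
  have hpH := hJ.P_le_HH hp
  have hp3 : p ^ 3 = 1 :=
    orderOf_dvd_iff_pow_eq_one.1 (hJ.cardP ▸ P.orderOf_dvd_natCard hp)
  have hpu : p * u = u * p := (commute_CC_P hu hp).symm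
  have hrC : ∀ {g : G}, g * u = u * g → r * g * r⁻¹ * u = u * (r * g * r⁻¹) := by
    intro g hg
    have h2 : r * g * r⁻¹ * u⁻¹ = u⁻¹ * (r * g * r⁻¹) := by
      rw [← hinv]
      calc r * g * r⁻¹ * (r * u * r⁻¹) = r * (g * u) * r⁻¹ := by group
        _ = _ := by rw [hg]; group
    simpa using (show Commute (r * g * r⁻¹) u⁻¹ from h2).inv_right.eq
  set e := r * p * r⁻¹ * p with he_def
  have heQ : e ∈ QF z u := by
    refine ⟨X.L.outer_inv r hr (outer_of_inverts X hu h11 hr hinv) p hp, mem_centralizer_singleton_iff.2 ?_⟩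
    exact ((show Commute (r * p * r⁻¹) u from hrC hpu).mul_left hpu).eq
  have hrQ : ∀ {q : G}, q ∈ QF z u → r * q * r⁻¹ ∈ QF z u := fun hq =>
    ⟨conj_mem_EE hr hq.1, mem_centralizer_singleton_iff.2 (hrC (mem_centralizer_singleton_iff.1 hq.2))⟩
  have hpQ : ∀ {q : G}, q ∈ QF z u → p * q * p⁻¹ ∈ QF z u := fun {q} hq =>
    ⟨conj_mem_EE hpH hq.1, mem_centralizer_singleton_iff.2
      (((show Commute p u from hpu).mul_left
        (show Commute q u from mem_centralizer_singleton_iff.1 hq.2)).mul_left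
        (show Commute p u from hpu).inv_left).eq⟩
  -- the vector action of `p`
  have hsum : ∀ v : VV z, act z p (act z p v) + act z p v + v = 0 := fun v => by
    refine act_fpf hJ hp hp1 ?_
    have h3 : act z p (act z p (act z p v)) = v := by
      rw [← act_mul hpH hpH, ← act_mul (mul_mem hpH hpH) hpH, show p * p * p = p ^ 3 from pow_three' p |>.symm,
        hp3, act_one]
    rw [map_add, map_add, h3]
    abel
  set x := e * p * e⁻¹ with hx_def
  have hxH : x ∈ HH z := mul_mem (mul_mem (EE_le_HH z heQ.1) hpH) (inv_mem (EE_le_HH z heQ.1))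
  have hxu : x * u = u * x :=
    (((show Commute e u from mem_centralizer_singleton_iff.1 heQ.2).mul_left hpu).mul_left
      (show Commute e u from mem_centralizer_singleton_iff.1 heQ.2).inv_left).eq
  have hx3 : x ^ 3 = 1 := by rw [hx_def, conj_pow, hp3, mul_one, mul_inv_cancel]
  have hxQ : ∀ {q : G}, q ∈ QF z u → x * q * x⁻¹ ∈ QF z u := fun {q} hq => by
    rw [show x * q * x⁻¹ = e * (p * (e⁻¹ * q * e) * p⁻¹) * e⁻¹ by rw [hx_def]; group]
    exact mul_mem (mul_mem heQ (hpQ (mul_mem (mul_mem (inv_mem heQ) hq) heQ))) (inv_mem heQ)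
  have hxact : ∀ {q : G}, q ∈ QF z u → vk z (x * q * x⁻¹) = act z p (vk z q) := fun {q} hq => by
    rw [← act_vk hxH hq.1, hx_def,
      act_mul (mul_mem (EE_le_HH z heQ.1) hpH) (inv_mem (EE_le_HH z heQ.1)),
      act_mul (EE_le_HH z heQ.1) hpH, act_EE hJ heQ.1, act_EE hJ (inv_mem heQ.1)]
  -- `r` inverts `x`
  have hrx : r * x * r⁻¹ = x⁻¹ := by
    have hrer : r * e * r⁻¹ = p * e * p⁻¹ := by
      calc r * e * r⁻¹ = r * r * p * (r * r)⁻¹ * (r * p * r⁻¹) := by rw [he_def]; group
        _ = p * (e * p⁻¹) := by rw [hr2, he_def]; group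
        _ = _ := by group
    have hrpr : r * p * r⁻¹ = e * p⁻¹ := by rw [he_def]; group
    have e1 : r * x * r⁻¹ = p * e * p := by
      calc r * x * r⁻¹ = (r * e * r⁻¹) * (r * p * r⁻¹) * (r * e * r⁻¹)⁻¹ := by rw [hx_def]; group
        _ = p * e * (p ^ 3)⁻¹ * p := by rw [hrer, hrpr]; group
        _ = _ := by rw [hp3]; group
    have e2 : r * x * r⁻¹ * x ∈ zpowers z := by
      have h1 : r * x * r⁻¹ * x = (p * e * p⁻¹) * (p * (p * e * p⁻¹) * p⁻¹) * e⁻¹ := by
        have hpi : p * p = p⁻¹ := eq_inv_of_mul_eq_one_left (by rw [← hp3, pow_three]; group)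
        rw [e1, hx_def]
        calc p * e * p * (e * p * e⁻¹) = p * e * p * e * p * e⁻¹ := by group
          _ = p * e * p⁻¹ * (p * p) * e * (p * p)⁻¹ * (p ^ 3) * e⁻¹ := by group
          _ = _ := by rw [hp3]; group
      rw [h1]
      have m1 := hpQ heQ
      have m2 := hpQ m1
      rw [← vk_eq_zero_iff hJ (mul_mem (mul_mem m1.1 m2.1) (inv_mem heQ.1)),
        vk_mul (mul_mem m1.1 m2.1) (inv_mem heQ.1), vk_mul m1.1 m2.1, vk_inv hJ heQ.1, ← act_vk hpH m1.1,
        ← act_vk hpH heQ.1, ← hsum (vk z e)]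
      abel
    rcases hJ.mem_zpowers e2 with h | h
    · exact eq_inv_of_mul_eq_one_left h
    · exfalso
      have h3 : (r * x * r⁻¹) ^ 3 = 1 := by rw [conj_pow, hx3, mul_one, mul_inv_cancel]
      have hzx : Commute z x⁻¹ := ((show Commute x z from hzHc hxH).inv_left).symm
      rw [eq_mul_inv_of_mul_eq h, hzx.mul_pow, inv_pow, hx3, inv_one, mul_one, pow_three, hzz, mul_one] at h3
      have h2 := hJ.two
      rw [h3, orderOf_one] at h2
      norm_num at h2
  -- a fixed axis
  obtain ⟨i₀, hi₀, hi₀z, hi₀f⟩ : ∃ i ∈ QF z u, i ∉ zpowers z ∧ vk z (r * i * r⁻¹) = vk z i := by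
    obtain ⟨a, ha, haz⟩ : ∃ a ∈ QF z u, a ∉ zpowers z := by
      by_contra hcon
      push Not at hcon
      have := Subgroup.card_le_of_le (hcon : QF z u ≤ zpowers z)
      rw [card_QF X hu h11, Nat.card_zpowers, hJ.two] at this
      omega
    by_cases h : vk z (r * a * r⁻¹) = vk z a
    · exact ⟨a, ha, haz, h⟩
    refine ⟨a * (r * a * r⁻¹), mul_mem ha (hrQ ha), fun hm => h ?_, ?_⟩
    · have h0 := (vk_eq_zero_iff hJ (mul_mem ha.1 (hrQ ha).1)).2 hm
      rw [vk_mul ha.1 (hrQ ha).1] at h0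
      rw [eq_neg_of_add_eq_zero_right h0, ← sub_eq_zero, sub_eq_add_neg, ← neg_add, VV.two hJ, neg_zero]
    · have e1 : r * (a * (r * a * r⁻¹)) * r⁻¹ = (r * a * r⁻¹) * a := by
        calc r * (a * (r * a * r⁻¹)) * r⁻¹ = (r * a * r⁻¹) * ((r * r) * a * (r * r)⁻¹) := by group
          _ = _ := by rw [hr2]; group
      rw [e1, vk_mul (hrQ ha).1 ha.1, vk_mul ha.1 (hrQ ha).1, add_comm]
  -- axes differ
  have hax : ∀ {q : G}, q ∈ QF z u → q ∉ zpowers z →
      x * q * x⁻¹ ∉ zpowers z ∧ q * (x * q * x⁻¹) ∉ zpowers z ∧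
      (q * (x * q * x⁻¹))⁻¹ * (x * (x * q * x⁻¹) * x⁻¹) ∈ zpowers z := by
    intro q hq hqz
    have hj := hxQ hq
    have hk := hxQ hj
    refine ⟨fun hm => hqz ?_, fun hm => hqz ?_, ?_⟩
    · refine (vk_eq_zero_iff hJ hq.1).1 ?_
      have h0 := (vk_eq_zero_iff hJ hj.1).2 hm
      rw [hxact hq] at h0
      have := hsum (vk z q)
      rwa [h0, map_zero, zero_add, zero_add] at this
    · refine (vk_eq_zero_iff hJ hq.1).1 (act_fpf hJ hp hp1 ?_)
      have h0 := (vk_eq_zero_iff hJ (mul_mem hq.1 hj.1)).2 hm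
      rw [vk_mul hq.1 hj.1, hxact hq] at h0
      rw [eq_neg_of_add_eq_zero_right h0, eq_comm, ← sub_eq_zero, sub_neg_eq_add, VV.two hJ]
    · rw [← vk_eq_zero_iff hJ (mul_mem (inv_mem (mul_mem hq.1 hj.1)) hk.1),
        vk_mul (inv_mem (mul_mem hq.1 hj.1)) hk.1, vk_inv hJ (mul_mem hq.1 hj.1), vk_mul hq.1 hj.1, hxact hj,
        hxact hq, ← hsum (vk z q)]
      abel
  obtain ⟨i, hi, hiz, hif, hij⟩ : ∃ i ∈ QF z u, i ∉ zpowers z ∧ vk z (r * i * r⁻¹) = vk z i ∧
      x * (x * i * x⁻¹) * x⁻¹ = i * (x * i * x⁻¹) := by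
    obtain ⟨-, -, h⟩ := hax hi₀ hi₀z
    rcases hJ.mem_zpowers h with e1 | e1
    · exact ⟨i₀, hi₀, hi₀z, hi₀f, (eq_of_inv_mul_eq_one e1).symm⟩
    · refine ⟨i₀ * z, mul_mem hi₀ (z_mem X hu h11), fun hm => hi₀z ?_, ?_, ?_⟩
      · simpa [mul_assoc, hzz] using mul_mem hm (mem_zpowers z)
      · have e2 : r * (i₀ * z) * r⁻¹ = (r * i₀ * r⁻¹) * z := by
          calc r * (i₀ * z) * r⁻¹ = r * i₀ * (z * r⁻¹) := by group
            _ = _ := by rw [← hzHc (inv_mem hr)]; group
        rw [e2, vk_mul (hrQ hi₀).1 hJ.ctr.z_mem, vk_mul hi₀.1 hJ.ctr.z_mem, hi₀f]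
      · have hxz : x * z * x⁻¹ = z := by rw [hzHc hxH, mul_inv_cancel_right]
        have hcj : z * (x * i₀ * x⁻¹) = (x * i₀ * x⁻¹) * z := (hzHc (EE_le_HH z (hxQ hi₀).1)).symm
        have e3 : x * (i₀ * z) * x⁻¹ = (x * i₀ * x⁻¹) * z := by
          rw [show x * (i₀ * z) * x⁻¹ = (x * i₀ * x⁻¹) * (x * z * x⁻¹) by group, hxz]
        rw [e3, show x * (x * i₀ * x⁻¹ * z) * x⁻¹ = x * (x * i₀ * x⁻¹) * x⁻¹ * (x * z * x⁻¹) by group, hxz,
          eq_mul_of_inv_mul_eq e1, mul_assoc i₀ z, ← mul_assoc z, hcj, mul_assoc (x * i₀ * x⁻¹) z z, hzz,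
          mul_one, mul_assoc, hzz, mul_one]
  obtain ⟨hjz, hijz, -⟩ := hax hi hiz
  set j := x * i * x⁻¹ with hj_def
  have hjQ : j ∈ QF z u := hxQ hi
  have hii := QF_sq X hu h11 hi hiz
  have hjj := QF_sq X hu h11 hjQ hjz
  have hji : j * i = i * j * z := QF_quat X hu h11 hi hjQ hiz hjz hijz
  -- `r` inverts `i`
  have hri : r * i * r⁻¹ = i⁻¹ := by
    rcases (vk_eq_vk_iff hJ (hrQ hi).1 hi.1).1 hif with h | h
    · exfalso
      have hrj : r * j * r⁻¹ = x⁻¹ * i * x := by
        calc r * j * r⁻¹ = (r * x * r⁻¹) * (r * i * r⁻¹) * (r * x * r⁻¹)⁻¹ := by rw [hj_def]; group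
          _ = _ := by rw [hrx, h, inv_inv]
      have hk2 : x⁻¹ * i * x = i * j := by
        rw [← hij, hj_def]
        calc x⁻¹ * i * x = x ^ 3 * (x⁻¹ * i * x) * (x ^ 3)⁻¹ := by rw [hx3]; group
          _ = _ := by rw [pow_three]; group
      have e4 : r * (i * j) * r⁻¹ = j := by
        rw [← hk2, ← hrj]
        calc r * (r * j * r⁻¹) * r⁻¹ = (r * r) * j * (r * r)⁻¹ := by group
          _ = _ := by rw [hr2]; group
      have e5 : r * (i * j) * r⁻¹ = i * (i * j) := by
        rw [show r * (i * j) * r⁻¹ = (r * i * r⁻¹) * (r * j * r⁻¹) by group, h, hrj, hk2]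
      rw [e4, ← mul_assoc, hii, eq_comm, mul_eq_right] at e5
      have h2 := hJ.two
      rw [e5, orderOf_one] at h2
      norm_num at h2
    · rw [h]
      exact eq_inv_of_mul_eq_one_left (by rw [mul_assoc, ← hzHc (EE_le_HH z hi.1), ← mul_assoc, hii, hzz])
  -- the subgroup
  set K := closure ({i, j, x, r} : Set G) with hK
  have hnK : ∀ k ∈ K, k * u * k⁻¹ ∈ zpowers u := by
    have hle : K ≤ normalizer (zpowers u : Set G) := by
      rw [hK, closure_le]
      have hc : ∀ {g : G}, g * u = u * g → g ∈ normalizer (zpowers u : Set G) := fun {g} hg =>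
        M22Order.mem_normalizer_of_conj fun a ha => by
          obtain ⟨l, rfl⟩ := mem_zpowers_iff.1 ha
          rw [((show Commute g u from hg).zpow_right l).eq, mul_inv_cancel_right]
          exact zpow_mem (mem_zpowers u) l
      rintro g (rfl | rfl | rfl | rfl)
      · exact hc (mem_centralizer_singleton_iff.1 hi.2)
      · exact hc (mem_centralizer_singleton_iff.1 hjQ.2)
      · exact hc hxu
      · refine M22Order.mem_normalizer_of_conj fun a ha => ?_
        obtain ⟨l, rfl⟩ := mem_zpowers_iff.1 ha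
        rw [← conj_zpow, hinv]
        exact zpow_mem (inv_mem (mem_zpowers u)) l
    exact fun k hk => M22Order.conj_mem_of_mem_normalizer (hle hk) (mem_zpowers u)
  refine ⟨K, hnK, ?_⟩
  let i' : ↥K := ⟨i, subset_closure (by simp)⟩
  let j' : ↥K := ⟨j, subset_closure (by simp)⟩
  let x' : ↥K := ⟨x, subset_closure (by simp)⟩
  let r' : ↥K := ⟨r, subset_closure (by simp)⟩
  have hrel : InvChar.GL23.Rel i' j' x' r' := by
    refine ⟨Subtype.ext ?_, Subtype.ext ?_, Subtype.ext ?_, Subtype.ext ?_, Subtype.ext ?_,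
      Subtype.ext ?_, Subtype.ext ?_, Subtype.ext ?_, Subtype.ext ?_⟩
    · show i ^ 4 = 1
      rw [show (4 : ℕ) = 2 * 2 from rfl, pow_mul, pow_two i, hii, pow_two, hzz]
    · show j * j = i * i
      rw [hjj, hii]
    · show j * i = i ^ 3 * j
      rw [hji, pow_three, hii, mul_assoc i z j, ← hzHc (EE_le_HH z hjQ.1), mul_assoc]
    · exact hx3
    · exact hj_def.symm
    · exact hij
    · exact hr2
    · exact hri
    · exact hrx
  have hgen : closure ({i', j', x', r'} : Set ↥K) = ⊤ := by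
    apply map_injective K.subtype_injective
    rw [MonoidHom.map_closure, ← MonoidHom.range_eq_map, K.range_subtype]
    simp only [Set.image_insert_eq, Set.image_singleton]
    rfl
  refine InvChar.GL23.nonempty_equiv (le_antisymm ?_ ?_) hrel hgen
  · have := InvChar.GL23.card_closure_le hrel
    rw [hgen] at this
    simpa using this
  · set C := K ⊓ centralizer ({u} : Set G)
    have hz : z ∈ C := by
      refine ⟨?_, mem_centralizer_singleton_iff.2 (hzHc hu.1).symm⟩
      rw [← hii]; exact mul_mem (subset_closure (by simp)) (subset_closure (by simp))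
    have hQC : QF z u ≤ C := by
      set S : Subgroup G := zpowers z ⊔ zpowers i ⊔ zpowers j
      have hiC : i ∈ C := ⟨subset_closure (by simp), hi.2⟩
      have hjC : j ∈ C := ⟨subset_closure (by simp), hjQ.2⟩
      have hSQ : S ≤ QF z u := sup_le (sup_le (Subgroup.zpowers_le.2 (z_mem X hu h11))
        (Subgroup.zpowers_le.2 hi)) (Subgroup.zpowers_le.2 hjQ)
      have hSC : S ≤ C := sup_le (sup_le (Subgroup.zpowers_le.2 hz)
        (Subgroup.zpowers_le.2 hiC)) (Subgroup.zpowers_le.2 hjC)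
      have hd := card_dvd_of_le hSQ
      rw [card_QF X hu h11] at hd
      have h4 : 4 < Nat.card ↥S := by
        let f : Fin 5 → ↥S := ![1, ⟨z, mem_sup_left (mem_sup_left (mem_zpowers z))⟩,
          ⟨i, mem_sup_left (mem_sup_right (mem_zpowers i))⟩,
          ⟨i * z, mul_mem (mem_sup_left (mem_sup_right (mem_zpowers i)))
            (mem_sup_left (mem_sup_left (mem_zpowers z)))⟩,
          ⟨j, mem_sup_right (mem_zpowers j)⟩]
        have hz1 : z ≠ 1 := fun e1 => by
          have := hJ.two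
          rw [e1, orderOf_one] at this
          norm_num at this
        have hi1 : i ≠ 1 := fun e1 => hiz (e1 ▸ one_mem _)
        have hj1 : j ≠ 1 := fun e1 => hjz (e1 ▸ one_mem _)
        have hi2 : i ≠ z := fun e1 => hiz (e1 ▸ mem_zpowers z)
        have hj2 : j ≠ z := fun e1 => hjz (e1 ▸ mem_zpowers z)
        have hi3 : i * z ≠ 1 := fun e1 => hiz (eq_inv_of_mul_eq_one_left e1 ▸ inv_mem (mem_zpowers z))
        have hi4 : i * z ≠ z := fun e1 => hi1 (mul_eq_right.1 e1)
        have hi5 : i * z ≠ i := fun e1 => hz1 (mul_eq_left.1 e1)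
        have hj3 : j ≠ i := fun e1 => hijz (by rw [e1, hii]; exact mem_zpowers z)
        have hj4 : j ≠ i * z := fun e1 => hijz (by
          rw [e1, ← mul_assoc, hii, hzz]; exact one_mem _)
        have hf : Function.Injective f := by
          intro a b hab
          have := congrArg Subtype.val hab
          fin_cases a <;> fin_cases b <;>
            first
              | rfl
              | (exfalso
                 simp [f, hz1, hz1.symm, hi1, hi1.symm, hj1, hj1.symm, hi2, hi2.symm, hj2, hj2.symm, hi3, hi3.symm,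
                   hi4, hi4.symm, hi5, hi5.symm, hj3, hj3.symm, hj4, hj4.symm] at this)
        have := Nat.card_le_card_of_injective f hf
        rw [Nat.card_eq_fintype_card, Fintype.card_fin] at this
        omega
      have : QF z u ≤ S := by
        rw [eq_of_le_of_card_ge hSQ]
        rw [card_QF X hu h11]
        have := Nat.le_of_dvd (by norm_num) hd
        interval_cases h : Nat.card ↥S <;> simp_all
      exact this.trans hSC
    have h8 : 8 ∣ Nat.card ↥C := card_QF X hu h11 ▸ card_dvd_of_le hQC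
    have h3 : 3 ∣ Nat.card ↥C := by
      have hxC : x ∈ C := ⟨subset_closure (by simp), mem_centralizer_singleton_iff.2 hxu⟩
      have h1 := C.orderOf_dvd_natCard hxC
      haveI : Fact (Nat.Prime 3) := ⟨Nat.prime_three⟩
      rwa [orderOf_eq_prime hx3 (fun e1 => hijz (by
        rw [hj_def, e1, one_mul, inv_one, mul_one, hii]; exact mem_zpowers z))] at h1
    have h24 : 24 ∣ Nat.card ↥C := Nat.Coprime.mul_dvd_of_dvd_of_dvd (m := 8) (n := 3) (by norm_num) h8 h3
    have hrC' : r ∉ C := fun hm => by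
      have h1 := mem_centralizer_singleton_iff.1 hm.2
      rw [h1, mul_inv_cancel_right] at hinv
      have h2 : u ^ 2 = 1 := by rw [pow_two]; nth_rewrite 2 [hinv]; exact mul_inv_cancel u
      have := orderOf_dvd_of_pow_eq_one h2
      rw [h11] at this
      norm_num at this
    have hlt : Nat.card ↥C < Nat.card ↥K := lt_of_le_of_ne (Subgroup.card_le_of_le inf_le_left) fun h =>
      hrC' (by
        have e : C = K := eq_of_le_of_card_ge inf_le_left h.ge
        rw [e]; exact subset_closure (by simp))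
    obtain ⟨a, ha⟩ := card_dvd_of_le (inf_le_left : C ≤ K)
    have hCpos := Nat.le_of_dvd Nat.card_pos h24
    rw [ha] at hlt
    have : 1 < a := by
      by_contra hcon
      interval_cases a
      · simp at hlt
      · rw [mul_one] at hlt; exact lt_irrefl _ hlt
    rw [ha]
    nlinarith

end Cfsg.Agent.J4Sylow
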