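import Cfsg.Agent.Lib.J4Sylow.BigFree

/-!
# Janko four type: the Sylow subgroups for the five large primes

The centraliser of an element of order `p` is abelian of order dividing the product of the five primes, so
the Sylow congruences leave only the true configuration and one other, which has too many pairs of
involutions.
-/

set_option autoImplicit false
set_option linter.style.haveILetI false
set_option linter.unusedSectionVars false

namespace Cfsg.Agent.J4Sylow

open Subgroup Cfsg.Agent.J4Local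

theorem sylow_arith {p : ℕ} (hp : p ∈ bigs) :
    p ∣ order ∧ ¬ p ^ 2 ∣ order ∧ order.factorization p = 1 := by
  have hpp := prime_of_bigs hp
  have h : p ∣ order ∧ ¬ p ^ 2 ∣ order := by
    simp only [bigs, List.mem_cons, List.not_mem_nil, or_false] at hp
    rcases hp with rfl | rfl | rfl | rfl | rfl <;> norm_num [order]
  refine ⟨h.1, h.2, ?_⟩
  have hne : order ≠ 0 := by norm_num [order]
  have h1 := (hpp.pow_dvd_iff_le_factorization hne).1 ((pow_one p).symm ▸ h.1)
  have h2 : ¬ 2 ≤ order.factorization p := fun h2 => h.2 ((hpp.pow_dvd_iff_le_factorization hne).2 h2)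
  omega

variable {G : Type*} [Group G] [Finite G]

/-- The subgroup generated by an element of order `p`, as a Sylow subgroup. -/
theorem exists_sylow_zpowers (hord : Nat.card G = order) {p : ℕ} (hp : p ∈ bigs) {x : G} (hx : orderOf x = p) :
    ∃ S : Sylow p G, (S : Subgroup G) = zpowers x := by
  haveI := Fact.mk (prime_of_bigs hp)
  exact ⟨Sylow.ofCard (zpowers x) (by rw [Nat.card_zpowers, hx, hord, (sylow_arith hp).2.2, pow_one]),
    Sylow.coe_ofCard ..⟩

/-- Commuting elements of the same large prime order generate the same subgroup. -/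
theorem mem_zpowers_of_comm (hord : Nat.card G = order) {p : ℕ} (hp : p ∈ bigs) {x y : G} (hx : orderOf x = p)
    (hy : orderOf y = p) (hxy : x * y = y * x) : y ∈ zpowers x := by
  haveI := Fact.mk (prime_of_bigs hp)
  obtain ⟨S, hS⟩ := exists_sylow_zpowers hord hp hx
  have hpy : IsPGroup p (zpowers y) := IsPGroup.of_card (n := 1) (by rw [Nat.card_zpowers, hy, pow_one])
  have hpx : IsPGroup p (zpowers x) := hS ▸ S.isPGroup'
  have hn : zpowers y ≤ normalizer ((zpowers x : Subgroup G) : Set G) :=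
    Subgroup.zpowers_le.2 (M22Order.mem_normalizer_of_conj fun a ha => by
      obtain ⟨i, rfl⟩ := mem_zpowers_iff.1 ha
      rw [((show Commute y x from hxy.symm).zpow_right i).eq, mul_inv_cancel_right]
      exact zpow_mem (mem_zpowers x) i)
  have e := S.is_maximal' (hpy.to_sup_of_normal_right' hpx hn) (hS ▸ le_sup_right)
  rw [hS] at e
  rw [← e]
  exact mem_sup_left (mem_zpowers y)

variable [IsSimpleGroup G] (hG : ¬ IsMulCommutative G) (hord : Nat.card G = order) {z : G} {P : Subgroup G}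
  (X : J4Eleven.Chart z P)
  (h5 : ∀ f : G, orderOf f = 5 → ∀ q ∈ bigs, ¬ q ∣ Nat.card ↥(centralizer ({f} : Set G)))

include hG hord X h5 in
theorem card_cent_big {p : ℕ} (hp : p ∈ bigs) {x : G} (hx : orderOf x = p) :
    Nat.card ↥(centralizer ({x} : Set G)) ∣ bigN := by
  set C := centralizer ({x} : Set G)
  have hco : Nat.Coprime (Nat.card C) 2637787299840 := by
    refine Nat.coprime_of_dvd fun q hq hqC hqR => ?_
    haveI := Fact.mk hq
    obtain ⟨⟨f, hf⟩, hfq⟩ := exists_prime_orderOf_dvd_card' (G := ↥C) q hqC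
    rw [Subgroup.orderOf_mk] at hfq
    have hxf : x ∈ centralizer ({f} : Set G) :=
      mem_centralizer_singleton_iff.2 (mem_centralizer_singleton_iff.1 hf).symm
    have hd : p ∣ Nat.card ↥(centralizer ({f} : Set G)) := hx ▸ Subgroup.orderOf_dvd_natCard _ hxf
    have hq' : q ∈ [2, 3, 7, 11] ∨ q = 5 := by
      rw [show (2637787299840 : ℕ) = 2 ^ 21 * 3 ^ 3 * 5 * 7 * 11 ^ 3 by norm_num] at hqR
      simp only [List.mem_cons, List.not_mem_nil, or_false]
      rcases hq.dvd_mul.1 hqR with h | h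
      · rcases hq.dvd_mul.1 h with h | h
        · rcases hq.dvd_mul.1 h with h | h
          · rcases hq.dvd_mul.1 h with h | h
            · have := (Nat.prime_dvd_prime_iff_eq hq Nat.prime_two).1 (hq.dvd_of_dvd_pow h); omega
            · have := (Nat.prime_dvd_prime_iff_eq hq Nat.prime_three).1 (hq.dvd_of_dvd_pow h); omega
          · have := (Nat.prime_dvd_prime_iff_eq hq (by norm_num)).1 h; omega
        · have := (Nat.prime_dvd_prime_iff_eq hq (by norm_num)).1 h; omega
      · have := (Nat.prime_dvd_prime_iff_eq hq (by norm_num)).1 (hq.dvd_of_dvd_pow h); omega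
    rcases hq' with hq' | rfl
    · exact big_free hG hord X hfq hq' hp hd
    · exact h5 f hfq p hp hd
  refine hco.dvd_of_dvd_mul_left ?_
  rw [← order_eq_big, ← hord]
  exact card_subgroup_dvd_card _

include hG hord X h5 in
theorem cent_comm {p : ℕ} (hp : p ∈ bigs) {x : G} (hx : orderOf x = p) {a b : G}
    (ha : a ∈ centralizer ({x} : Set G)) (hb : b ∈ centralizer ({x} : Set G)) : a * b = b * a :=
  congrArg Subtype.val (comm_of_card_dvd (card_cent_big hG hord X h5 hp hx) (⟨a, ha⟩ : ↥(centralizer ({x} : Set G)))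
    ⟨b, hb⟩)

include hG hord X h5 in
/-- Commuting elements of large prime order have the same centraliser. -/
theorem cent_eq {p q : ℕ} (hp : p ∈ bigs) (hq : q ∈ bigs) {x y : G} (hx : orderOf x = p) (hy : orderOf y = q)
    (hxy : x * y = y * x) : centralizer ({y} : Set G) = centralizer ({x} : Set G) := by
  have hyC : y ∈ centralizer ({x} : Set G) := mem_centralizer_singleton_iff.2 hxy.symm
  have hxC : x ∈ centralizer ({y} : Set G) := mem_centralizer_singleton_iff.2 hxy
  exact le_antisymm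
    (fun a ha => mem_centralizer_singleton_iff.2 (cent_comm hG hord X h5 hq hy ha hxC))
    (fun a ha => mem_centralizer_singleton_iff.2 (cent_comm hG hord X h5 hp hx ha hyC))

include hG hord X h5 in
theorem norm_le {p q : ℕ} (hp : p ∈ bigs) (hq : q ∈ bigs) {x y : G} (hx : orderOf x = p) (hy : orderOf y = q)
    (hxy : x * y = y * x) : normalizer (zpowers x : Set G) ≤ normalizer (zpowers y : Set G) := by
  intro n hn
  obtain ⟨i, hi⟩ := mem_zpowers_iff.1 (M22Order.conj_mem_of_mem_normalizer (inv_mem hn) (mem_zpowers x))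
  rw [inv_inv] at hi
  have hc : n * y * n⁻¹ ∈ centralizer ({x} : Set G) := by
    refine mem_centralizer_singleton_iff.2 ?_
    have h1 : Commute y (n⁻¹ * x * n) := hi ▸ (show Commute y x from hxy.symm).zpow_right i
    calc n * y * n⁻¹ * x = n * (y * (n⁻¹ * x * n)) * n⁻¹ := by group
      _ = _ := by rw [h1.eq]; group
  rw [← cent_eq hG hord X h5 hp hq hx hy hxy] at hc
  have hm := mem_zpowers_of_comm hord hq hy
    ((MulEquiv.orderOf_eq (MulAut.conj n) y).trans hy) (mem_centralizer_singleton_iff.1 hc).symm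
  refine M22Order.mem_normalizer_of_conj fun a ha => ?_
  obtain ⟨j, rfl⟩ := mem_zpowers_iff.1 ha
  rw [← conj_zpow]
  exact zpow_mem hm j

include hG hord X h5 in
/-- The conditions on `|C(x)|` and `|N(x) : C(x)|`. -/
theorem big_cond {p : ℕ} (hp : p ∈ bigs) {x : G} (hx : orderOf x = p) {m e : ℕ}
    (hm : Nat.card ↥(centralizer ({x} : Set G)) = m)
    (he : Nat.card ↥(normalizer (zpowers x : Set G)) = m * e) : BigCond p m e := by
  haveI := Fact.mk (prime_of_bigs hp)
  set N := normalizer (zpowers x : Set G)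
  obtain ⟨S, hS⟩ := exists_sylow_zpowers hord hp hx
  have hcong : N.index % p = 1 := by
    have h1 := card_sylow_modEq_one p G
    rw [Sylow.card_eq_index_normalizer S, Nat.ModEq, Nat.mod_eq_of_lt (prime_of_bigs hp).one_lt] at h1
    have e2 : normalizer ((S : Subgroup G) : Set G) = N := by rw [hS]
    rw [← e2]; exact h1
  have hN : m * e * N.index = order := by rw [← he, ← hord]; exact N.card_mul_index
  refine ⟨?_, ⟨N.index, hN.symm⟩, ?_⟩
  · let f : ↥N →* MulAut ↥(zpowers x) := (zpowers x).normalizerMonoidHom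
    have hk : Nat.card f.ker = m := by
      rw [show f.ker = (centralizer (zpowers x : Set G)).subgroupOf N from normalizerMonoidHom_ker _,
        Nat.card_congr (subgroupOfEquivOfLe (centralizer_le_normalizer _)).toEquiv, zpowers_eq_closure,
        centralizer_closure, hm]
    have h1 := f.ker.card_mul_index
    rw [hk, he, index_ker] at h1
    have hm0 : 0 < m := hm ▸ Nat.card_pos
    rw [← Nat.eq_of_mul_eq_mul_left hm0 h1]
    refine (card_subgroup_dvd_card f.range).trans ?_
    rw [IsCyclic.card_mulAut, Nat.card_zpowers, hx, Nat.totient_prime (prime_of_bigs hp)]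
  · have h0 : 0 < m * e := by rw [← he]; exact Nat.card_pos
    rw [← hN, Nat.mul_div_cancel_left _ h0]
    exact hcong

include hG hord X h5 in
/-- The exceptional configuration is impossible. -/
theorem no_pair {x : G} (hx : orderOf x = 31) (hm : Nat.card ↥(centralizer ({x} : Set G)) = 1333)
    (he : Nat.card ↥(normalizer (zpowers x : Set G)) = 7998) : False := by
  classical
  haveI : Fact (Nat.Prime 2) := ⟨Nat.prime_two⟩
  have hp : (31 : ℕ) ∈ bigs := by simp [bigs]
  set C := centralizer ({x} : Set G) with hC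
  set N := normalizer (zpowers x : Set G) with hN
  have hodd : ¬ 2 ∣ Nat.card C := by rw [hm]; norm_num
  obtain ⟨⟨j, hjN⟩, hj⟩ := exists_prime_orderOf_dvd_card' (G := ↥N) 2 (by rw [he]; norm_num)
  rw [Subgroup.orderOf_mk] at hj
  have hjj : j * j = 1 := by rw [← pow_two, ← hj, pow_orderOf_eq_one]
  have hjC : j ∉ C := fun h => hodd (hj ▸ C.orderOf_dvd_natCard h)
  -- an element of prime order in `C` generating the same centraliser
  have hgen : ∀ w ∈ C, w ≠ 1 → ∃ q ∈ bigs, ∃ k : ℕ, orderOf (w ^ k) = q ∧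
      centralizer ({w ^ k} : Set G) = C := by
    intro w hw hw1
    obtain ⟨q, hq, hqd⟩ := Nat.exists_prime_and_dvd (n := orderOf w) (fun r => hw1 (orderOf_eq_one_iff.1 r))
    have hqb : q ∈ bigs := by
      have h1 : q ∣ 31 * 43 := (hqd.trans (C.orderOf_dvd_natCard hw)).trans (by rw [hm])
      rcases hq.dvd_mul.1 h1 with h | h <;>
      · rw [(Nat.prime_dvd_prime_iff_eq hq (by norm_num)).1 h]
        simp [bigs]
    refine ⟨q, hqb, orderOf w / q, orderOf_pow_orderOf_div (orderOf_pos w).ne' hqd, ?_⟩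
    exact cent_eq hG hord X h5 hp hqb hx (orderOf_pow_orderOf_div (orderOf_pos w).ne' hqd)
      (mem_centralizer_singleton_iff.1 (pow_mem hw _)).symm
  have hjconj : ∀ c ∈ C, j * c * j⁻¹ ∈ C := fun c hc => by
    obtain ⟨i, hi⟩ := mem_zpowers_iff.1 (M22Order.conj_mem_of_mem_normalizer (inv_mem hjN) (mem_zpowers x))
    rw [inv_inv] at hi
    refine mem_centralizer_singleton_iff.2 ?_
    have h2 : Commute c (j⁻¹ * x * j) :=
      hi ▸ (show Commute c x from mem_centralizer_singleton_iff.1 hc).zpow_right i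
    calc j * c * j⁻¹ * x = j * (c * (j⁻¹ * x * j)) * j⁻¹ := by group
      _ = _ := by rw [h2.eq]; group
  have hinv : ∀ c ∈ C, j * c * j⁻¹ = c⁻¹ := by
    intro c hc
    have hd : c * (j * c * j⁻¹) ∈ C := mul_mem hc (hjconj c hc)
    by_contra hne
    obtain ⟨q, hq, k, -, hk⟩ := hgen _ hd fun h => hne (eq_inv_of_mul_eq_one_right h)
    refine hjC (hk ▸ mem_centralizer_singleton_iff.2 (Commute.eq (Commute.pow_right ?_ k)))
    refine mul_inv_eq_iff_eq_mul.1 ?_
    calc j * (c * (j * c * j⁻¹)) * j⁻¹ = (j * c * j⁻¹) * ((j * j) * c * (j * j)⁻¹) := by group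
      _ = c * (j * c * j⁻¹) := by
        rw [hjj, one_mul, inv_one, mul_one, cent_comm hG hord X h5 hp hx (hjconj c hc) hc]
  have hinvol : ∀ c ∈ C, orderOf (j * c) = 2 := by
    intro c hc
    refine orderOf_eq_prime ?_ fun h => hjC (eq_inv_of_mul_eq_one_left h ▸ inv_mem hc)
    have h1 : c⁻¹ * j = j * c := by rw [← hinv c hc, inv_mul_cancel_right]
    calc (j * c) ^ 2 = j * c * (j * c) := pow_two _
      _ = c⁻¹ * j * (j * c) := by rw [h1]
      _ = c⁻¹ * (j * j) * c := by group
      _ = 1 := by rw [hjj]; group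
  have hCN : ∀ {w h : G}, w ∈ C → w ≠ 1 → h * w * h⁻¹ ∈ C → h ∈ N := by
    intro w h hw hw1 hhw
    obtain ⟨q, hq, k, hqk, hk⟩ := hgen w hw hw1
    have hmem : h * (w ^ k) * h⁻¹ ∈ C := by rw [← conj_pow]; exact pow_mem hhw k
    have hC2 : centralizer ({h * (w ^ k) * h⁻¹} : Set G) = C :=
      cent_eq hG hord X h5 hp hq hx ((MulEquiv.orderOf_eq (MulAut.conj h) (w ^ k)).trans hqk)
        (mem_centralizer_singleton_iff.1 hmem).symm
    have hxm : x ∈ C := mem_centralizer_singleton_iff.2 rfl
    have hhx : h * x * h⁻¹ ∈ C := by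
      rw [← hC2]
      show h * x * h⁻¹ ∈ HH (h * w ^ k * h⁻¹)
      rw [← cjS_HH, mem_cjS, show h⁻¹ * (h * x * h⁻¹) * h = x by group]
      show x ∈ centralizer ({w ^ k} : Set G)
      rw [hk]
      exact hxm
    have hm' := mem_zpowers_of_comm hord hp hx ((MulEquiv.orderOf_eq (MulAut.conj h) x).trans hx)
      (mem_centralizer_singleton_iff.1 hhx).symm
    refine M22Order.mem_normalizer_of_conj fun a ha => ?_
    obtain ⟨i, rfl⟩ := mem_zpowers_iff.1 ha
    rw [← conj_zpow]
    exact zpow_mem hm' i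
  -- counting
  set I := {y : G | orderOf y = 2}
  let f : (G ⧸ N) × ({w : ↥C // w ≠ 1} × ↥C) → ↥I × ↥I := fun a =>
    (⟨a.1.out * (j * a.2.2) * a.1.out⁻¹, by
      show orderOf (MulAut.conj a.1.out (j * (a.2.2 : G))) = 2
      rw [MulEquiv.orderOf_eq]; exact hinvol _ a.2.2.2⟩,
     ⟨a.1.out * (j * (a.2.2 * (a.2.1.1 : G))) * a.1.out⁻¹, by
      show orderOf (MulAut.conj a.1.out (j * ((a.2.2 : G) * (a.2.1.1 : G)))) = 2
      rw [MulEquiv.orderOf_eq]; exact hinvol _ (mul_mem a.2.2.2 a.2.1.1.2)⟩)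
  have hf : Function.Injective f := by
    rintro ⟨g, ⟨⟨w, hw⟩, hw1⟩, ⟨c, hc⟩⟩ ⟨g', ⟨⟨w', hw'⟩, hw1'⟩, ⟨c', hc'⟩⟩ h
    have ha : g.out * (j * c) * g.out⁻¹ = g'.out * (j * c') * g'.out⁻¹ :=
      congrArg (fun r : ↥I × ↥I => (r.1 : G)) h
    have hb : g.out * (j * (c * w)) * g.out⁻¹ = g'.out * (j * (c' * w')) * g'.out⁻¹ :=
      congrArg (fun r : ↥I × ↥I => (r.2 : G)) h
    have hw0 : w ≠ 1 := fun e => hw1 (Subtype.ext e)
    have hprod : g.out * w * g.out⁻¹ = g'.out * w' * g'.out⁻¹ := by
      calc g.out * w * g.out⁻¹ = (g.out * (j * c) * g.out⁻¹)⁻¹ * (g.out * (j * (c * w)) * g.out⁻¹) := by group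
        _ = _ := by rw [ha, hb]; group
    have hmem : g'.out⁻¹ * g.out ∈ N := hCN hw hw0 (by
      rw [show g'.out⁻¹ * g.out * w * (g'.out⁻¹ * g.out)⁻¹ = g'.out⁻¹ * (g.out * w * g.out⁻¹) * g'.out by group,
        hprod, show g'.out⁻¹ * (g'.out * w' * g'.out⁻¹) * g'.out = w' by group]
      exact hw')
    have hg : g' = g := by
      rw [← QuotientGroup.out_eq' g, ← QuotientGroup.out_eq' g', QuotientGroup.eq]
      exact hmem
    subst hg
    have e1 : w = w' := by simpa using hprod
    have e2 : c = c' := by simpa using ha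
    subst e1 e2
    rfl
  have hle := Nat.card_le_card_of_injective f hf
  rw [Nat.card_prod, Nat.card_prod, Nat.card_prod] at hle
  have hcq : Nat.card (G ⧸ N) * 7998 = order := by
    rw [← he, ← hord, ← N.card_mul_index, mul_comm]; rfl
  have hcw : Nat.card {w : ↥C // w ≠ 1} = 1332 := by
    haveI := Fintype.ofFinite ↥C
    rw [Nat.card_eq_fintype_card, Fintype.card_subtype_compl, Fintype.card_subtype_eq, ← Nat.card_eq_fintype_card,
      hm]
  rw [hcw, hm] at hle
  obtain ⟨t, ht, hall⟩ := exists_two_invol hG X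
  have hclass : ∀ a : G, {y : G | ∃ k ∈ (⊤ : Subgroup G), k * a * k⁻¹ = y}.ncard *
      Nat.card ↥(centralizer ({a} : Set G)) = order := fun a => by
    have := M22Order.ncard_conj_orbit (⊤ : Subgroup G) (mem_top a)
    rwa [inf_top_eq, Nat.card_congr topEquiv.toEquiv, hord] at this
  have hz' := hclass z
  rw [X.L.cardH] at hz'
  have ht' := hclass t
  rw [ht] at ht'
  have hI : Nat.card ↥I ≤ {y : G | ∃ k ∈ (⊤ : Subgroup G), k * z * k⁻¹ = y}.ncard +
      {y : G | ∃ k ∈ (⊤ : Subgroup G), k * t * k⁻¹ = y}.ncard := by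
    rw [Nat.card_coe_set_eq]
    refine (Set.ncard_le_ncard (fun y hy => ?_) (Set.toFinite _)).trans (Set.ncard_union_le _ _)
    rcases hall y hy with h | h
    · obtain ⟨k, hk⟩ := isConj_iff.1 h.symm
      exact Or.inl ⟨k, mem_top k, hk⟩
    · obtain ⟨k, hk⟩ := isConj_iff.1 h.symm
      exact Or.inr ⟨k, mem_top k, hk⟩
  generalize Nat.card ↥I = i at hle hI
  generalize {y : G | ∃ k ∈ (⊤ : Subgroup G), k * z * k⁻¹ = y}.ncard = a at hI hz'
  generalize {y : G | ∃ k ∈ (⊤ : Subgroup G), k * t * k⁻¹ = y}.ncard = b at hI ht'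
  generalize Nat.card (G ⧸ N) = c at hle hcq
  simp only [order] at hz' ht' hcq
  obtain rfl : a = 86775571046077562880 / (2 ^ 13 * 2661120) := by omega
  obtain rfl : b = 86775571046077562880 / (2 ^ 11 * 887040) := by omega
  obtain rfl : c = 86775571046077562880 / 7998 := by omega
  have := hle.trans (Nat.mul_le_mul hI hI)
  norm_num at this

include hG hord X h5 in
/-- The centraliser and normaliser orders for an element of large prime order. -/
theorem big_cards {p : ℕ} (hp : p ∈ bigs) {x : G} (hx : orderOf x = p) :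
    centralizer ({x} : Set G) = zpowers x ∧
      Nat.card ↥(normalizer (zpowers x : Set G)) = p * autOrd p := by
  set C := centralizer ({x} : Set G) with hC
  have hxC : x ∈ C := mem_centralizer_singleton_iff.2 rfl
  have hCN : C ≤ normalizer (zpowers x : Set G) := fun c hc => M22Order.mem_normalizer_of_conj fun a ha => by
    obtain ⟨i, rfl⟩ := mem_zpowers_iff.1 ha
    rw [((show Commute c x from mem_centralizer_singleton_iff.1 hc).zpow_right i).eq, mul_inv_cancel_right]
    exact zpow_mem (mem_zpowers x) i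
  obtain ⟨e, he⟩ := card_dvd_of_le hCN
  have hconds : ∀ q ∈ bigs, q ∣ Nat.card C → BigCond q (Nat.card C) e := by
    intro q hq hqd
    haveI := Fact.mk (prime_of_bigs hq)
    obtain ⟨⟨y, hy⟩, hyq⟩ := exists_prime_orderOf_dvd_card' (G := ↥C) q hqd
    rw [Subgroup.orderOf_mk] at hyq
    have hxy : x * y = y * x := (mem_centralizer_singleton_iff.1 hy).symm
    refine big_cond hG hord X h5 hq hyq (by rw [cent_eq hG hord X h5 hp hq hx hyq hxy]) ?_
    rw [le_antisymm (norm_le hG hord X h5 hq hp hyq hx hxy.symm) (norm_le hG hord X h5 hp hq hx hyq hxy)]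
    exact he
  rcases enum_big hp (hx ▸ C.orderOf_dvd_natCard hxC) (card_cent_big hG hord X h5 hp hx) hconds with
    ⟨h1, h2⟩ | ⟨h1, h2⟩
  · refine ⟨(eq_of_le_of_card_ge (Subgroup.zpowers_le.2 hxC) (by rw [Nat.card_zpowers, hx, h1])).symm, ?_⟩
    rw [he, h1, h2]
  · exfalso
    haveI : Fact (Nat.Prime 31) := ⟨by norm_num⟩
    obtain ⟨⟨y, hy⟩, hyq⟩ := exists_prime_orderOf_dvd_card' (G := ↥C) 31 (by rw [h1]; norm_num)
    rw [Subgroup.orderOf_mk] at hyq
    have h31 : (31 : ℕ) ∈ bigs := by simp [bigs]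
    have hxy : x * y = y * x := (mem_centralizer_singleton_iff.1 hy).symm
    refine no_pair hG hord X h5 hyq (by rw [cent_eq hG hord X h5 hp h31 hx hyq hxy]; exact h1) ?_
    rw [le_antisymm (norm_le hG hord X h5 h31 hp hyq hx hxy.symm) (norm_le hG hord X h5 hp h31 hx hyq hxy),
      he, h1, h2]

include hG hord X h5 in
/-- The Sylow subgroups for a large prime. -/
theorem sylow_big {p : ℕ} (hp : p ∈ bigs) (U : Sylow p G) :
    centralizer ((U : Subgroup G) : Set G) = (U : Subgroup G) ∧
      Nat.card ↥(normalizer ((U : Subgroup G) : Set G)) = p * autOrd p := by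
  haveI := Fact.mk (prime_of_bigs hp)
  have hcard : Nat.card ↥(U : Subgroup G) = p := by
    rw [U.card_eq_multiplicity, hord, (sylow_arith hp).2.2, pow_one]
  obtain ⟨⟨x, hx⟩, hxp⟩ := exists_prime_orderOf_dvd_card' (G := ↥(U : Subgroup G)) p (by rw [hcard])
  rw [Subgroup.orderOf_mk] at hxp
  have hU : zpowers x = (U : Subgroup G) :=
    eq_of_le_of_card_ge (Subgroup.zpowers_le.2 hx) (by rw [Nat.card_zpowers, hxp, hcard])
  obtain ⟨h1, h2⟩ := big_cards hG hord X h5 hp hxp
  rw [← hU]
  refine ⟨?_, h2⟩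
  conv_lhs => rw [zpowers_eq_closure, centralizer_closure]
  exact h1

end Cfsg.Agent.J4Sylow
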