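import Cfsg.Agent.Lib.J4Sylow.CentU
import Cfsg.Agent.Lib.J4V.Cent
import Cfsg.Agent.Lib.J4V.Local
import Cfsg.Agent.Lib.JComp.Basic

/-!
# Janko four type: an element of order eleven of the normaliser of the subgroup of order `2 ^ 11`

It centralises one `t` of the 276, its centraliser in the normaliser is `⟨t⟩ × ⟨v⟩`, it commutes with no
conjugate of `z`, and a 2-subgroup of the normaliser on which it acts without fixed points is the hyperplane.
-/

set_option autoImplicit false
set_option linter.style.haveILetI false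
set_option linter.unusedSectionVars false

namespace Cfsg.Agent.J4Sylow

open Subgroup Cfsg.Agent.J4Local

variable {G : Type*} [Group G] [Finite G] {z : G} {P : Subgroup G} [IsSimpleGroup G]
  (hG : ¬ IsMulCommutative G) (hord : Nat.card G = order) (X : J4Eleven.Chart z P)

/-- The normaliser of the subgroup of order `2 ^ 11`. -/
abbrev MM : Subgroup G := normalizer (X.std : Set G)

omit [IsSimpleGroup G] in
theorem std_le_MM : X.std ≤ MM X := le_normalizer

omit [IsSimpleGroup G] in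
theorem conj_std {g : G} (hg : g ∈ MM X) {a : G} (ha : a ∈ X.std) : g * a * g⁻¹ ∈ X.std :=
  M22Order.conj_mem_of_mem_normalizer hg ha

include hG in
theorem card_MM : Nat.card ↥(MM X) = 2 ^ 11 * 138240 * 1771 := (X.params hG).1

include hG in
theorem exists_v : ∃ v ∈ MM X, orderOf v = 11 := by
  haveI : Fact (Nat.Prime 11) := ⟨by norm_num⟩
  obtain ⟨v, hv⟩ := exists_prime_orderOf_dvd_card' (G := ↥(MM X)) 11 (by rw [card_MM hG X]; norm_num)
  exact ⟨v, v.2, by rw [Subgroup.orderOf_coe]; exact hv⟩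

/-- An element of order eleven in the normaliser, with the one of the 276 it fixes. -/
structure VData (v t : G) : Prop where
  mem : v ∈ MM X
  order_v : orderOf v = 11
  t_mem : t ∈ X.DD
  fix : X.std ⊓ centralizer ({v} : Set G) = zpowers t

variable {v t : G}

include hG in
theorem exists_t (hv : v ∈ MM X) (h11 : orderOf v = 11) : ∃ t, VData X v t := by
  classical
  haveI : Fact (Nat.Prime 11) := ⟨by norm_num⟩
  have hv11 : v ^ 11 = 1 := h11 ▸ pow_orderOf_eq_one v
  have h1 := J4Seven.card_conj_fixed hv11 X.std fun a ha => conj_std X hv ha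
  rw [X.std_eleven.card] at h1
  obtain ⟨j, hj, hjc⟩ := (Nat.dvd_prime_pow Nat.prime_two).1
    (show Nat.card ↥(X.std ⊓ centralizer ({v} : Set G)) ∣ 2 ^ 11 from
      X.std_eleven.card ▸ card_dvd_of_le inf_le_left)
  rw [hjc] at h1
  have hj' : j = 1 ∨ j = 11 := by
    clear * - h1 hj
    rw [Nat.ModEq] at h1
    interval_cases j <;> simp_all
  rcases hj' with rfl | rfl
  swap
  · exfalso
    have e : X.std ⊓ centralizer ({v} : Set G) = X.std :=
      eq_of_le_of_card_ge inf_le_left (by rw [hjc, X.std_eleven.card])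
    have hvC : v ∈ X.std := X.centralizer_std (mem_centralizer_iff.2 fun a ha => by
      rw [SetLike.mem_coe, ← e] at ha
      exact mem_centralizer_singleton_iff.1 ha.2)
    have h2 := X.std.orderOf_dvd_natCard hvC
    rw [h11, X.std_eleven.card] at h2
    norm_num at h2
  -- one of the 276 is fixed
  let f : ↥X.DD → ↥X.DD := fun d => ⟨v * d * v⁻¹, (X.mem_DD_conj hv).2 d.2⟩
  have hit : ∀ (n : ℕ) (d : ↥X.DD), ((f^[n] d : ↥X.DD) : G) = v ^ n * d * (v ^ n)⁻¹ := by
    intro n d
    induction n with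
    | zero => simp
    | succ n ih =>
      rw [Function.iterate_succ_apply', pow_succ']
      show v * ((f^[n] d : ↥X.DD) : G) * v⁻¹ = _
      rw [ih]; group
  have h2 := J4Seven.card_fixed_modEq f (p := 11) fun d => Subtype.ext (by rw [hit, hv11]; simp)
  have hDD : Nat.card ↥X.DD = 276 := by
    rw [Nat.card_coe_set_eq]; exact X.others_ncard hG
  rw [hDD] at h2
  obtain ⟨⟨d, hd⟩⟩ : Nonempty {d : ↥X.DD // f d = d} := by
    refine Finite.card_pos_iff.1 (Nat.pos_of_ne_zero fun e => ?_)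
    rw [e] at h2
    norm_num [Nat.ModEq] at h2
  refine ⟨(d : G), hv, h11, d.2, (eq_of_le_of_card_ge (Subgroup.zpowers_le.2
    (⟨d.2.1, mem_centralizer_singleton_iff.2 ?_⟩ : (d : G) ∈ X.std ⊓ centralizer ({v} : Set G))) ?_).symm⟩
  · have e : v * (d : G) * v⁻¹ = d := congrArg Subtype.val hd
    exact (mul_inv_eq_iff_eq_mul.1 e).symm
  · rw [hjc, Nat.card_zpowers,
      orderOf_eq_prime (p := 2) (by rw [pow_two]; exact X.std_eleven.sq _ d.2.1) d.2.2.1]
    norm_num

variable (D : VData X v t)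

omit [IsSimpleGroup G] in
include D in
theorem VData.t_order : orderOf t = 2 :=
  haveI : Fact (Nat.Prime 2) := ⟨Nat.prime_two⟩
  orderOf_eq_prime (by rw [pow_two]; exact X.std_eleven.sq _ D.t_mem.1) D.t_mem.2.1

omit [IsSimpleGroup G] in
include D in
theorem VData.t_comm : t * v = v * t :=
  mem_centralizer_singleton_iff.1 ((D.fix.symm ▸ mem_zpowers t : t ∈ X.std ⊓ centralizer ({v} : Set G))).2

omit [IsSimpleGroup G] in
include D in
theorem VData.v_pow : v ^ 11 = 1 := D.order_v ▸ pow_orderOf_eq_one v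

include hG hord D in
/-- No conjugate of `z` commutes with `v`. -/
theorem VData.no_z {j : G} (hj : IsConj z j) : j * v ≠ v * j := by
  intro hjv
  obtain ⟨u, hu, hu11⟩ := exists_eleven X
  haveI : Fact (Nat.Prime 11) := ⟨by norm_num⟩
  obtain ⟨g, hg⟩ := isConj_iff.1 hj
  have hg' : g⁻¹ * v * g ∈ HH z := mem_HH.2 (by
    calc g⁻¹ * v * g * z = g⁻¹ * (v * (g * z * g⁻¹)) * g := by group
      _ = g⁻¹ * (g * z * g⁻¹ * v) * g := by rw [hg, ← hjv]
      _ = _ := by group)
  have hord' : orderOf (g⁻¹ * v * g) = 11 := by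
    have := MulEquiv.orderOf_eq (MulAut.conj g⁻¹) v
    rw [MulAut.conj_apply, inv_inv, D.order_v] at this
    exact this
  obtain ⟨d, -, hd⟩ := conj_eleven X hu hu11 hg' hord'
  set c := d * g⁻¹
  have e1 : c * v * c⁻¹ = d * (g⁻¹ * v * g) * d⁻¹ := by simp only [c]; group
  rw [← e1] at hd
  have hgen : zpowers (c * v * c⁻¹) = zpowers u := by
    refine eq_of_le_of_card_ge (Subgroup.zpowers_le.2 hd) ?_
    rw [Nat.card_zpowers, Nat.card_zpowers, hu11,
      show orderOf (c * v * c⁻¹) = orderOf v from MulEquiv.orderOf_eq (MulAut.conj c) v, D.order_v]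
  obtain ⟨i, hi⟩ := mem_zpowers_iff.1 (hgen.symm ▸ mem_zpowers u)
  have htv : Commute (c * t * c⁻¹) (c * v * c⁻¹) := by
    show c * t * c⁻¹ * (c * v * c⁻¹) = c * v * c⁻¹ * (c * t * c⁻¹)
    calc c * t * c⁻¹ * (c * v * c⁻¹) = c * (t * v) * c⁻¹ := by group
      _ = _ := by rw [D.t_comm]; group
  have htu : (c * t * c⁻¹) * u = u * (c * t * c⁻¹) := by
    rw [← hi]; exact (htv.zpow_right i).eq
  have hz := invol_cent hG hord X hu hu11 htu (by
    calc c * t * c⁻¹ * (c * t * c⁻¹) = c * (t * t) * c⁻¹ := by group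
      _ = 1 := by rw [X.std_eleven.sq _ D.t_mem.1]; group) (fun e => D.t_mem.2.1 (conj_eq_one_iff.1 e))
  exact D.t_mem.2.2 (hz.trans (isConj_iff.2 ⟨c⁻¹, by group⟩))

include D in
/-- A 2-element of the normaliser commuting with `v` is a power of `t`. -/
theorem VData.two_mem {a : ℕ} : ∀ {y : G}, y ∈ MM X → y * v = v * y → y ^ 2 ^ a = 1 → y ∈ zpowers t := by
  induction a with
  | zero => intro y _ _ h; rw [pow_zero, pow_one] at h; rw [h]; exact one_mem _
  | succ a ih =>
    intro y hy hyv h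
    have h2 : y ^ 2 ∈ zpowers t := ih (pow_mem hy 2) ((show Commute y v from hyv).pow_left 2).eq
      (by rw [← pow_mul, ← pow_succ', h])
    rw [← D.fix]
    refine ⟨X.centralizer_std (mem_centralizer_iff.2 ?_), mem_centralizer_singleton_iff.2 hyv⟩
    have hy2 : y ^ 2 ∈ X.std := (Subgroup.zpowers_le.2 D.t_mem.1) h2
    haveI : Fact (Nat.Prime 11) := ⟨by norm_num⟩
    set F := X.std ⊓ centralizer ({y} : Set G)
    let f : ↥X.std →* ↥X.std := MonoidHom.mk' (fun s => ⟨y * s * y⁻¹ * s, mul_mem (conj_std X hy s.2) s.2⟩)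
      (fun s s' => Subtype.ext (by
        push_cast
        have hc := X.std_eleven.comm _ s.2 _ (conj_std X hy s'.2)
        calc y * (s * s') * y⁻¹ * (s * s') = (y * s * y⁻¹) * ((y * s' * y⁻¹) * (s : G)) * s' := by group
          _ = _ := by rw [← hc]; group))
    have hker : ∀ s : ↥X.std, s ∈ f.ker ↔ (s : G) ∈ F := by
      intro s
      rw [MonoidHom.mem_ker]
      constructor
      · intro e
        have e1 : y * (s : G) * y⁻¹ * s = 1 := congrArg Subtype.val e
        refine ⟨s.2, mem_centralizer_singleton_iff.2 ?_⟩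
        have e2 : y * (s : G) * y⁻¹ = s := by
          calc y * (s : G) * y⁻¹ = y * (s : G) * y⁻¹ * (s * s) := by rw [X.std_eleven.sq _ s.2, mul_one]
            _ = _ := by rw [← mul_assoc, e1, one_mul]
        exact (mul_inv_eq_iff_eq_mul.1 e2).symm
      · intro hs
        refine Subtype.ext ?_
        show y * (s : G) * y⁻¹ * s = 1
        rw [← mem_centralizer_singleton_iff.1 hs.2, mul_inv_cancel_right, X.std_eleven.sq _ s.2]
    have hrange : f.range ≤ f.ker := by
      rintro _ ⟨s, rfl⟩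
      rw [MonoidHom.mem_ker]
      refine Subtype.ext ?_
      show y * (y * (s : G) * y⁻¹ * s) * y⁻¹ * (y * (s : G) * y⁻¹ * s) = 1
      have hy2s : y ^ 2 * s * (y ^ 2)⁻¹ = s := by
        rw [X.std_eleven.comm _ hy2 _ s.2, mul_inv_cancel_right]
      calc y * (y * (s : G) * y⁻¹ * s) * y⁻¹ * (y * (s : G) * y⁻¹ * s)
          = (y ^ 2 * s * (y ^ 2)⁻¹) * ((y * (s : G) * y⁻¹) * (y * (s : G) * y⁻¹)) * s := by rw [pow_two]; group
        _ = _ := by rw [hy2s, X.std_eleven.sq _ (conj_std X hy s.2), mul_one, X.std_eleven.sq _ s.2]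
    have hmul := f.ker.card_mul_index
    rw [index_ker, X.std_eleven.card] at hmul
    have hcF : Nat.card ↥F = Nat.card ↥f.ker := by
      rw [← card_map_of_injective (f := X.std.subtype) X.std.subtype_injective]
      congr 1
      have e : f.ker.map X.std.subtype = F := by
        ext x
        constructor
        · rintro ⟨s, hs, rfl⟩; exact (hker s).1 hs
        · intro hx; exact ⟨⟨x, hx.1⟩, (hker _).2 hx, rfl⟩
      rw [e]
    have hle2 := Subgroup.card_le_of_le hrange
    obtain ⟨j, hj, hjF⟩ := (Nat.dvd_prime_pow Nat.prime_two).1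
      (show Nat.card ↥F ∣ 2 ^ 11 from X.std_eleven.card ▸ card_dvd_of_le inf_le_left)
    have hfix := J4Seven.card_conj_fixed D.v_pow F fun s hs =>
      ⟨conj_std X D.mem hs.1, mem_centralizer_singleton_iff.2 (by
        calc v * s * v⁻¹ * y = v * s * (v⁻¹ * y) := by group
          _ = v * s * (y * v⁻¹) := by rw [((show Commute y v from hyv).inv_right).eq]
          _ = v * (s * y) * v⁻¹ := by group
          _ = v * (y * s) * v⁻¹ := by rw [mem_centralizer_singleton_iff.1 hs.2]
          _ = (v * y) * s * v⁻¹ := by group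
          _ = (y * v) * s * v⁻¹ := by rw [hyv]
          _ = _ := by group)⟩
    have hFv : F ⊓ centralizer ({v} : Set G) = zpowers t := by
      refine le_antisymm (fun s hs => D.fix ▸ ⟨hs.1.1, hs.2⟩) ?_
      refine Subgroup.zpowers_le.2 ⟨⟨D.t_mem.1, mem_centralizer_singleton_iff.2 ?_⟩,
        mem_centralizer_singleton_iff.2 D.t_comm⟩
      -- `y` normalises `⟨t⟩`
      have hyt : y * t * y⁻¹ ∈ zpowers t := by
        rw [← D.fix]
        refine ⟨conj_std X hy D.t_mem.1, mem_centralizer_singleton_iff.2 ?_⟩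
        calc y * t * y⁻¹ * v = y * t * (y⁻¹ * v) := by group
          _ = y * t * (v * y⁻¹) := by rw [((show Commute y v from hyv).inv_left).eq]
          _ = y * (t * v) * y⁻¹ := by group
          _ = y * (v * t) * y⁻¹ := by rw [D.t_comm]
          _ = (y * v) * t * y⁻¹ := by group
          _ = (v * y) * t * y⁻¹ := by rw [hyv]
          _ = _ := by group
      obtain ⟨i, hi⟩ := mem_zpowers_iff.1 hyt
      rw [← zpow_mod_orderOf, D.t_order] at hi
      rcases Int.emod_two_eq_zero_or_one i with r | r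
      · rw [show i % ((2 : ℕ) : ℤ) = 0 from r, zpow_zero] at hi
        exact absurd (conj_eq_one_iff.1 hi.symm) D.t_mem.2.1
      · rw [show i % ((2 : ℕ) : ℤ) = 1 from r, zpow_one] at hi
        exact (mul_inv_eq_iff_eq_mul.1 hi.symm).symm
    rw [hFv, hjF, Nat.card_zpowers, D.t_order] at hfix
    rw [← hcF, hjF] at hmul hle2
    have hj6 : 6 ≤ j := by
      by_contra hcon
      have h1 : 2 ^ j ≤ 2 ^ 5 := Nat.pow_le_pow_right (by norm_num) (by omega)
      nlinarith [Nat.mul_le_mul h1 (hle2.trans h1)]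
    have hj11 : j = 11 := by
      clear * - hfix hj hj6
      rw [Nat.ModEq] at hfix
      interval_cases j <;> simp_all
    intro s hs
    have e : F = X.std := eq_of_le_of_card_ge inf_le_left (by rw [hjF, hj11, X.std_eleven.card])
    rw [SetLike.mem_coe, ← e] at hs
    exact mem_centralizer_singleton_iff.1 hs.2

include hG hord D in
/-- An element of prime order commuting with `v` in the normaliser has order 2 or 11. -/
theorem VData.prime_cases {y : G} {q : ℕ} (hq : q.Prime) (hy : y ∈ MM X) (hyv : y * v = v * y)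
    (hyo : orderOf y = q) : q = 2 ∨ q = 11 := by
  by_contra hcon
  push Not at hcon
  haveI := Fact.mk hq
  haveI : Fact (Nat.Prime 11) := ⟨by norm_num⟩
  set F := X.std ⊓ centralizer ({y} : Set G)
  have hfix := J4Seven.card_conj_fixed D.v_pow F fun s hs =>
    ⟨conj_std X D.mem hs.1, mem_centralizer_singleton_iff.2 (by
      calc v * s * v⁻¹ * y = v * s * (v⁻¹ * y) := by group
        _ = v * s * (y * v⁻¹) := by rw [((show Commute y v from hyv).inv_right).eq]
        _ = v * (s * y) * v⁻¹ := by group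
        _ = v * (y * s) * v⁻¹ := by rw [mem_centralizer_singleton_iff.1 hs.2]
        _ = (v * y) * s * v⁻¹ := by group
        _ = (y * v) * s * v⁻¹ := by rw [hyv]
        _ = _ := by group)⟩
  have hT : ∀ s ∈ zpowers t, y * s * y⁻¹ ∈ zpowers t := by
    intro s hs
    rw [← D.fix] at hs ⊢
    refine ⟨conj_std X hy hs.1, mem_centralizer_singleton_iff.2 ?_⟩
    calc y * s * y⁻¹ * v = y * s * (y⁻¹ * v) := by group
      _ = y * s * (v * y⁻¹) := by rw [((show Commute y v from hyv).inv_left).eq]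
      _ = y * (s * v) * y⁻¹ := by group
      _ = y * (v * s) * y⁻¹ := by rw [mem_centralizer_singleton_iff.1 hs.2]
      _ = (y * v) * s * y⁻¹ := by group
      _ = (v * y) * s * y⁻¹ := by rw [hyv]
      _ = _ := by group
  have hFv : F ⊓ centralizer ({v} : Set G) = zpowers t := by
    refine le_antisymm (fun s hs => D.fix ▸ ⟨hs.1.1, hs.2⟩) ?_
    refine Subgroup.zpowers_le.2 ⟨⟨D.t_mem.1, mem_centralizer_singleton_iff.2 ?_⟩,
      mem_centralizer_singleton_iff.2 D.t_comm⟩
    obtain ⟨i, hi⟩ := mem_zpowers_iff.1 (hT t (mem_zpowers t))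
    rw [← zpow_mod_orderOf, D.t_order] at hi
    rcases Int.emod_two_eq_zero_or_one i with r | r
    · rw [show i % ((2 : ℕ) : ℤ) = 0 from r, zpow_zero] at hi
      exact absurd (conj_eq_one_iff.1 hi.symm) D.t_mem.2.1
    · rw [show i % ((2 : ℕ) : ℤ) = 1 from r, zpow_one] at hi
      exact (mul_inv_eq_iff_eq_mul.1 hi.symm).symm
  obtain ⟨j, hj, hjF⟩ := (Nat.dvd_prime_pow Nat.prime_two).1
    (show Nat.card ↥F ∣ 2 ^ 11 from X.std_eleven.card ▸ card_dvd_of_le inf_le_left)
  rw [hFv, hjF, Nat.card_zpowers, D.t_order] at hfix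
  have hj' : j = 1 ∨ j = 11 := by
    clear * - hfix hj
    rw [Nat.ModEq] at hfix
    interval_cases j <;> simp_all
  rcases hj' with rfl | rfl
  · have h1 := J4Seven.card_conj_fixed (p := q) (hyo ▸ pow_orderOf_eq_one y) X.std fun s hs => conj_std X hy hs
    rw [X.std_eleven.card, show Nat.card ↥(X.std ⊓ centralizer ({y} : Set G)) = 2 ^ 1 from hjF] at h1
    have h2 : q ∣ 2 ^ 11 - 2 ^ 1 := (Nat.modEq_iff_dvd' (by norm_num)).1 h1.symm
    have h3 : q ∣ Nat.card ↥(MM X) := hyo ▸ (MM X).orderOf_dvd_natCard hy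
    rw [card_MM hG X] at h3
    have h4 := Nat.dvd_gcd h2 h3
    rw [show Nat.gcd (2 ^ 11 - 2 ^ 1) (2 ^ 11 * 138240 * 1771) = 2 * (3 * 11) by norm_num] at h4
    rcases hq.dvd_mul.1 h4 with h | h
    · exact hcon.1 ((Nat.prime_dvd_prime_iff_eq hq Nat.prime_two).1 h)
    rcases hq.dvd_mul.1 h with h | h
    swap
    · exact hcon.2 ((Nat.prime_dvd_prime_iff_eq hq (by norm_num)).1 h)
    have hq3 : q = 3 := (Nat.prime_dvd_prime_iff_eq hq Nat.prime_three).1 h
    subst hq3
    obtain ⟨p, hp, hp1, hP, hp3⟩ := X.L.J.exists_gen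
    obtain ⟨w, hw, hwz, hzw⟩ := exists_win hG X.L.J
    obtain ⟨a, ha⟩ := isConj_iff.1 (isConj_three_class X.L.J (normalizer_P_le hG X.L.J) hw hwz hzw hyo
      (orderOf_eq_prime hp3 hp1))
    have hmem : a * v * a⁻¹ ∈ HH z := by
      refine normalizer_P_le hG X.L.J (centralizer_le_normalizer (P : Set G) (mem_centralizer_iff.2 fun b hb => ?_))
      rw [SetLike.mem_coe, hP, mem_zpowers_iff] at hb
      obtain ⟨i, rfl⟩ := hb
      have h5 : Commute p (a * v * a⁻¹) := by
        show p * (a * v * a⁻¹) = a * v * a⁻¹ * p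
        rw [← ha]
        calc a * y * a⁻¹ * (a * v * a⁻¹) = a * (y * v) * a⁻¹ := by group
          _ = _ := by rw [hyv]; group
      exact (h5.zpow_left i).eq
    refine D.no_z hG hord X (isConj_iff.2 ⟨a⁻¹, rfl⟩) ?_
    have h6 := mem_HH.1 hmem
    calc a⁻¹ * z * a⁻¹⁻¹ * v = a⁻¹ * (z * (a * v * a⁻¹)) * a := by group
      _ = _ := by rw [← h6]; group
  · have e : F = X.std := eq_of_le_of_card_ge inf_le_left (by rw [hjF, X.std_eleven.card])
    have hyC : y ∈ X.std := X.centralizer_std (mem_centralizer_iff.2 fun a ha => by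
      rw [SetLike.mem_coe, ← e] at ha
      exact mem_centralizer_singleton_iff.1 ha.2)
    have h2 := X.std.orderOf_dvd_natCard hyC
    rw [hyo, X.std_eleven.card] at h2
    exact hcon.1 ((Nat.prime_dvd_prime_iff_eq hq Nat.prime_two).1 (hq.dvd_of_dvd_pow h2))

include hG hord D in
theorem VData.card_cent_MM : Nat.card ↥(MM X ⊓ centralizer ({v} : Set G)) = 22 := by
  classical
  haveI : Fact (Nat.Prime 2) := ⟨Nat.prime_two⟩
  set C := MM X ⊓ centralizer ({v} : Set G)
  have hvC : v ∈ C := ⟨D.mem, mem_centralizer_singleton_iff.2 rfl⟩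
  have htC : t ∈ C := ⟨std_le_MM X D.t_mem.1, mem_centralizer_singleton_iff.2 D.t_comm⟩
  have h22 : 22 ∣ Nat.card C := Nat.Coprime.mul_dvd_of_dvd_of_dvd (m := 2) (n := 11) (by norm_num)
    (D.t_order ▸ C.orderOf_dvd_natCard htC) (D.order_v ▸ C.orderOf_dvd_natCard hvC)
  have hd : Nat.card C ∣ 2 ^ 11 * 138240 * 1771 := card_MM hG X ▸ card_dvd_of_le inf_le_left
  -- the 2-part
  obtain ⟨S⟩ : Nonempty (Sylow 2 ↥C) := inferInstance
  have hS2 : Nat.card ↥(S : Subgroup ↥C) ∣ 2 := by
    rw [← card_map_of_injective (f := C.subtype) C.subtype_injective]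
    have e2 : Nat.card ↥(zpowers t) = 2 := by rw [Nat.card_zpowers, D.t_order]
    refine (card_dvd_of_le ?_).trans (dvd_of_eq e2)
    rintro _ ⟨s, hs, rfl⟩
    obtain ⟨k, hk⟩ := S.isPGroup' ⟨s, hs⟩
    exact D.two_mem X s.2.1 (mem_centralizer_singleton_iff.1 s.2.2)
      (congrArg (fun w : ↥(S : Subgroup ↥C) => ((w : ↥C) : G)) hk)
  rw [Sylow.card_eq_multiplicity] at hS2
  have hf2 : (Nat.card C).factorization 2 ≤ 1 := by
    rw [← Nat.pow_dvd_pow_iff_le_right (x := 2) (by norm_num), pow_one]; exact hS2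
  have hall : ∀ q ∈ (Nat.card C).primeFactors, q = 2 ∨ q = 11 := fun q hq => by
    rw [Nat.mem_primeFactors] at hq
    haveI := Fact.mk hq.1
    obtain ⟨⟨y, hy⟩, hyo⟩ := exists_prime_orderOf_dvd_card' (G := ↥C) q hq.2.1
    rw [Subgroup.orderOf_mk] at hyo
    exact D.prime_cases hG hord X hq.1 hy.1 (mem_centralizer_singleton_iff.1 hy.2) hyo
  have hf11 : (Nat.card C).factorization 11 ≤ 1 := by
    have h := (Nat.factorization_le_iff_dvd Nat.card_pos.ne' (by norm_num)).2 hd 11
    have hfac : ((2 : ℕ) ^ 11 * 138240 * 1771).factorization 11 = 1 := by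
      rw [show (2 : ℕ) ^ 11 * 138240 * 1771 = 45581598720 * 11 by norm_num,
        Nat.factorization_mul (by norm_num) (by norm_num),
        Finsupp.add_apply, Nat.Prime.factorization_self (by norm_num),
        Nat.factorization_eq_zero_of_not_dvd (by norm_num)]
    rwa [hfac] at h
  refine Nat.dvd_antisymm ?_ h22
  rw [← Nat.factorization_le_iff_dvd Nat.card_pos.ne' (by norm_num)]
  intro q
  by_cases hq : q ∈ (Nat.card C).primeFactors
  · have h2' : (22 : ℕ).factorization 2 = 1 := by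
      rw [show (22 : ℕ) = 11 * 2 by norm_num, Nat.factorization_mul (by norm_num) (by norm_num),
        Finsupp.add_apply, Nat.Prime.factorization_self Nat.prime_two,
        Nat.factorization_eq_zero_of_not_dvd (by norm_num)]
    have h11' : (22 : ℕ).factorization 11 = 1 := by
      rw [show (22 : ℕ) = 2 * 11 by norm_num, Nat.factorization_mul (by norm_num) (by norm_num),
        Finsupp.add_apply, Nat.Prime.factorization_self (by norm_num),
        Nat.factorization_eq_zero_of_not_dvd (by norm_num)]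
    rcases hall q hq with rfl | rfl
    · rw [h2']; exact hf2
    · rw [h11']; exact hf11
  · rw [← Nat.support_factorization, Finsupp.notMem_support_iff] at hq
    rw [hq]; exact Nat.zero_le _

include hG hord D in
/-- An element of `C(v) ∩ N(V)` is `t ^ a v ^ b`; those with eleventh power one are powers of `v`. -/
theorem VData.eleven_mem {k : G} (hk : k ∈ MM X ⊓ centralizer ({v} : Set G)) (h : k ^ 11 = 1) :
    k ∈ zpowers v := by
  haveI : Fact (Nat.Prime 11) := ⟨by norm_num⟩
  set C := MM X ⊓ centralizer ({v} : Set G)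
  have hn : zpowers k ≤ normalizer ((zpowers v : Subgroup G) : Set G) :=
    Subgroup.zpowers_le.2 (M22Order.mem_normalizer_of_conj fun a ha => by
      obtain ⟨i, rfl⟩ := mem_zpowers_iff.1 ha
      rw [((show Commute k v from mem_centralizer_singleton_iff.1 hk.2).zpow_right i).eq, mul_inv_cancel_right]
      exact zpow_mem (mem_zpowers v) i)
  have hm := JComp.card_sup_mul_inf hn
  by_contra hkv
  have hko : orderOf k = 11 := orderOf_eq_prime h fun e => hkv (e ▸ one_mem _)
  have hinf : zpowers v ⊓ zpowers k = ⊥ := by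
    rw [eq_bot_iff]
    intro w hw
    rw [mem_bot]
    by_contra hw1
    refine hkv ?_
    have : zpowers w = zpowers k := by
      refine eq_of_le_of_card_ge (Subgroup.zpowers_le.2 hw.2) ?_
      have h1 := (zpowers k).orderOf_dvd_natCard hw.2
      rw [Nat.card_zpowers, hko] at h1
      rw [Nat.card_zpowers, Nat.card_zpowers, hko]
      rcases (Nat.dvd_prime (by norm_num : Nat.Prime 11)).1 h1 with e | e
      · exact absurd (orderOf_eq_one_iff.1 e) hw1
      · omega
    exact (Subgroup.zpowers_le.2 hw.1) (this ▸ mem_zpowers k)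
  rw [hinf, Subgroup.card_bot, mul_one, Nat.card_zpowers, Nat.card_zpowers, hko, D.order_v] at hm
  have hle : zpowers v ⊔ zpowers k ≤ C := sup_le
    (Subgroup.zpowers_le.2 ⟨D.mem, mem_centralizer_singleton_iff.2 rfl⟩) (Subgroup.zpowers_le.2 hk)
  have h1 := card_dvd_of_le hle
  rw [hm, D.card_cent_MM hG hord] at h1
  norm_num at h1

include hG hord D in
theorem VData.coreV : ∃ O, CoreData v t O := by
  have hle : centralizer ({t} : Set G) ≤ MM X :=
    X.centralizer_le_of_not_zt hG D.t_mem.1 D.t_mem.2.1 D.t_mem.2.2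
  refine exists_core D.t_comm D.t_order (by rw [D.order_v]; decide) (fun j hjv hjt h2 h1 => ?_)
    fun K hK hodd _ => ?_
  · have h := D.two_mem X (a := 1) (hle (mem_centralizer_singleton_iff.2 hjt)) hjv (by rw [pow_one, pow_two, h2])
    obtain ⟨i, hi⟩ := mem_zpowers_iff.1 h
    rw [← zpow_mod_orderOf, D.t_order] at hi
    rcases Int.emod_two_eq_zero_or_one i with r | r
    · rw [show i % ((2 : ℕ) : ℤ) = 0 from r, zpow_zero] at hi
      exact absurd hi.symm h1
    · rw [show i % ((2 : ℕ) : ℤ) = 1 from r, zpow_one] at hi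
      exact hi.symm
  · intro k hk
    have hkC : k ∈ MM X ⊓ centralizer ({v} : Set G) := ⟨hle (hK hk).2, (hK hk).1⟩
    refine D.eleven_mem hG hord X hkC (orderOf_dvd_iff_pow_eq_one.1 ?_)
    have h1 := (MM X ⊓ centralizer ({v} : Set G)).orderOf_dvd_natCard hkC
    rw [D.card_cent_MM hG hord] at h1
    exact (Nat.coprime_two_left.2 (hodd.of_dvd_nat (K.orderOf_dvd_natCard hk))).symm.dvd_of_dvd_mul_left
      (show orderOf k ∣ 2 * 11 from h1)

include hG hord D in
theorem VData.card_cent {O : Subgroup G} (DO : CoreData v t O) :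
    Nat.card ↥(centralizer ({v} : Set G)) = 2 * Nat.card O := by
  have h := DO.card
  have e : centralizer ({v} : Set G) ⊓ centralizer ({t} : Set G) = MM X ⊓ centralizer ({v} : Set G) := by
    refine le_antisymm
      (fun c hc => ⟨X.centralizer_le_of_not_zt hG D.t_mem.1 D.t_mem.2.1 D.t_mem.2.2 hc.2, hc.1⟩) ?_
    intro c hc
    refine ⟨hc.2, mem_centralizer_singleton_iff.2 ?_⟩
    have hct : c * t * c⁻¹ ∈ zpowers t := by
      rw [← D.fix]
      refine ⟨conj_std X hc.1 D.t_mem.1, mem_centralizer_singleton_iff.2 ?_⟩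
      have hcv : Commute c v := mem_centralizer_singleton_iff.1 hc.2
      calc c * t * c⁻¹ * v = c * t * (c⁻¹ * v) := by group
        _ = c * t * (v * c⁻¹) := by rw [hcv.inv_left.eq]
        _ = c * (t * v) * c⁻¹ := by group
        _ = c * (v * t) * c⁻¹ := by rw [D.t_comm]
        _ = (c * v) * t * c⁻¹ := by group
        _ = (v * c) * t * c⁻¹ := by rw [hcv.eq]
        _ = _ := by group
    obtain ⟨i, hi⟩ := mem_zpowers_iff.1 hct
    rw [← zpow_mod_orderOf, D.t_order] at hi
    rcases Int.emod_two_eq_zero_or_one i with r | r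
    · rw [show i % ((2 : ℕ) : ℤ) = 0 from r, zpow_zero] at hi
      exact absurd (conj_eq_one_iff.1 hi.symm) D.t_mem.2.1
    · rw [show i % ((2 : ℕ) : ℤ) = 1 from r, zpow_one] at hi
      exact mul_inv_eq_iff_eq_mul.1 hi.symm
  rw [e, D.card_cent_MM hG hord, D.order_v] at h
  omega

include hord X in
/-- The centre of a Sylow 2-subgroup is generated by a conjugate of `z`. -/
theorem sylow_center [Fact (Nat.Prime 2)] (T : Sylow 2 G) :
    ∃ y, IsConj z y ∧ y ∈ (T : Subgroup G) ∧ (∀ s ∈ (T : Subgroup G), y * s = s * y) ∧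
      ∀ x ∈ (T : Subgroup G), (∀ s ∈ (T : Subgroup G), x * s = s * x) → x = 1 ∨ x = y := by
  have hJ := X.L.J
  set K := HH z
  have hpE : IsPGroup 2 ↥((EE z).subgroupOf K) :=
    (IsPGroup.of_card (n := 13) hJ.cardE).of_equiv (subgroupOfEquivOfLe (EE_le_HH z)).symm
  obtain ⟨S, hS⟩ := hpE.exists_le_sylow
  set T0 := (S : Subgroup ↥K).map K.subtype
  have hT0 : Nat.card T0 = 2 ^ 21 := by
    rw [card_map_of_injective K.subtype_injective, Sylow.card_eq_multiplicity, X.L.cardH,
      show (2 : ℕ) ^ 13 * 2661120 = 2 ^ 21 * 10395 by norm_num, Nat.factorization_mul (by norm_num) (by norm_num),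
      Finsupp.add_apply, Nat.Prime.factorization_pow Nat.prime_two, Finsupp.single_eq_same,
      Nat.factorization_eq_zero_of_not_dvd (by norm_num), add_zero]
  let T1 : Sylow 2 G := Sylow.ofCard T0 (by rw [hT0, hord, factorization_two])
  obtain ⟨g, hg⟩ := MulAction.exists_smul_eq G T1 T
  have hT : ∀ s : G, s ∈ (T : Subgroup G) ↔ g⁻¹ * s * g ∈ T0 := by
    intro s
    have : (T : Subgroup G) = cjS g T0 := by
      rw [← hg]
      show (T1 : Subgroup G).map (MulAut.conj g).toMonoidHom = _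
      rw [Sylow.coe_ofCard]
    rw [this, mem_cjS]
  have hzT0 : z ∈ T0 := ⟨⟨z, EE_le_HH z hJ.ctr.z_mem⟩, hS (mem_subgroupOf.2 hJ.ctr.z_mem), rfl⟩
  have hET0 : ∀ e ∈ EE z, e ∈ T0 := fun e he => ⟨⟨e, EE_le_HH z he⟩, hS (mem_subgroupOf.2 he), rfl⟩
  refine ⟨g * z * g⁻¹, isConj_iff.2 ⟨g, rfl⟩, (hT _).2 ?_, fun s hs => ?_, fun x hx hc => ?_⟩
  · rw [show g⁻¹ * (g * z * g⁻¹) * g = z by group]; exact hzT0
  · obtain ⟨k, -, e⟩ := (hT s).1 hs
    have h1 := mem_HH.1 k.2
    calc g * z * g⁻¹ * s = g * (z * (g⁻¹ * s * g)) * g⁻¹ := by group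
      _ = g * ((g⁻¹ * s * g) * z) * g⁻¹ := by rw [← e]; exact congrArg (fun w => g * w * g⁻¹) h1.symm
      _ = _ := by group
  · have hxc : ∀ e ∈ EE z, e * (g⁻¹ * x * g) = (g⁻¹ * x * g) * e := by
      intro e he
      have h1 := hc (g * e * g⁻¹) ((hT _).2 (by rw [show g⁻¹ * (g * e * g⁻¹) * g = e by group]; exact hET0 e he))
      calc e * (g⁻¹ * x * g) = g⁻¹ * (g * e * g⁻¹ * x) * g := by group
        _ = g⁻¹ * (x * (g * e * g⁻¹)) * g := by rw [h1]
        _ = _ := by group
    have hmem : g⁻¹ * x * g ∈ zpowers z := by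
      rw [← hJ.ctr.cent]; exact mem_centralizer_iff.2 hxc
    rcases hJ.mem_zpowers hmem with e | e
    · left; exact conj_eq_one_iff.1 (show g⁻¹ * x * g⁻¹⁻¹ = 1 by rw [inv_inv, e])
    · right; rw [← e]; group

include hG hord D in
/-- A 2-subgroup of the normaliser on which `v` acts without fixed points lies in the elementary subgroup. -/
theorem VData.two_le_std {Q : Subgroup G} (hQ : Q ≤ MM X) (h2 : IsPGroup 2 Q)
    (hnorm : ∀ q ∈ Q, v * q * v⁻¹ ∈ Q) (hfree : Q ⊓ centralizer ({v} : Set G) = ⊥) (hne : Q ≠ ⊥) :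
    Q ≤ X.std ∧ Nat.card Q = 2 ^ 10 := by
  classical
  haveI : Fact (Nat.Prime 2) := ⟨Nat.prime_two⟩
  haveI : Fact (Nat.Prime 11) := ⟨by norm_num⟩
  set R := X.std ⊓ Q
  have hmod : ∀ K : Subgroup G, K ≤ Q → (∀ q ∈ K, v * q * v⁻¹ ∈ K) → Nat.card K % 11 = 1 := by
    intro K hK hKn
    have h := J4Seven.card_conj_fixed D.v_pow K hKn
    have e : K ⊓ centralizer ({v} : Set G) = ⊥ := eq_bot_iff.2 ((inf_le_inf_right _ hK).trans hfree.le)
    rw [e, Subgroup.card_bot] at h
    exact h
  obtain ⟨T1, hT1⟩ := h2.exists_le_sylow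
  have hT1c : Nat.card ↥(T1 : Subgroup G) = 2 ^ 21 := by
    rw [Sylow.card_eq_multiplicity, hord, factorization_two]
  obtain ⟨k, hk, hkQ⟩ := (Nat.dvd_prime_pow Nat.prime_two).1 (hT1c ▸ card_dvd_of_le hT1)
  obtain ⟨i, hi, hiR⟩ := (Nat.dvd_prime_pow Nat.prime_two).1
    (show Nat.card R ∣ 2 ^ 11 from X.std_eleven.card ▸ card_dvd_of_le inf_le_left)
  have hk' := hmod Q le_rfl hnorm
  have hi' := hmod R inf_le_right fun q hq => ⟨conj_std X D.mem hq.1, hnorm q hq.2⟩
  rw [hkQ] at hk'; rw [hiR] at hi'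
  have hk0 : k ≠ 0 := fun e => hne (Subgroup.eq_bot_of_card_eq _ (by rw [hkQ, e, pow_zero]))
  have hk'' : k = 10 ∨ k = 20 := by
    clear * - hk hk' hk0
    interval_cases k <;> simp_all
  have hi'' : i = 0 ∨ i = 10 := by
    clear * - hi hi'
    interval_cases i <;> simp_all
  by_cases hik : i = k
  · refine ⟨?_, ?_⟩
    · rw [← eq_of_le_of_card_ge (inf_le_right : R ≤ Q) (by rw [hkQ, hiR, hik])]
      exact inf_le_left
    · rw [hkQ]
      rcases hk'' with e | e
      · rw [e]
      · omega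
  exfalso
  have hn : Q ≤ normalizer (X.std : Set G) := hQ
  have hm := JComp.card_sup_mul_inf hn
  rw [show X.std ⊓ Q = R from rfl, hiR, hkQ, X.std_eleven.card, ← pow_add] at hm
  have hW2 : IsPGroup 2 (X.std ⊔ Q : Subgroup G) := by
    rw [sup_comm]
    exact h2.to_sup_of_normal_right' (IsPGroup.of_card X.std_eleven.card) hn
  obtain ⟨T, hT⟩ := hW2.exists_le_sylow
  have hTc : Nat.card ↥(T : Subgroup G) = 2 ^ 21 := by
    rw [Sylow.card_eq_multiplicity, hord, factorization_two]
  have hik' : i < k := by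
    refine lt_of_le_of_ne ?_ hik
    have := Subgroup.card_le_of_le (inf_le_right : R ≤ Q)
    rw [hiR, hkQ] at this
    exact (Nat.pow_le_pow_iff_right (by norm_num)).1 this
  have hge : Nat.card ↥(T : Subgroup G) ≤ Nat.card ↥(X.std ⊔ Q : Subgroup G) := by
    rw [hTc]
    have h21 : (2 : ℕ) ^ 21 * 2 ^ i ≤ 2 ^ (11 + k) := by
      rw [← pow_add]; refine Nat.pow_le_pow_right (by norm_num) ?_
      omega
    exact Nat.le_of_mul_le_mul_right (h21.trans_eq hm.symm) (by positivity)
  have hTe : (X.std ⊔ Q : Subgroup G) = T := eq_of_le_of_card_ge hT hge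
  have hvT : ∀ s ∈ (T : Subgroup G), v * s * v⁻¹ ∈ (T : Subgroup G) := by
    intro s hs
    rw [← hTe] at hs ⊢
    obtain ⟨a, ha, q, hq, rfl⟩ := (Coprime.mem_sup_of_le_normalizer hn).1 hs
    rw [show v * (a * q) * v⁻¹ = (v * a * v⁻¹) * (v * q * v⁻¹) by group]
    exact mul_mem_sup (conj_std X D.mem ha) (hnorm q hq)
  obtain ⟨y, hyz, hyT, hyc, hyu⟩ := sylow_center hord X T
  have hiter : ∀ n : ℕ, ∀ s ∈ (T : Subgroup G), v ^ n * s * (v ^ n)⁻¹ ∈ (T : Subgroup G) := by
    intro n
    induction n with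
    | zero => intro s hs; simpa using hs
    | succ n ih =>
      intro s hs
      rw [show v ^ (n + 1) * s * (v ^ (n + 1))⁻¹ = v * (v ^ n * s * (v ^ n)⁻¹) * v⁻¹ by rw [pow_succ']; group]
      exact hvT _ (ih s hs)
  rcases hyu (v * y * v⁻¹) (hvT y hyT) (fun s hs => by
      have hs' : v⁻¹ * s * v ∈ (T : Subgroup G) := by
        have h10 := hiter 10 s hs
        have e : v ^ 10 = v⁻¹ := eq_inv_of_mul_eq_one_left (by rw [← pow_succ, D.v_pow])
        rwa [e, inv_inv] at h10
      have h1 := hyc _ hs'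
      calc v * y * v⁻¹ * s = v * (y * (v⁻¹ * s * v)) * v⁻¹ := by group
        _ = v * ((v⁻¹ * s * v) * y) * v⁻¹ := by rw [h1]
        _ = _ := by group) with e | e
  · have : y = 1 := conj_eq_one_iff.1 e
    rw [this] at hyz
    obtain ⟨c, hc⟩ := isConj_iff.1 hyz
    exact X.L.J.ctr.ne_one (conj_eq_one_iff.1 hc)
  · exact D.no_z hG hord X hyz (mul_inv_eq_iff_eq_mul.1 e).symm

include hG in
/-- A subgroup of index two of the elementary subgroup contains one of the 276 and a conjugate of `z`. -/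
theorem hyperplane_both {Q : Subgroup G} (hQ : Q ≤ X.std) (hc : Nat.card Q = 2 ^ 10) :
    (∃ d ∈ Q, d ∈ X.DD) ∧ ∃ y ∈ Q, IsConj z y := by
  classical
  constructor
  · by_contra hcon
    push Not at hcon
    have hidx : (Q.subgroupOf X.std).index = 2 := by
      have h := (Q.subgroupOf X.std).card_mul_index
      rw [Nat.card_congr (subgroupOfEquivOfLe hQ).toEquiv, hc, X.std_eleven.card] at h
      omega
    obtain ⟨d, hd, hdz⟩ : Set.Nonempty {d | d ∈ X.DD ∧ d * z ∈ X.DD} :=
      Set.nonempty_of_ncard_ne_zero (by rw [X.local36_z hG]; norm_num)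
    obtain ⟨w, hw, -, -, hdw, -⟩ : Set.Nonempty
        {u | (u ∈ X.DD ∧ u * z ∈ X.DD) ∧ u ≠ d ∧ u ≠ d * z ∧ d * u ∈ X.DD ∧ d * u * z ∈ X.DD} :=
      Set.nonempty_of_ncard_ne_zero (by rw [X.local4_z hG hd hdz]; norm_num)
    refine hcon _ ?_ hdw
    have := (mul_mem_iff_of_index_two hidx (a := (⟨d, hd.1⟩ : ↥X.std)) (b := ⟨w, hw.1.1⟩)).2
      (iff_of_false (fun h => hcon d (mem_subgroupOf.1 h) hd) (fun h => hcon w (mem_subgroupOf.1 h) hw.1))
    exact mem_subgroupOf.1 this
  · by_contra hcon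
    push Not at hcon
    have hsub : (Q : Set G) \ {1} ⊆ X.DD := fun y hy => ⟨hQ hy.1, hy.2, hcon y hy.1⟩
    have h1 := Set.ncard_le_ncard hsub (Set.toFinite _)
    rw [show X.DD.ncard = 276 from X.others_ncard hG, Set.ncard_sdiff_singleton_of_mem (one_mem _),
      ← Nat.card_coe_set_eq] at h1
    have h2 : Nat.card (Q : Set G) = 2 ^ 10 := hc
    omega

end Cfsg.Agent.J4Sylow
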