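import Cfsg.Agent.Lib.J4Sylow.Abelian

/-!
# Janko four type: structure of the Sylow 11-subgroups and the classes of elements of order eleven
-/

set_option autoImplicit false
set_option linter.style.haveILetI false
set_option linter.unusedSectionVars false

namespace Cfsg.Agent.J4Sylow

open Subgroup Cfsg.Agent.J4Local
open scoped commutatorElement

/-- A nonabelian group of order `p ^ 3` is extraspecial. -/
theorem extraspecial_cube {p : ℕ} [hp : Fact p.Prime] {P : Type*} [Group P] [Finite P] (h : Nat.card P = p ^ 3)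
    (hna : ¬ ∀ a b : P, a * b = b * a) : Cfsg.IsExtraspecial p P := by
  have hP : IsPGroup p P := IsPGroup.of_card (n := 3) h
  have hquot : Nat.card (P ⧸ center P) * Nat.card (center P) = p ^ 3 := by
    rw [← h]; exact ((center P).card_eq_card_quotient_mul_card_subgroup).symm
  have hncyc : ¬ IsCyclic (P ⧸ center P) := fun hc => hna fun a b =>
    commutative_of_cyclic_center_quotient (QuotientGroup.mk' (center P)) (QuotientGroup.ker_mk' _).le a b
  have hp0 := hp.out.pos
  have hZ : Nat.card (center P) = p := by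
    obtain ⟨k, hk0, hk⟩ := IsPGroup.card_center_eq_prime_pow (n := 3) (p := p) h (by norm_num)
    have hk3 : k ≤ 3 := (Nat.pow_dvd_pow_iff_le_right hp.out.one_lt).1 (by
      rw [← hk, ← h]; exact card_subgroup_dvd_card _)
    interval_cases k
    · simpa using hk
    · refine absurd (isCyclic_of_prime_card (p := p) ?_) hncyc
      rw [hk] at hquot
      exact Nat.eq_of_mul_eq_mul_right (pow_pos hp0 2) (hquot.trans (by ring))
    · refine absurd ?_ hna
      have htop : center P = ⊤ := eq_top_of_card_eq _ (by rw [hk, h])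
      exact fun a b => mem_center_iff.1 (htop ▸ mem_top b) a
  rw [hZ] at hquot
  have h2 : Nat.card (P ⧸ center P) = p ^ 2 := Nat.eq_of_mul_eq_mul_right hp0 (hquot.trans (by ring))
  haveI := IsPGroup.isMulCommutative_of_card_eq_prime_sq h2
  have hle : commutator P ≤ center P := by
    rw [commutator_def, commutator_le]
    intro a _ b _
    rw [← QuotientGroup.eq_one_iff, commutatorElement_def, QuotientGroup.mk_mul, QuotientGroup.mk_mul,
      QuotientGroup.mk_mul, QuotientGroup.mk_inv, QuotientGroup.mk_inv, mul_comm' (a : P ⧸ center P) b]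
    group
  have heq : commutator P = center P := by
    refine eq_of_le_of_card_ge hle ?_
    have hd := card_dvd_of_le hle
    rw [hZ] at hd ⊢
    rcases (Nat.dvd_prime hp.out).1 hd with e | e
    · refine absurd (fun a b => ?_) hna
      have h0 : ⁅a, b⁆ ∈ commutator P := commutator_mem_commutator (mem_top _) (mem_top _)
      rwa [Subgroup.eq_bot_of_card_eq _ e, mem_bot, commutatorElement_eq_one_iff_mul_comm] at h0
    · exact e.ge
  refine ⟨⟨hP, le_antisymm ?_ ?_, heq⟩, hZ⟩
  · have := CharP.frattini_le_ker (p := p) (QuotientGroup.mk' (center P)) (fun a b => mul_comm' _ _) (fun a => by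
      by_contra hne
      refine hncyc (isCyclic_of_orderOf_eq_card (QuotientGroup.mk' (center P) a) ?_)
      rw [h2]
      refine orderOf_eq_prime_pow (by rwa [pow_one]) ?_
      rw [show p ^ (1 + 1) = p ^ 2 by rfl, ← h2]
      exact pow_card_eq_one')
    rwa [QuotientGroup.ker_mk'] at this
  · haveI := hP.isNilpotent
    rw [← heq]
    exact Coprime.commutator_le_frattini _

variable {G : Type*} [Group G] [Finite G] [IsSimpleGroup G] (hG : ¬ IsMulCommutative G) (hord : Nat.card G = order)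
  {z : G} {P : Subgroup G} (X : J4Eleven.Chart z P) {u : G} (hu : u ∈ CC z P) (h11 : orderOf u = 11)
  {O : Subgroup G} (D : CoreData u z O)

include hG hord X hu h11 D in
/-- Every element of order eleven is conjugate into the core. -/
theorem exists_conj_core {w : G} (hw : w ^ 11 = 1) : ∃ g : G, g * w * g⁻¹ ∈ O := by
  haveI : Fact (Nat.Prime 11) := ⟨by norm_num⟩
  let S : Sylow 11 G := Sylow.ofCard O (core_card_sylow hG hord X hu h11 D)
  have hp : IsPGroup 11 (zpowers w) := by
    intro a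
    refine ⟨1, Subtype.ext ?_⟩
    obtain ⟨i, hi⟩ := mem_zpowers_iff.1 a.2
    push_cast
    rw [← hi, ← zpow_natCast, ← zpow_mul, mul_comm, zpow_mul, zpow_natCast, hw, one_zpow]
  obtain ⟨T, hT⟩ := hp.exists_le_sylow
  obtain ⟨g, hg⟩ := MulAction.exists_smul_eq G T S
  refine ⟨g, ?_⟩
  have h1 : g * w * g⁻¹ ∈ ((g • T : Sylow 11 G) : Subgroup G) := ⟨w, hT (mem_zpowers w), rfl⟩
  rw [hg] at h1
  have h2 : ((S : Sylow 11 G) : Subgroup G) = O := Sylow.coe_ofCard ..
  rwa [h2] at h1

include hG hord X hu h11 D in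
/-- The core is not abelian. -/
theorem not_comm : ∃ a ∈ O, ∃ b ∈ O, a * b ≠ b * a := by
  by_contra hcon
  push Not at hcon
  obtain ⟨v, hv, hv11⟩ := exists_v hG X
  obtain ⟨t, V⟩ := exists_t hG X hv hv11
  obtain ⟨g, hg⟩ := exists_conj_core hG hord X hu h11 D (V.v_pow)
  have hJ' := X.L.J.conj g⁻¹
  obtain ⟨Y⟩ := J4Eleven.exists_chart hJ'
  have hu' : g⁻¹ * u * g⁻¹⁻¹ ∈ CC (g⁻¹ * z * g⁻¹⁻¹) (cjS g⁻¹ P) := by
    rw [← cjS_CC]; exact ⟨u, hu, rfl⟩
  refine abelian_false hG hord X Y hu' ((MulEquiv.orderOf_eq (MulAut.conj g⁻¹) u).trans h11) (D.conj g⁻¹) ?_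
    (isConj_iff.2 ⟨g⁻¹, rfl⟩) V ?_
  · rintro _ ⟨a, ha, rfl⟩ _ ⟨b, hb, rfl⟩
    rw [← map_mul, hcon a ha b hb, map_mul]
  · rw [mem_cjS, inv_inv]; exact hg

include hG hord X hu h11 D in
/-- The centre of the core. -/
theorem center_core {a : G} (ha : a ∈ O) (hc : ∀ b ∈ O, a * b = b * a) : a ∈ zpowers u := by
  by_contra hau
  obtain ⟨b, hb, c, hc', hne⟩ := not_comm hG hord X hu h11 D
  have hcO := card_core hG hord X hu h11 D
  set K := zpowers u ⊔ zpowers a
  have hKO : K ≤ O := sup_le D.zpowers_le (Subgroup.zpowers_le.2 ha)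
  have hKc : ∀ k ∈ K, ∀ d ∈ O, k * d = d * k := by
    intro k hk d hd
    have hle : K ≤ centralizer ({d} : Set G) := sup_le
      (Subgroup.zpowers_le.2 (mem_centralizer_singleton_iff.2 (mem_centralizer_singleton_iff.1 (D.le hd)).symm))
      (Subgroup.zpowers_le.2 (mem_centralizer_singleton_iff.2 (hc d hd)))
    exact mem_centralizer_singleton_iff.1 (hle hk)
  have key : ∀ d ∈ O, ∀ e ∈ O, d * e = e * d := by
    intro d hd e he
    by_cases hdK : d ∈ K
    · exact hKc d hdK e he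
    set L := O ⊓ centralizer ({d} : Set G)
    have hKL : K ≤ L := fun k hk => ⟨hKO hk, mem_centralizer_singleton_iff.2 (hKc k hk d hd)⟩
    have hdL : d ∈ L := ⟨hd, mem_centralizer_singleton_iff.2 rfl⟩
    obtain ⟨i, -, hi⟩ := (Nat.dvd_prime_pow (by norm_num : Nat.Prime 11)).1
      (hcO ▸ card_dvd_of_le hKO)
    obtain ⟨j, hj', hj⟩ := (Nat.dvd_prime_pow (by norm_num : Nat.Prime 11)).1
      (hcO ▸ card_dvd_of_le (inf_le_left : L ≤ O))
    have h2 : 2 ≤ i := by
      by_contra hcon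
      refine hau ?_
      rw [eq_of_le_of_card_ge (le_sup_left : zpowers u ≤ K) (by
        rw [hi, Nat.card_zpowers, h11]
        calc 11 ^ i ≤ 11 ^ 1 := Nat.pow_le_pow_right (by norm_num) (by omega)
          _ = 11 := by norm_num)]
      exact mem_sup_right (mem_zpowers a)
    have h3 : i < j := by
      by_contra hcon
      push Not at hcon
      refine hdK ?_
      rw [eq_of_le_of_card_ge hKL (by rw [hi, hj]; exact Nat.pow_le_pow_right (by norm_num) hcon)]
      exact hdL
    have hL : L = O := eq_of_le_of_card_ge inf_le_left (by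
      rw [hj, hcO]; exact Nat.pow_le_pow_right (by norm_num) (by omega))
    rw [← hL] at he
    exact (mem_centralizer_singleton_iff.1 he.2).symm
  exact hne (key b hb c hc')

include hG hord X hu h11 D in
theorem norm_fix {n : G} (hn : n ∈ normalizer (O : Set G)) : n * u * n⁻¹ ∈ zpowers u := by
  refine center_core hG hord X hu h11 D (M22Order.conj_mem_of_mem_normalizer hn D.x_mem) fun b hb => ?_
  have hb' : n⁻¹ * b * n ∈ O := by
    simpa using M22Order.conj_mem_of_mem_normalizer (inv_mem hn) hb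
  have h1 := mem_centralizer_singleton_iff.1 (D.le hb')
  calc n * u * n⁻¹ * b = n * (u * (n⁻¹ * b * n)) * n⁻¹ := by group
    _ = n * ((n⁻¹ * b * n) * u) * n⁻¹ := by rw [h1]
    _ = _ := by group

include hG hord X hu h11 D in
theorem card_normalizer_core : Nat.card ↥(normalizer (O : Set G)) = 319440 := by
  classical
  set N := normalizer (O : Set G)
  have hUC : centralizer ({u} : Set G) ≤ N := fun c hc => M22Order.mem_normalizer_of_conj fun a ha => D.normal c hc a ha
  have horb := M22Order.ncard_conj_orbit N (hUC (mem_centralizer_singleton_iff.2 rfl) : u ∈ N)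
  rw [show (centralizer ({u} : Set G) ⊓ N : Subgroup G) = centralizer ({u} : Set G) from inf_eq_left.2 hUC,
    card_cent X hu h11 D, card_core hG hord X hu h11 D] at horb
  have hS : {w : G | ∃ g ∈ N, g * u * g⁻¹ = w} = (zpowers u : Set G) \ {1} := by
    ext w
    constructor
    · rintro ⟨g, hg, rfl⟩
      refine ⟨norm_fix hG hord X hu h11 D hg, fun e => ?_⟩
      rw [Set.mem_singleton_iff, conj_eq_one_iff] at e
      rw [e, orderOf_one] at h11
      norm_num at h11
    · rintro ⟨hw, hw1⟩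
      rw [SetLike.mem_coe, mem_zpowers_iff_mem_range_orderOf, Finset.mem_image] at hw
      obtain ⟨k, hk, rfl⟩ := hw
      rw [Finset.mem_range, h11] at hk
      have hk0 : ¬ 11 ∣ k := fun hd => hw1 (by
        obtain ⟨c, rfl⟩ := hd
        rw [Set.mem_singleton_iff, pow_mul, pow_eleven h11, one_pow])
      obtain ⟨m, -, hm⟩ := exists_aut X hu h11 hk0
      exact ⟨m, norm_core hG hord X hu h11 D (by rw [hm]; exact pow_mem (mem_zpowers u) k), hm⟩
  rw [hS, Set.ncard_sdiff_singleton_of_mem (one_mem _), ← Nat.card_coe_set_eq,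
    show Nat.card ↥(zpowers u : Set G) = 11 from (Nat.card_zpowers u).trans h11] at horb
  rw [← horb]
  norm_num

include hG hord X hu h11 D in
/-- The core is extraspecial of exponent eleven. -/
theorem core_structure : Cfsg.IsExtraspecial 11 ↥O ∧ Monoid.exponent ↥O = 11 := by
  haveI : Fact (Nat.Prime 11) := ⟨by norm_num⟩
  have hc := card_core hG hord X hu h11 D
  refine ⟨extraspecial_cube hc fun h => ?_, ?_⟩
  · obtain ⟨a, ha, b, hb, hne⟩ := not_comm hG hord X hu h11 D
    exact hne (congrArg Subtype.val (h ⟨a, ha⟩ ⟨b, hb⟩))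
  · have h : Monoid.exponent ↥O ∣ 11 := Monoid.exponent_dvd_of_forall_pow_eq_one fun a =>
      Subtype.ext (by rw [Subgroup.coe_pow]; exact pow_core hG hord X hu h11 D a.2)
    rcases (Nat.dvd_prime (by norm_num : Nat.Prime 11)).1 h with h1 | h1
    · exfalso
      have h2 := congrArg Subtype.val (Monoid.pow_exponent_eq_one (⟨u, D.x_mem⟩ : ↥O))
      rw [h1, pow_one] at h2
      have h2' : u = 1 := h2
      rw [h2', orderOf_one] at h11
      norm_num at h11
    · exact h1

include hG hord X hu h11 D in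
/-- Conjugation by the core is transitive on a coset of `⟨u⟩` outside it. -/
theorem coset_conj {a w : G} (ha : a ∈ O) (hau : a ∉ zpowers u) (hw : w ∈ zpowers u) :
    ∃ b ∈ O, b * a * b⁻¹ = w * a := by
  obtain ⟨b, hb, hne⟩ : ∃ b ∈ O, a * b ≠ b * a := by
    by_contra hcon
    push Not at hcon
    exact hau (center_core hG hord X hu h11 D ha hcon)
  obtain ⟨w0, hw0, e⟩ := D.comm hb ha
  have hb' : b * a * b⁻¹ = w0 * a := by rw [e, ← mul_assoc, mul_inv_cancel_right]
  have hw01 : w0 ≠ 1 := fun h1 => hne (by rw [h1, one_mul] at e; exact e.symm)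
  have hgen : zpowers w0 = zpowers u := by
    refine eq_of_le_of_card_ge (Subgroup.zpowers_le.2 hw0) ?_
    have h1 := (zpowers u).orderOf_dvd_natCard hw0
    rw [Nat.card_zpowers, h11] at h1
    rw [Nat.card_zpowers, Nat.card_zpowers, h11]
    rcases (Nat.dvd_prime (by norm_num : Nat.Prime 11)).1 h1 with r | r
    · exact absurd (orderOf_eq_one_iff.1 r) hw01
    · omega
  obtain ⟨k, hk⟩ : ∃ k : ℕ, w0 ^ k = w := by
    classical
    rw [← hgen, mem_zpowers_iff_mem_range_orderOf, Finset.mem_image] at hw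
    obtain ⟨k, -, hk⟩ := hw
    exact ⟨k, hk⟩
  refine ⟨b ^ k, pow_mem hb k, ?_⟩
  rw [← hk]
  clear hk
  induction k with
  | zero => simp
  | succ k ih =>
    have hfix : b * w0 ^ k * b⁻¹ = w0 ^ k := by
      rw [← D.commute_zpowers (pow_mem hw0 k) hb, mul_inv_cancel_right]
    calc b ^ (k + 1) * a * (b ^ (k + 1))⁻¹ = b * (b ^ k * a * (b ^ k)⁻¹) * b⁻¹ := by rw [pow_succ']; group
      _ = (b * w0 ^ k * b⁻¹) * (b * a * b⁻¹) := by rw [ih]; group
      _ = _ := by rw [hfix, hb', pow_succ, mul_assoc]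

include hG hord X hu h11 D in
/-- Only `⟨u⟩` in `C_H(u)` fixes a coset of `⟨u⟩` outside it. -/
theorem stab_coset {k a : G} (hk : k ∈ CH z u) (ha : a ∈ O) (hau : a ∉ zpowers u)
    (hka : k * a * k⁻¹ * a⁻¹ ∈ zpowers u) : k ∈ zpowers u := by
  classical
  by_contra hku
  set m := k ^ 11
  have hm1 : m ≠ 1 := fun r => hku (CH_eleven X hu h11 hk r)
  have hm24 : m ^ 24 = 1 := by
    rw [← pow_mul, show 11 * 24 = 264 from rfl, ← card_CH X hu h11]
    exact orderOf_dvd_iff_pow_eq_one.1 ((CH z u).orderOf_dvd_natCard hk)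
  obtain ⟨q, hq, hqd⟩ := Nat.exists_prime_and_dvd (n := orderOf m) (fun r => hm1 (orderOf_eq_one_iff.1 r))
  haveI := Fact.mk hq
  set y := m ^ (orderOf m / q) with hydef
  have hyo : orderOf y = q := orderOf_pow_orderOf_div (orderOf_pos m).ne' hqd
  have hyC : y ∈ CH z u := pow_mem (pow_mem hk 11) _
  have hky : ∃ l : ℕ, y = k ^ l := ⟨11 * (orderOf m / q), by rw [hydef, pow_mul]⟩
  obtain ⟨l, hl⟩ := hky
  let K : Set G := {b | ∃ w ∈ zpowers u, b = w * a}
  have hkK : ∀ b ∈ K, k * b * k⁻¹ ∈ K := by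
    rintro _ ⟨w, hw, rfl⟩
    refine ⟨(k * w * k⁻¹) * (k * a * k⁻¹ * a⁻¹), mul_mem ?_ hka, by group⟩
    obtain ⟨i, rfl⟩ := mem_zpowers_iff.1 hw
    rw [((show Commute k u from mem_centralizer_singleton_iff.1 hk.2).zpow_right i).eq, mul_inv_cancel_right]
    exact zpow_mem (mem_zpowers u) i
  have hyK : ∀ b ∈ K, y * b * y⁻¹ ∈ K := by
    intro b hb
    rw [hl]
    clear hl
    induction l with
    | zero => simpa using hb
    | succ l ih =>
      rw [show k ^ (l + 1) * b * (k ^ (l + 1))⁻¹ = k * (k ^ l * b * (k ^ l)⁻¹) * k⁻¹ by rw [pow_succ']; group]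
      exact hkK _ ih
  let f : ↥K → ↥K := fun b => ⟨y * b * y⁻¹, hyK b b.2⟩
  have hit : ∀ (n : ℕ) (b : ↥K), ((f^[n] b : ↥K) : G) = y ^ n * b * (y ^ n)⁻¹ := by
    intro n b
    induction n with
    | zero => simp
    | succ n ih =>
      rw [Function.iterate_succ_apply', pow_succ']
      show y * ((f^[n] b : ↥K) : G) * y⁻¹ = _
      rw [ih]; group
  have hmod := J4Seven.card_fixed_modEq f (p := q) fun b => Subtype.ext (by
    rw [hit, show y ^ q = 1 from hyo ▸ pow_orderOf_eq_one y]; simp)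
  have hK11 : Nat.card ↥K = 11 := by
    rw [← h11, ← Nat.card_zpowers u]
    exact Nat.card_congr (Equiv.ofBijective (fun w : ↥(zpowers u) => (⟨(w : G) * a, w, w.2, rfl⟩ : ↥K))
      ⟨fun a b r => Subtype.ext (mul_right_cancel (congrArg Subtype.val r)),
        fun ⟨_, w, hw, r⟩ => ⟨⟨w, hw⟩, Subtype.ext r.symm⟩⟩).symm
  have hq' : q = 2 ∨ q = 3 := by
    have h1 : q ∣ 2 ^ 3 * 3 := hqd.trans (orderOf_dvd_of_pow_eq_one hm24)
    rcases hq.dvd_mul.1 h1 with h | h
    · exact Or.inl ((Nat.prime_dvd_prime_iff_eq hq Nat.prime_two).1 (hq.dvd_of_dvd_pow h))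
    · exact Or.inr ((Nat.prime_dvd_prime_iff_eq hq Nat.prime_three).1 h)
  obtain ⟨⟨b, hb⟩⟩ : Nonempty {b : ↥K // f b = b} := by
    refine Finite.card_pos_iff.1 (Nat.pos_of_ne_zero fun r => ?_)
    rw [r, hK11] at hmod
    rcases hq' with rfl | rfl <;> norm_num [Nat.ModEq] at hmod
  obtain ⟨w, hw, hbw⟩ := b.2
  have hbO : (b : G) ∈ O := hbw ▸ mul_mem (D.zpowers_le hw) ha
  have hb1 : (b : G) ∉ zpowers u := fun r => hau (by
    have := mul_mem (inv_mem hw) (hbw ▸ r)
    rwa [inv_mul_cancel_left] at this)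
  have h2 := semiregular hG hord X hu h11 D hyC hbO hb1 (mul_inv_eq_iff_eq_mul.1 (congrArg Subtype.val hb))
  have h3 := (zpowers u).orderOf_dvd_natCard h2
  rw [Nat.card_zpowers, h11, hyo] at h3
  rcases hq' with rfl | rfl <;> norm_num at h3

section Second

variable {z' : G} {P' : Subgroup G} (Y : J4Eleven.Chart z' P') {u' : G} (hu' : u' ∈ CC z' P')
  (h11' : orderOf u' = 11) {U : Subgroup G} (D' : CoreData u' z' U) (hzz : IsConj z z') {v t : G}
  (V : VData X v t) (hv : v ∈ U)

include hG hord X hzz V Y hu' h11' D' hv in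
theorem v_not_u : v ∉ zpowers u' := fun h => by
  obtain ⟨k, hk⟩ := mem_zpowers_iff.1 h
  refine V.no_z hG hord X hzz ?_
  rw [← hk]
  exact ((show Commute z' u' from (mem_HH.1 hu'.1).symm).zpow_right k).eq

include hG hord X hzz V Y hu' h11' D' hv in
/-- `t` inverts the centre. -/
theorem t_inverts {O' : Subgroup G} (DO : CoreData v t O') : t * u' * t⁻¹ = u'⁻¹ := by
  have hvu := v_not_u hG hord X Y hu' h11' D' hzz V hv
  have huO : u' ∈ O' := by
    set Cv := centralizer ({v} : Set G)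
    have huC : u' ∈ Cv := mem_centralizer_singleton_iff.2 (mem_centralizer_singleton_iff.1 (D'.le hv)).symm
    let N : Subgroup ↥Cv := O'.subgroupOf Cv
    haveI : N.Normal := ⟨fun x hx g => DO.normal g g.2 x hx⟩
    have hidx : N.index = 2 := by
      have h1 := N.card_mul_index
      rw [Nat.card_congr (subgroupOfEquivOfLe DO.le).toEquiv, V.card_cent hG hord X DO] at h1
      have : 0 < Nat.card O' := Nat.card_pos
      nlinarith
    have h2 : orderOf (QuotientGroup.mk' N ⟨u', huC⟩) ∣ 11 := orderOf_dvd_of_pow_eq_one (by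
      rw [← map_pow, show (⟨u', huC⟩ : ↥Cv) ^ 11 = 1 from Subtype.ext (pow_eleven h11'), map_one])
    have h3 : orderOf (QuotientGroup.mk' N ⟨u', huC⟩) ∣ 2 := hidx ▸ orderOf_dvd_natCard _
    exact mem_subgroupOf.1 ((QuotientGroup.eq_one_iff (N := N) (⟨u', huC⟩ : ↥Cv)).1
      (orderOf_eq_one_iff.1 (Nat.eq_one_of_dvd_coprimes (by norm_num : Nat.Coprime 11 2) h2 h3)))
  obtain ⟨i, hi⟩ := mem_zpowers_iff.1 (DO.inv u' huO)
  have e : t * u' * t⁻¹ = v ^ i * u'⁻¹ := by rw [hi, mul_inv_cancel_right]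
  by_cases hvi : v ^ i = 1
  · rw [e, hvi, one_mul]
  exfalso
  have hviu : v ^ i ∉ zpowers u' := fun h => hvu (by
    have hgen : zpowers (v ^ i) = zpowers v := by
      refine eq_of_le_of_card_ge (Subgroup.zpowers_le.2 (zpow_mem (mem_zpowers v) i)) ?_
      have h1 := (zpowers v).orderOf_dvd_natCard (zpow_mem (mem_zpowers v) i)
      rw [Nat.card_zpowers, V.order_v] at h1
      rw [Nat.card_zpowers, Nat.card_zpowers, V.order_v]
      rcases (Nat.dvd_prime (by norm_num : Nat.Prime 11)).1 h1 with r | r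
      · exact absurd (orderOf_eq_one_iff.1 r) hvi
      · omega
    exact (Subgroup.zpowers_le.2 h) (hgen.symm ▸ mem_zpowers v))
  obtain ⟨b, hb, eb⟩ := coset_conj hG hord Y hu' h11' D' (zpow_mem hv i) hviu (inv_mem (mem_zpowers u'))
  have e2 : t * u' * t⁻¹ = b * v ^ i * b⁻¹ := by
    rw [e, eb, ← D'.commute_zpowers (inv_mem (mem_zpowers u')) (zpow_mem hv i)]
  -- a conjugate of `z` commutes with `v`
  set c := b⁻¹ * t
  have e3 : c * u' * c⁻¹ = v ^ i := by
    calc c * u' * c⁻¹ = b⁻¹ * (t * u' * t⁻¹) * b := by simp only [c]; group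
      _ = _ := by rw [e2]; group
  have hj : Commute (c * z' * c⁻¹) (v ^ i) := by
    rw [← e3]
    show c * z' * c⁻¹ * (c * u' * c⁻¹) = c * u' * c⁻¹ * (c * z' * c⁻¹)
    calc c * z' * c⁻¹ * (c * u' * c⁻¹) = c * (z' * u') * c⁻¹ := by group
      _ = _ := by rw [(mem_HH.1 hu'.1).symm]; group
  obtain ⟨l, hl⟩ : ∃ l : ℤ, (v ^ i) ^ l = v := by
    have hgen : zpowers (v ^ i) = zpowers v := by
      refine eq_of_le_of_card_ge (Subgroup.zpowers_le.2 (zpow_mem (mem_zpowers v) i)) ?_
      have h1 := (zpowers v).orderOf_dvd_natCard (zpow_mem (mem_zpowers v) i)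
      rw [Nat.card_zpowers, V.order_v] at h1
      rw [Nat.card_zpowers, Nat.card_zpowers, V.order_v]
      rcases (Nat.dvd_prime (by norm_num : Nat.Prime 11)).1 h1 with r | r
      · exact absurd (orderOf_eq_one_iff.1 r) hvi
      · omega
    exact mem_zpowers_iff.1 (hgen.symm ▸ mem_zpowers v)
  refine V.no_z hG hord X (hzz.trans (isConj_iff.2 ⟨c, rfl⟩)) ?_
  have := hj.zpow_right l
  rw [hl] at this
  exact this.eq

include hG hord X hzz V Y hu' h11' D' hv in
/-- An involution of `C(z)` inverting `u`. -/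
theorem exists_inverter : ∃ r ∈ HH z', r * r = 1 ∧ r * u' * r⁻¹ = u'⁻¹ := by
  classical
  obtain ⟨O', DO⟩ := V.coreV hG hord X
  have htu := t_inverts hG hord X Y hu' h11' D' hzz V hv DO
  have htN : t ∈ normalizer (U : Set G) :=
    norm_core hG hord Y hu' h11' D' (by rw [htu]; exact inv_mem (mem_zpowers u'))
  have htt : t * t = 1 := X.std_eleven.sq _ V.t_mem.1
  have ht' : t⁻¹ = t := inv_eq_of_mul_eq_one_right htt
  set j := t * z' * t⁻¹
  have hzz2 : z' * z' = 1 := Y.L.J.ctr.zz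
  have hjC : j ∈ centralizer ({u'} : Set G) := by
    refine mem_centralizer_singleton_iff.2 ?_
    have e1 : Commute j u'⁻¹ := by
      rw [← htu]
      show t * z' * t⁻¹ * (t * u' * t⁻¹) = t * u' * t⁻¹ * (t * z' * t⁻¹)
      calc t * z' * t⁻¹ * (t * u' * t⁻¹) = t * (z' * u') * t⁻¹ := by group
        _ = _ := by rw [(mem_HH.1 hu'.1).symm]; group
    simpa using e1.inv_right.eq
  obtain ⟨o, ho, k, hk, e⟩ := D'.dec _ hjC
  have hkC : k ∈ CH z' u' := mem_inf.2 ⟨(mem_inf.1 hk).2, (mem_inf.1 hk).1⟩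
  have hjj : j * j = 1 := by
    calc j * j = t * (z' * z') * t⁻¹ := by simp only [j]; group
      _ = 1 := by rw [hzz2]; group
  have hk2 : k * k ∈ zpowers u' := by
    have hmem : k * k ∈ U := by
      have h1 : o * (k * o * k⁻¹) * (k * k) = 1 := by rw [← hjj, e]; group
      rw [eq_inv_of_mul_eq_one_right h1]
      exact inv_mem (mul_mem ho (D'.normal k (mem_inf.1 hk).1 o ho))
    exact D'.inter _ hmem (mem_centralizer_singleton_iff.1 (mul_mem (mem_inf.1 hk).2 (mem_inf.1 hk).2))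
  set m := k ^ 11
  have hm2 : m * m = 1 := by
    show k ^ 11 * k ^ 11 = 1
    rw [← (Commute.refl k).mul_pow]
    obtain ⟨i, hi⟩ := mem_zpowers_iff.1 hk2
    rw [← hi, ← zpow_natCast, ← zpow_mul, mul_comm, zpow_mul, zpow_natCast, pow_eleven h11', one_zpow]
  have hm1 : m ≠ 1 := fun e1 => by
    have hjU : j ∈ U := e ▸ mul_mem ho (D'.zpowers_le (CH_eleven Y hu' h11' hkC e1))
    have h1 := U.orderOf_dvd_natCard hjU
    rw [show orderOf j = orderOf z' from MulEquiv.orderOf_eq (MulAut.conj t) z', Y.L.J.two,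
      card_core hG hord Y hu' h11' D'] at h1
    norm_num at h1
  have hmz : m = z' := CH_invol Y hu' h11' (pow_mem hkC 11) hm2 hm1
  have hkz : k * z' ∈ zpowers u' := by
    rw [← hmz]
    show k * k ^ 11 ∈ zpowers u'
    rw [← pow_succ', show (11 + 1 : ℕ) = 2 * 6 from rfl, pow_mul, pow_two]
    exact pow_mem hk2 6
  set o' := o * (k * z')
  have ho' : o' ∈ U := mul_mem ho (D'.zpowers_le hkz)
  have e' : j = o' * z' := by
    rw [e]; simp only [o']
    calc o * k = o * k * (z' * z') := by rw [hzz2, mul_one]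
      _ = _ := by group
  have hinv : z' * o' * z'⁻¹ = o'⁻¹ := by
    have h1 : o' * (z' * o' * z'⁻¹) * (z' * z') = 1 := by rw [← hjj, e']; group
    rw [hzz2, mul_one] at h1
    exact eq_inv_of_mul_eq_one_right h1
  have hp : ∀ a ∈ U, a ^ 11 = 1 := fun a ha => pow_core hG hord Y hu' h11' D' ha
  set c := o' ^ 6
  have hcU : c ∈ U := pow_mem ho' 6
  have ejc : j = c * z' * c⁻¹ := by
    have h1 : z' * c⁻¹ * z'⁻¹ = c := by
      simp only [c]
      rw [← inv_pow, ← conj_pow, ← conj_inv, hinv, inv_inv]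
    calc j = o' * z' := e'
      _ = (c * c) * z' := by
        simp only [c]
        rw [← pow_add, show 6 + 6 = 11 + 1 from rfl, pow_succ, hp o' ho', one_mul]
      _ = c * (z' * c⁻¹ * z'⁻¹) * z' := by rw [h1]
      _ = _ := by group
  have hw : t * c * t⁻¹ * c ∈ zpowers u' := by
    refine D'.inter _ (mul_mem (M22Order.conj_mem_of_mem_normalizer htN hcU) hcU) ?_
    have h1 : z' = t * j * t⁻¹ := by
      calc z' = (t * t) * z' * (t * t)⁻¹ := by rw [htt]; group
        _ = _ := by simp only [j]; group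
    have h2 : z' = (t * c * t⁻¹ * c) * z' * (t * c * t⁻¹ * c)⁻¹ := by
      calc z' = t * (c * z' * c⁻¹) * t⁻¹ := by rw [← ejc]; exact h1
        _ = (t * c * t⁻¹) * j * (t * c * t⁻¹)⁻¹ := by simp only [j]; group
        _ = _ := by rw [ejc]; group
    exact (eq_mul_inv_iff_mul_eq.1 h2).symm
  obtain ⟨w, hwm, ew⟩ : ∃ w ∈ zpowers u', t * c * t⁻¹ = w * c⁻¹ := ⟨_, hw, by group⟩
  set d := c ^ 6
  have hd : d ∈ U := pow_mem hcU 6
  have e5 : t * d * t⁻¹ * c = w ^ 6 * d := by
    simp only [d]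
    rw [← conj_pow, ew, (show Commute w c⁻¹ from D'.commute_zpowers hwm (inv_mem hcU)).mul_pow, mul_assoc]
    congr 1
    calc c⁻¹ ^ 6 * c = c⁻¹ ^ 6 * c * c ^ 11 := by rw [hp c hcU, mul_one]
      _ = c ^ 6 := by group
  have hzd : t * (d * z' * d⁻¹) * t⁻¹ = d * z' * d⁻¹ := by
    have hwz : Commute (w ^ 6) (d * z' * d⁻¹) := by
      obtain ⟨l, hl⟩ := mem_zpowers_iff.1 (pow_mem hwm 6 : w ^ 6 ∈ zpowers u')
      rw [← hl]
      have h1 : Commute u' (d * z' * d⁻¹) := by
        have h2 : Commute u' d := (mem_centralizer_singleton_iff.1 (D'.le hd)).symm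
        exact (h2.mul_right (show Commute u' z' from mem_HH.1 hu'.1)).mul_right h2.inv_right
      exact h1.zpow_left l
    calc t * (d * z' * d⁻¹) * t⁻¹ = (t * d * t⁻¹) * j * (t * d * t⁻¹)⁻¹ := by simp only [j]; group
      _ = (t * d * t⁻¹ * c) * z' * (t * d * t⁻¹ * c)⁻¹ := by rw [ejc]; group
      _ = w ^ 6 * (d * z' * d⁻¹) * (w ^ 6)⁻¹ := by rw [e5]; group
      _ = _ := by rw [hwz.eq, mul_inv_cancel_right]
  refine ⟨d⁻¹ * t * d, mem_HH.2 ?_, ?_, ?_⟩
  · have := mul_inv_eq_iff_eq_mul.1 hzd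
    calc d⁻¹ * t * d * z' = d⁻¹ * (t * (d * z' * d⁻¹)) * d := by group
      _ = d⁻¹ * ((d * z' * d⁻¹) * t) * d := by rw [this]
      _ = _ := by group
  · calc d⁻¹ * t * d * (d⁻¹ * t * d) = d⁻¹ * (t * t) * d := by group
      _ = 1 := by rw [htt]; group
  · have h2 : Commute d u' := mem_centralizer_singleton_iff.1 (D'.le hd)
    calc d⁻¹ * t * d * u' * (d⁻¹ * t * d)⁻¹ = d⁻¹ * (t * (d * u' * d⁻¹) * t⁻¹) * d := by group
      _ = d⁻¹ * u'⁻¹ * d := by rw [h2.eq, mul_inv_cancel_right, htu]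
      _ = _ := by rw [h2.inv_left.inv_right.eq, inv_mul_cancel_right]

include hG hord X hzz V Y hu' h11' D' hv in
/-- The elements outside the centre form one orbit of the normaliser. -/
theorem orbit_all {w : G} (hw : w ∈ U) (hwu : w ∉ zpowers u') : ∃ g : G, g * v * g⁻¹ = w := by
  classical
  obtain ⟨O', DO⟩ := V.coreV hG hord X
  have hvu := v_not_u hG hord X Y hu' h11' D' hzz V hv
  set N := normalizer (U : Set G)
  have horb := M22Order.ncard_conj_orbit N (le_normalizer hv : v ∈ N)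
  rw [card_normalizer_core hG hord Y hu' h11' D'] at horb
  set K := centralizer ({v} : Set G) ⊓ N
  have hidx : Nat.card K ≤ 2 * Nat.card ↥(K ⊓ O') := by
    let N' : Subgroup ↥K := O'.subgroupOf K
    have h1 := N'.card_mul_index
    have h2 : N'.index ∣ 2 := by
      haveI : (O'.subgroupOf (centralizer ({v} : Set G))).Normal := ⟨fun x hx g => DO.normal g g.2 x hx⟩
      have h3 := relIndex_dvd_index_of_normal (O'.subgroupOf (centralizer ({v} : Set G)))
        (K.subgroupOf (centralizer ({v} : Set G)))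
      rw [relIndex_subgroupOf (inf_le_left : K ≤ centralizer ({v} : Set G))] at h3
      have h4 : (O'.subgroupOf (centralizer ({v} : Set G))).index = 2 := by
        have h5 := (O'.subgroupOf (centralizer ({v} : Set G))).card_mul_index
        rw [Nat.card_congr (subgroupOfEquivOfLe DO.le).toEquiv, V.card_cent hG hord X DO] at h5
        have : 0 < Nat.card O' := Nat.card_pos
        nlinarith
      rw [h4] at h3
      exact h3
    have h6 : Nat.card ↥N' = Nat.card ↥(K ⊓ O') := by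
      rw [← card_map_of_injective (f := K.subtype) K.subtype_injective]
      congr 1
      have : N'.map K.subtype = K ⊓ O' := by rw [subgroupOf_map_subtype, inf_comm]
      rw [this]
    rw [← h1, ← h6, mul_comm]
    exact Nat.mul_le_mul_right _ (Nat.le_of_dvd two_pos h2)
  have hKO : K ⊓ O' ≤ U ⊓ centralizer ({v} : Set G) := by
    rintro g ⟨⟨hgv, hgN⟩, hgO⟩
    refine ⟨?_, hgv⟩
    have huO : u' ∈ O' := by
      have huC : u' ∈ centralizer ({v} : Set G) :=
        mem_centralizer_singleton_iff.2 (mem_centralizer_singleton_iff.1 (D'.le hv)).symm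
      obtain ⟨o, ho, k, hk, e⟩ := DO.dec _ huC
      let NN : Subgroup ↥(centralizer ({v} : Set G)) := O'.subgroupOf _
      haveI : NN.Normal := ⟨fun x hx g => DO.normal g g.2 x hx⟩
      have hi2 : NN.index = 2 := by
        have h1 := NN.card_mul_index
        rw [Nat.card_congr (subgroupOfEquivOfLe DO.le).toEquiv, V.card_cent hG hord X DO] at h1
        have : 0 < Nat.card O' := Nat.card_pos
        nlinarith
      have h2 : orderOf (QuotientGroup.mk' NN ⟨u', huC⟩) ∣ 11 := orderOf_dvd_of_pow_eq_one (by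
        rw [← map_pow, show (⟨u', huC⟩ : ↥(centralizer ({v} : Set G))) ^ 11 = 1 from
          Subtype.ext (pow_eleven h11'), map_one])
      have h3 : orderOf (QuotientGroup.mk' NN ⟨u', huC⟩) ∣ 2 := hi2 ▸ orderOf_dvd_natCard _
      exact mem_subgroupOf.1 ((QuotientGroup.eq_one_iff (N := NN)
        (⟨u', huC⟩ : ↥(centralizer ({v} : Set G)))).1
        (orderOf_eq_one_iff.1 (Nat.eq_one_of_dvd_coprimes (by norm_num : Nat.Coprime 11 2) h2 h3)))
    obtain ⟨w', hw', ew⟩ := DO.comm hgO huO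
    have hfix := norm_fix hG hord Y hu' h11' D' hgN
    have hgu : g * u' * g⁻¹ = w' * u' := by rw [ew, ← mul_assoc, mul_inv_cancel_right]
    have hw1 : w' = 1 := by
      have h1 : w' ∈ zpowers u' := by
        have := mul_mem hfix (inv_mem (mem_zpowers u'))
        rwa [hgu, mul_inv_cancel_right] at this
      by_contra hne
      refine hvu ?_
      have hgen : zpowers w' = zpowers v := by
        refine eq_of_le_of_card_ge (Subgroup.zpowers_le.2 hw') ?_
        have h4 := (zpowers v).orderOf_dvd_natCard hw'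
        rw [Nat.card_zpowers, V.order_v] at h4
        rw [Nat.card_zpowers, Nat.card_zpowers, V.order_v]
        rcases (Nat.dvd_prime (by norm_num : Nat.Prime 11)).1 h4 with r | r
        · exact absurd (orderOf_eq_one_iff.1 r) hne
        · omega
      exact (Subgroup.zpowers_le.2 h1) (hgen.symm ▸ mem_zpowers v)
    rw [hw1, one_mul] at hgu
    obtain ⟨o, ho, k, hk, e⟩ := D'.dec g (mem_centralizer_singleton_iff.2 (mul_inv_eq_iff_eq_mul.1 hgu))
    have hk' : k ∈ CH z' u' := mem_inf.2 ⟨(mem_inf.1 hk).2, (mem_inf.1 hk).1⟩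
    have hkv : k * v * k⁻¹ * v⁻¹ ∈ zpowers u' := by
      have hgv' : g * v * g⁻¹ = v := by
        rw [mem_centralizer_singleton_iff.1 hgv, mul_inv_cancel_right]
      obtain ⟨w2, hw2, e2⟩ := D'.comm (inv_mem ho) hv
      have h1 : k * v * k⁻¹ = o⁻¹ * v * o := by
        calc k * v * k⁻¹ = o⁻¹ * (g * v * g⁻¹) * o := by rw [e]; group
          _ = _ := by rw [hgv']
      rw [h1, e2]
      simpa [mul_assoc] using hw2
    rw [e]
    exact mul_mem ho (D'.zpowers_le (stab_coset hG hord Y hu' h11' D' hk' hv hvu hkv))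
  have hUv : Nat.card ↥(U ⊓ centralizer ({v} : Set G)) ≤ 121 := by
    obtain ⟨i, hi3, hi⟩ := (Nat.dvd_prime_pow (by norm_num : Nat.Prime 11)).1
      (card_core hG hord Y hu' h11' D' ▸ card_dvd_of_le (inf_le_left : U ⊓ centralizer ({v} : Set G) ≤ U))
    have hne : i ≠ 3 := fun e => hvu (center_core hG hord Y hu' h11' D' hv fun b hb => by
      have he : U ⊓ centralizer ({v} : Set G) = U :=
        eq_of_le_of_card_ge inf_le_left (by rw [hi, e, card_core hG hord Y hu' h11' D'])
      rw [← he] at hb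
      exact (mem_centralizer_singleton_iff.1 hb.2).symm)
    rw [hi]
    calc 11 ^ i ≤ 11 ^ 2 := Nat.pow_le_pow_right (by norm_num) (by omega)
      _ = 121 := by norm_num
  have hK242 : Nat.card K ≤ 242 :=
    hidx.trans (Nat.mul_le_mul_left 2 ((Subgroup.card_le_of_le hKO).trans hUv))
  set S := {x : G | ∃ g ∈ N, g * v * g⁻¹ = x}
  have hS : 1320 ≤ S.ncard := by
    have h0 : 0 < Nat.card K := Nat.card_pos
    by_contra hcon
    push Not at hcon
    have : S.ncard * Nat.card K < 1320 * 242 :=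
      lt_of_le_of_lt (Nat.mul_le_mul_left _ hK242) (Nat.mul_lt_mul_of_pos_right hcon (by norm_num))
    omega
  have hsub : S ⊆ (U : Set G) \ (zpowers u' : Set G) := by
    rintro _ ⟨g, hg, rfl⟩
    refine ⟨M22Order.conj_mem_of_mem_normalizer hg hv, fun h => hvu ?_⟩
    obtain ⟨i, hi⟩ := mem_zpowers_iff.1 h
    obtain ⟨l, hl⟩ := mem_zpowers_iff.1 (norm_fix hG hord Y hu' h11' D' (inv_mem hg))
    refine mem_zpowers_iff.2 ⟨l * i, ?_⟩
    rw [zpow_mul, hl, conj_zpow, hi]
    group
  have hcard : ((U : Set G) \ (zpowers u' : Set G)).ncard = 1320 := by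
    rw [Set.ncard_sdiff (fun a ha => D'.zpowers_le ha), ← Nat.card_coe_set_eq, ← Nat.card_coe_set_eq]
    show Nat.card ↥U - Nat.card ↥(zpowers u') = 1320
    rw [card_core hG hord Y hu' h11' D', Nat.card_zpowers, h11']
    norm_num
  have heq := Set.eq_of_subset_of_ncard_le hsub (by rw [hcard]; exact hS) (Set.toFinite _)
  obtain ⟨g, -, hg⟩ : w ∈ S := heq ▸ ⟨hw, hwu⟩
  exact ⟨g, hg⟩

include hG hord X hzz V Y hu' h11' D' hv in
/-- The prime divisors of the centraliser of `v`. -/
theorem cent_v_primes {q : ℕ} (hq : q.Prime) (hd : q ∣ Nat.card ↥(centralizer ({v} : Set G))) :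
    q = 2 ∨ q = 11 := by
  by_contra hcon
  push Not at hcon
  haveI := Fact.mk hq
  obtain ⟨O', DO⟩ := V.coreV hG hord X
  have hdO : q ∣ Nat.card O' := by
    rw [V.card_cent hG hord X DO] at hd
    exact (hq.dvd_mul.1 hd).resolve_left fun h => hcon.1 ((Nat.prime_dvd_prime_iff_eq hq Nat.prime_two).1 h)
  obtain ⟨⟨a, ha⟩, hao⟩ := exists_prime_orderOf_dvd_card' (G := ↥O') q hdO
  rw [Subgroup.orderOf_mk] at hao
  have huO : u' ∈ O' := by
    have huC : u' ∈ centralizer ({v} : Set G) :=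
      mem_centralizer_singleton_iff.2 (mem_centralizer_singleton_iff.1 (D'.le hv)).symm
    let NN : Subgroup ↥(centralizer ({v} : Set G)) := O'.subgroupOf _
    haveI : NN.Normal := ⟨fun x hx g => DO.normal g g.2 x hx⟩
    have hi2 : NN.index = 2 := by
      have h1 := NN.card_mul_index
      rw [Nat.card_congr (subgroupOfEquivOfLe DO.le).toEquiv, V.card_cent hG hord X DO] at h1
      have : 0 < Nat.card O' := Nat.card_pos
      nlinarith
    have h2 : orderOf (QuotientGroup.mk' NN ⟨u', huC⟩) ∣ 11 := orderOf_dvd_of_pow_eq_one (by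
      rw [← map_pow, show (⟨u', huC⟩ : ↥(centralizer ({v} : Set G))) ^ 11 = 1 from
        Subtype.ext (pow_eleven h11'), map_one])
    have h3 : orderOf (QuotientGroup.mk' NN ⟨u', huC⟩) ∣ 2 := hi2 ▸ orderOf_dvd_natCard _
    exact mem_subgroupOf.1 ((QuotientGroup.eq_one_iff (N := NN)
      (⟨u', huC⟩ : ↥(centralizer ({v} : Set G)))).1
      (orderOf_eq_one_iff.1 (Nat.eq_one_of_dvd_coprimes (by norm_num : Nat.Coprime 11 2) h2 h3)))
  have hau : a * u' = u' * a := DO.central ha (by
    rw [hao, V.order_v]; exact (Nat.coprime_primes hq (by norm_num)).2 hcon.2) huO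
  have haC : a ∈ centralizer ({u'} : Set G) := mem_centralizer_singleton_iff.2 hau
  have hd' := (centralizer ({u'} : Set G)).orderOf_dvd_natCard haC
  rw [hao, card_cent Y hu' h11' D', card_core hG hord Y hu' h11' D',
    show (11 : ℕ) ^ 3 * 24 = 11 ^ 3 * (2 ^ 3 * 3) by norm_num] at hd'
  rcases hq.dvd_mul.1 hd' with h | h
  · exact hcon.2 ((Nat.prime_dvd_prime_iff_eq hq (by norm_num)).1 (hq.dvd_of_dvd_pow h))
  rcases hq.dvd_mul.1 h with h | h
  · exact hcon.1 ((Nat.prime_dvd_prime_iff_eq hq Nat.prime_two).1 (hq.dvd_of_dvd_pow h))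
  have hq3 : q = 3 := (Nat.prime_dvd_prime_iff_eq hq Nat.prime_three).1 h
  subst hq3
  refine cube_cent hG X.L.J hao (zpowers u' ⊔ zpowers v) (sup_le ?_ ?_) ?_
  · exact Subgroup.zpowers_le.2 (mem_centralizer_singleton_iff.2 hau.symm)
  · exact Subgroup.zpowers_le.2 (mem_centralizer_singleton_iff.2 (mem_centralizer_singleton_iff.1 (DO.le ha)).symm)
  have hle : zpowers u' ⊔ zpowers v ≤ U := sup_le D'.zpowers_le (Subgroup.zpowers_le.2 hv)
  obtain ⟨j, -, hj⟩ := (Nat.dvd_prime_pow (by norm_num : Nat.Prime 11)).1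
    (card_core hG hord Y hu' h11' D' ▸ card_dvd_of_le hle)
  rw [hj]
  refine pow_dvd_pow 11 ?_
  by_contra hj2
  refine v_not_u hG hord X Y hu' h11' D' hzz V hv ?_
  rw [eq_of_le_of_card_ge (le_sup_left : zpowers u' ≤ zpowers u' ⊔ zpowers v) (by
    rw [hj, Nat.card_zpowers, h11']
    calc 11 ^ j ≤ 11 ^ 1 := Nat.pow_le_pow_right (by norm_num) (by omega)
      _ = 11 := by norm_num)]
  exact mem_sup_right (mem_zpowers v)

end Second

include hG hord in
/-- Everything about one Sylow 11-subgroup at a suitable conjugate. -/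
theorem exists_setting : ∀ {z : G} {P : Subgroup G} (X : J4Eleven.Chart z P), ∃ z' : G, ∃ P' : Subgroup G,
    ∃ _Y : J4Eleven.Chart z' P', ∃ u' U v t,
      IsConj z z' ∧ u' ∈ CC z' P' ∧ orderOf u' = 11 ∧ CoreData u' z' U ∧ VData X v t ∧ v ∈ U := by
  intro z P X
  obtain ⟨u, hu, h11⟩ := exists_eleven X
  obtain ⟨O, D⟩ := coreU X hu h11
  obtain ⟨v, hv, hv11⟩ := exists_v hG X
  obtain ⟨t, V⟩ := exists_t hG X hv hv11
  obtain ⟨g, hg⟩ := exists_conj_core hG hord X hu h11 D V.v_pow
  obtain ⟨Y⟩ := J4Eleven.exists_chart (X.L.J.conj g⁻¹)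
  refine ⟨_, _, Y, g⁻¹ * u * g⁻¹⁻¹, _, v, t, isConj_iff.2 ⟨g⁻¹, rfl⟩, ?_,
    (MulEquiv.orderOf_eq (MulAut.conj g⁻¹) u).trans h11, D.conj g⁻¹, V, ?_⟩
  · rw [← cjS_CC]; exact ⟨u, hu, rfl⟩
  · rw [mem_cjS, inv_inv]; exact hg

end Cfsg.Agent.J4Sylow
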