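import Cfsg.Agent.Lib.J4Sylow.MCent

/-!
# Janko four type: the core as Sylow 11-subgroup and its normaliser
-/

set_option autoImplicit false
set_option linter.style.haveILetI false
set_option linter.unusedSectionVars false

namespace Cfsg.Agent.J4Sylow

open Subgroup Cfsg.Agent.J4Local

variable {G : Type*} [Group G] [Finite G] {z : G} {P : Subgroup G}

theorem CoreData.conj {x i : G} {O : Subgroup G} (D : CoreData x i O) (g : G) :
    CoreData (g * x * g⁻¹) (g * i * g⁻¹) (cjS g O) where
  le := by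
    intro a ha
    rw [mem_cjS] at ha
    refine mem_centralizer_singleton_iff.2 ?_
    have h1 := mem_centralizer_singleton_iff.1 (D.le ha)
    calc a * (g * x * g⁻¹) = g * (g⁻¹ * a * g * x) * g⁻¹ := by group
      _ = _ := by rw [h1]; group
  odd := by rw [card_cjS]; exact D.odd
  normal := by
    intro c hc o ho
    rw [mem_cjS] at ho ⊢
    have h1 : g⁻¹ * c * g ∈ centralizer ({x} : Set G) := mem_centralizer_singleton_iff.2 (by
      have h2 := mem_centralizer_singleton_iff.1 hc
      calc g⁻¹ * c * g * x = g⁻¹ * (c * (g * x * g⁻¹)) * g := by group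
        _ = _ := by rw [h2]; group)
    have := D.normal _ h1 _ ho
    rwa [show g⁻¹ * c * g * (g⁻¹ * o * g) * (g⁻¹ * c * g)⁻¹ = g⁻¹ * (c * o * c⁻¹) * g by group] at this
  x_mem := ⟨x, D.x_mem, rfl⟩
  i_mem := mem_centralizer_singleton_iff.2 (by
    have h1 := mem_centralizer_singleton_iff.1 D.i_mem
    calc g * i * g⁻¹ * (g * x * g⁻¹) = g * (i * x) * g⁻¹ := by group
      _ = _ := by rw [h1]; group)
  inter := by
    intro o ho hoi
    rw [mem_cjS] at ho
    have h1 := D.inter _ ho (by
      calc g⁻¹ * o * g * i = g⁻¹ * (o * (g * i * g⁻¹)) * g := by group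
        _ = _ := by rw [hoi]; group)
    rw [← cjS_zpowers, mem_cjS]; exact h1
  dec := by
    intro c hc
    have h1 : g⁻¹ * c * g ∈ centralizer ({x} : Set G) := mem_centralizer_singleton_iff.2 (by
      have h2 := mem_centralizer_singleton_iff.1 hc
      calc g⁻¹ * c * g * x = g⁻¹ * (c * (g * x * g⁻¹)) * g := by group
        _ = _ := by rw [h2]; group)
    obtain ⟨o, ho, k, hk, e⟩ := D.dec _ h1
    refine ⟨g * o * g⁻¹, ⟨o, ho, rfl⟩, g * k * g⁻¹, ⟨?_, ?_⟩, ?_⟩
    · exact mem_centralizer_singleton_iff.2 (by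
        calc g * k * g⁻¹ * (g * x * g⁻¹) = g * (k * x) * g⁻¹ := by group
          _ = _ := by rw [mem_centralizer_singleton_iff.1 hk.1]; group)
    · exact mem_centralizer_singleton_iff.2 (by
        calc g * k * g⁻¹ * (g * i * g⁻¹) = g * (k * i) * g⁻¹ := by group
          _ = _ := by rw [mem_centralizer_singleton_iff.1 hk.2]; group)
    · calc c = g * (g⁻¹ * c * g) * g⁻¹ := by group
        _ = _ := by rw [e]; group
  inv := by
    intro o ho
    rw [mem_cjS] at ho
    rw [← cjS_zpowers, mem_cjS]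
    have := D.inv _ ho
    rwa [show g⁻¹ * (g * i * g⁻¹ * o * (g * i * g⁻¹)⁻¹ * o) * g = i * (g⁻¹ * o * g) * i⁻¹ * (g⁻¹ * o * g) by group]

variable [IsSimpleGroup G] (hG : ¬ IsMulCommutative G) (hord : Nat.card G = order)
  (X : J4Eleven.Chart z P) {u : G} (hu : u ∈ CC z P) (h11 : orderOf u = 11) {O : Subgroup G}
  (D : CoreData u z O)

include hG hord X hu h11 D in
theorem mem_core {a : G} (ha : a ∈ centralizer ({u} : Set G)) (h : a ^ 11 = 1) : a ∈ O := by
  set C := centralizer ({u} : Set G)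
  let N : Subgroup ↥C := O.subgroupOf C
  haveI : N.Normal := ⟨fun x hx g => D.normal g g.2 x hx⟩
  have hidx : N.index = 24 := by
    have h1 := N.card_mul_index
    rw [Nat.card_congr (subgroupOfEquivOfLe D.le).toEquiv, card_cent X hu h11 D,
      card_core hG hord X hu h11 D] at h1
    omega
  have h2 : orderOf (QuotientGroup.mk' N ⟨a, ha⟩) ∣ 11 := orderOf_dvd_of_pow_eq_one (by
    rw [← map_pow, show (⟨a, ha⟩ : ↥C) ^ 11 = 1 from Subtype.ext h, map_one])
  have h3 : orderOf (QuotientGroup.mk' N ⟨a, ha⟩) ∣ 24 := hidx ▸ orderOf_dvd_natCard _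
  have h4 := orderOf_eq_one_iff.1 (Nat.eq_one_of_dvd_coprimes (by norm_num : Nat.Coprime 11 24) h2 h3)
  exact mem_subgroupOf.1 ((QuotientGroup.eq_one_iff (N := N) (⟨a, ha⟩ : ↥C)).1 h4)

include hG hord X hu h11 D in
theorem core_card_sylow : Nat.card O = 11 ^ (Nat.card G).factorization 11 := by
  rw [hord, factorization_eleven, card_core hG hord X hu h11 D]

include hG hord X hu h11 D in
/-- An element fixing `⟨u⟩` normalises the core. -/
theorem norm_core {n : G} (hn : n * u * n⁻¹ ∈ zpowers u) : n ∈ normalizer (O : Set G) := by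
  refine M22Order.mem_normalizer_of_conj fun a ha => ?_
  refine mem_core hG hord X hu h11 D (mem_centralizer_singleton_iff.2 ?_) ?_
  · have hgen : zpowers (n * u * n⁻¹) = zpowers u := by
      refine eq_of_le_of_card_ge (Subgroup.zpowers_le.2 hn) ?_
      rw [Nat.card_zpowers, Nat.card_zpowers,
        show orderOf (n * u * n⁻¹) = orderOf u from MulEquiv.orderOf_eq (MulAut.conj n) u]
    obtain ⟨i, hi⟩ := mem_zpowers_iff.1 (hgen.symm ▸ mem_zpowers u)
    rw [← hi]
    have h1 : Commute (n * a * n⁻¹) (n * u * n⁻¹) := by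
      show n * a * n⁻¹ * (n * u * n⁻¹) = n * u * n⁻¹ * (n * a * n⁻¹)
      calc n * a * n⁻¹ * (n * u * n⁻¹) = n * (a * u) * n⁻¹ := by group
        _ = _ := by rw [mem_centralizer_singleton_iff.1 (D.le ha)]; group
    exact (h1.zpow_right i).eq
  · rw [conj_pow, pow_core hG hord X hu h11 D ha, mul_one, mul_inv_cancel]

end Cfsg.Agent.J4Sylow
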